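import Groth.Agent.FinHopf.Connected

/-! Finite group schemes over an algebraically closed field: points and local components. -/

set_option autoImplicit false
universe u v

open TensorProduct WithConv

noncomputable section

namespace Groth.Agent.FinHopf

variable (k : Type u) [Field k] [IsAlgClosed k] (A : Type v) [CommRing A] [HopfAlgebra k A]
  [FiniteDimensional k A]

/-- The ideal of the point `g`. -/
def ptIdeal (g : A →ₐ[k] k) : Ideal A := RingHom.ker g

theorem exists_eq_ptIdeal (m : Ideal A) [m.IsMaximal] : ∃ g : A →ₐ[k] k, m = ptIdeal k A g := by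
  letI := Ideal.Quotient.field m
  haveI : Module.Finite k (A ⧸ m) := Module.Finite.of_surjective (Ideal.Quotient.mkₐ k m).toLinearMap
    Ideal.Quotient.mk_surjective
  have hb : Function.Bijective (Algebra.ofId k (A ⧸ m)) :=
    IsAlgClosed.algebraMap_bijective_of_isIntegral
  refine ⟨(AlgEquiv.ofBijective _ hb).symm.toAlgHom.comp (Ideal.Quotient.mkₐ k m), ?_⟩
  ext a
  rw [ptIdeal, RingHom.mem_ker, AlgHom.comp_apply]
  change a ∈ m ↔ (AlgEquiv.ofBijective _ hb).symm (Ideal.Quotient.mk m a) = 0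
  rw [EmbeddingLike.map_eq_zero_iff, Ideal.Quotient.eq_zero_iff_mem]

theorem ptIdeal_isMaximal (g : A →ₐ[k] k) : (ptIdeal k A g).IsMaximal :=
  RingHom.ker_isMaximal_of_surjective g fun c => ⟨algebraMap k A c, by simp⟩

theorem ptIdeal_injective : Function.Injective (ptIdeal k A) := by
  intro g h e
  ext a
  have : a - algebraMap k A (g a) ∈ ptIdeal k A h := e ▸ sub_algebraMap_mem g a
  rw [ptIdeal, RingHom.mem_ker, map_sub, AlgHom.commutes, Algebra.algebraMap_self_apply, sub_eq_zero] at this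
  exact this.symm

/-- A finite number `M` killing the intersection of the point ideals. -/
theorem exists_iInf_pow_eq_bot : ∃ M : ℕ, 0 < M ∧ ⨅ g : A →ₐ[k] k, ptIdeal k A g ^ M = ⊥ := by
  haveI : IsArtinianRing A := isArtinian_of_tower k inferInstance
  obtain ⟨M, hM⟩ := IsArtinianRing.isNilpotent_jacobson_bot (R := A)
  cases nonempty_fintype (A →ₐ[k] k)
  refine ⟨M + 1, M.succ_pos, ?_⟩
  have hcop : Pairwise fun g h : A →ₐ[k] k =>
      IsCoprime (ptIdeal k A g ^ (M + 1)) (ptIdeal k A h ^ (M + 1)) := fun g h hgh =>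
    IsCoprime.pow (Ideal.isCoprime_iff_sup_eq.2 (Ideal.IsMaximal.coprime_of_ne (ptIdeal_isMaximal k A g)
      (ptIdeal_isMaximal k A h) fun e => hgh (ptIdeal_injective k A e)))
  have h1 : (⨅ g ∈ (Finset.univ : Finset (A →ₐ[k] k)), ptIdeal k A g ^ (M + 1)) =
      ∏ g ∈ (Finset.univ : Finset (A →ₐ[k] k)), ptIdeal k A g ^ (M + 1) :=
    (Ideal.prod_eq_iInf_of_pairwise_isCoprime fun g _ h _ hgh => hcop hgh).symm
  simp only [Finset.mem_univ, iInf_pos] at h1
  rw [h1, Finset.prod_pow, eq_bot_iff]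
  refine (Ideal.pow_right_mono (J := Ideal.jacobson (⊥ : Ideal A)) ?_ (M + 1)).trans ?_
  · refine Ideal.prod_le_inf.trans (le_sInf fun m hm => ?_)
    obtain ⟨g, rfl⟩ := @exists_eq_ptIdeal k _ _ A _ _ _ m hm.2
    exact Finset.inf_le (Finset.mem_univ g)
  · rw [pow_succ, hM]; simp

/-- The point of the identity. -/
abbrev m₁ : Ideal A := ptIdeal k A (Bialgebra.counitAlgHom k A)

theorem ptIdeal_eq_comap (g : A →ₐ[k] k) :
    ptIdeal k A g = (m₁ k A).comap (transl (toConv g)) := by
  ext a
  simp only [ptIdeal, Ideal.mem_comap, RingHom.mem_ker]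
  exact (congrArg (fun φ => φ a = 0) (counit_comp_transl (toConv g))).symm.to_iff

theorem comap_pow_transl (g : A →ₐ[k] k) (n : ℕ) :
    (m₁ k A ^ n).comap (transl (toConv g)) = ptIdeal k A g ^ n := by
  let e : A ≃ₐ[k] A := AlgEquiv.ofBijective _ (transl_bijective (toConv g))
  rw [ptIdeal_eq_comap]
  change (m₁ k A ^ n).comap e.toRingEquiv = ((m₁ k A).comap e.toRingEquiv) ^ n
  rw [← Ideal.map_symm, ← Ideal.map_symm, Ideal.map_pow]

/-- The identity component. -/
theorem exists_component :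
    ∃ (M : ℕ), 0 < M ∧ (⨅ g : A →ₐ[k] k, ptIdeal k A g ^ M = ⊥) ∧
      Module.finrank k A = Nat.card (A →ₐ[k] k) * Module.finrank k (A ⧸ m₁ k A ^ M) ∧
      m₁ k A ^ Module.finrank k (A ⧸ m₁ k A ^ M) ≤ m₁ k A ^ M ∧
      (∀ ℓ : ℕ, ℓ.Prime → CharP k ℓ → ∃ e, Module.finrank k (A ⧸ m₁ k A ^ M) = ℓ ^ e) ∧
      (CharZero k → Module.finrank k (A ⧸ m₁ k A ^ M) = 1) := by
  cases nonempty_fintype (A →ₐ[k] k)
  classical
  obtain ⟨M, hM, hbot⟩ := exists_iInf_pow_eq_bot k A
  have hcop : Pairwise fun g h : A →ₐ[k] k =>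
      IsCoprime (ptIdeal k A g ^ M) (ptIdeal k A h ^ M) := fun g h hgh =>
    IsCoprime.pow (Ideal.isCoprime_iff_sup_eq.2 (Ideal.IsMaximal.coprime_of_ne (ptIdeal_isMaximal k A g)
      (ptIdeal_isMaximal k A h) fun e => hgh (ptIdeal_injective k A e)))
  refine ⟨M, hM, hbot, ?_, ?_⟩
  · let Φ : A →ₗ[k] Π g : A →ₐ[k] k, A ⧸ ptIdeal k A g ^ M :=
      LinearMap.pi fun g => (Ideal.Quotient.mkₐ k _).toLinearMap
    have hΦ : Function.Bijective Φ := by
      constructor
      · rw [← LinearMap.ker_eq_bot, LinearMap.ker_eq_bot']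
        intro a ha
        have : a ∈ ⨅ g : A →ₐ[k] k, ptIdeal k A g ^ M :=
          Ideal.mem_iInf.2 fun g => Ideal.Quotient.eq_zero_iff_mem.1 (congrFun ha g)
        rwa [hbot, Ideal.mem_bot] at this
      · intro y
        obtain ⟨z, hz⟩ := (Ideal.quotientInfRingEquivPiQuotient _ hcop).surjective y
        obtain ⟨a, rfl⟩ := Ideal.Quotient.mk_surjective z
        exact ⟨a, hz⟩
    haveI : ∀ g : A →ₐ[k] k, Module.Finite k (A ⧸ ptIdeal k A g ^ M) := fun g =>
      Module.Finite.of_surjective (Ideal.Quotient.mkₐ k _).toLinearMap Ideal.Quotient.mk_surjective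
    rw [(LinearEquiv.ofBijective Φ hΦ).finrank_eq, Module.finrank_pi_fintype, Nat.card_eq_fintype_card,
      ← Finset.card_univ, ← smul_eq_mul, ← Finset.sum_const]
    refine Finset.sum_congr rfl fun g _ => LinearEquiv.finrank_eq (AlgEquiv.toLinearEquiv ?_)
    refine Ideal.quotientEquivAlg _ _ (AlgEquiv.ofBijective _ (transl_bijective (toConv g))) ?_
    rw [← comap_pow_transl k A g M]
    exact (Ideal.map_comap_of_surjective _ (transl_bijective (toConv g)).2 _).symm
  have hstab : m₁ k A ^ M ≤ m₁ k A ^ (2 * M) := by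
    intro a ha
    have h1 : m₁ k A ^ M ⊔ ∏ g ∈ (Finset.univ.erase (Bialgebra.counitAlgHom k A)), ptIdeal k A g ^ M = ⊤ :=
      Ideal.isCoprime_iff_sup_eq.1 (IsCoprime.prod_right fun g hg => hcop (Finset.ne_of_mem_erase hg).symm)
    obtain ⟨u, hu, v, hv, huv⟩ := Submodule.mem_sup.1 (h1 ▸ (Submodule.mem_top : (1 : A) ∈ (⊤ : Ideal A)))
    have hv0 : a * v = 0 := by
      have : a * v ∈ ⨅ g : A →ₐ[k] k, ptIdeal k A g ^ M := Ideal.mem_iInf.2 fun g => by
        by_cases hg : g = Bialgebra.counitAlgHom k A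
        · exact hg ▸ Ideal.mul_mem_right _ _ ha
        · exact Ideal.mul_mem_left _ _ (Finset.inf_le (f := fun g => ptIdeal k A g ^ M)
            (Finset.mem_erase.2 ⟨hg, Finset.mem_univ g⟩) (Ideal.prod_le_inf hv))
      rwa [hbot, Ideal.mem_bot] at this
    rw [← mul_one a, ← huv, mul_add, hv0, add_zero, two_mul, pow_add]
    exact Ideal.mul_mem_mul ha hu
  let m0 := m₁ k A ^ M
  let π : A →ₐ[k] A ⧸ m0 := Ideal.Quotient.mkₐ k m0
  let ε0 : (A ⧸ m0) →ₐ[k] k := Ideal.Quotient.liftₐ m0 (Bialgebra.counitAlgHom k A)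
    fun a ha => Ideal.pow_le_self hM.ne' ha
  have hε0 : ∀ a, ε0 (π a) = Bialgebra.counitAlgHom k A a := fun a => rfl
  have hnil : RingHom.ker ε0 ^ M = ⊥ := by
    have : RingHom.ker ε0 = (m₁ k A).map π := by
      refine le_antisymm (fun y hy => ?_) (Ideal.map_le_iff_le_comap.2 fun a ha => ha)
      obtain ⟨a, rfl⟩ := Ideal.Quotient.mk_surjective y
      exact Ideal.mem_map_of_mem _ hy
    rw [this, ← Ideal.map_pow]
    exact Ideal.map_quotient_self m0
  haveI : Module.Finite k (A ⧸ m0) :=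
    Module.Finite.of_surjective π.toLinearMap Ideal.Quotient.mk_surjective
  let P : A →ₐ[k] (A ⧸ m0) ⊗[k] (A ⧸ m0) :=
    (Algebra.TensorProduct.map π π).comp (Bialgebra.comulAlgHom k A)
  let J : Ideal ((A ⧸ m0) ⊗[k] (A ⧸ m0)) :=
    Ideal.map (Algebra.TensorProduct.includeLeft : A ⧸ m0 →ₐ[k] _) (RingHom.ker ε0) ⊔
      Ideal.map (Algebra.TensorProduct.includeRight : A ⧸ m0 →ₐ[k] _) (RingHom.ker ε0)
  let EE : (A ⧸ m0) ⊗[k] (A ⧸ m0) →ₐ[k] k := Algebra.TensorProduct.lift ε0 ε0 fun _ _ => Commute.all _ _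
  have hJ : ∀ X, X - algebraMap k _ (EE X) ∈ J := by
    intro X
    induction X using TensorProduct.induction_on with
    | zero => simp
    | add u v hu hv => rw [map_add, map_add, add_sub_add_comm]; exact J.add_mem hu hv
    | tmul p q =>
      have e : p ⊗ₜ[k] q - algebraMap k _ (EE (p ⊗ₜ[k] q)) =
          (p - algebraMap k _ (ε0 p)) ⊗ₜ[k] q + algebraMap k ((A ⧸ m0) ⊗[k] (A ⧸ m0)) (ε0 p) *
            ((1 : A ⧸ m0) ⊗ₜ[k] (q - algebraMap k _ (ε0 q))) := by
        have hl : ∀ c : k, (algebraMap k (A ⧸ m0) c) ⊗ₜ[k] (1 : A ⧸ m0) = algebraMap k _ c := fun c =>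
          (Algebra.TensorProduct.includeLeft : A ⧸ m0 →ₐ[k] (A ⧸ m0) ⊗[k] (A ⧸ m0)).commutes c
        have hr : ∀ c : k, (1 : A ⧸ m0) ⊗ₜ[k] (algebraMap k (A ⧸ m0) c) = algebraMap k _ c := fun c =>
          (Algebra.TensorProduct.includeRight : A ⧸ m0 →ₐ[k] (A ⧸ m0) ⊗[k] (A ⧸ m0)).commutes c
        rw [TensorProduct.sub_tmul, TensorProduct.tmul_sub, hr, mul_sub]
        simp only [EE, Algebra.TensorProduct.lift_tmul, map_mul]
        rw [← hl (ε0 p), Algebra.TensorProduct.tmul_mul_tmul, one_mul, mul_one]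
        abel
      rw [e]
      refine J.add_mem ?_ (J.mul_mem_left _ (Ideal.mem_sup_right (Ideal.mem_map_of_mem
        (Algebra.TensorProduct.includeRight : A ⧸ m0 →ₐ[k] _) (sub_algebraMap_mem ε0 q))))
      have := J.mul_mem_right ((1 : A ⧸ m0) ⊗ₜ[k] q) (Ideal.mem_sup_left (Ideal.mem_map_of_mem
        (Algebra.TensorProduct.includeLeft : A ⧸ m0 →ₐ[k] _) (sub_algebraMap_mem ε0 p)))
      simpa using this
  have hJnil : J ^ (2 * M) = ⊥ := by
    rw [eq_bot_iff]
    have : J ^ (M + M) ≤ _ := Ideal.sup_pow_add_le_pow_sup_pow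
    rw [← two_mul] at this
    refine this.trans ?_
    rw [← Ideal.map_pow, ← Ideal.map_pow, hnil, Ideal.map_bot, Ideal.map_bot, sup_bot_eq]
  have hEE : ∀ a, EE (P a) = Bialgebra.counitAlgHom k A a := by
    intro a
    conv_rhs => rw [← (isCounital_bialgebra k A).left a]
    change EE (Algebra.TensorProduct.map π π (Bialgebra.comulAlgHom k A a)) = _
    generalize Bialgebra.comulAlgHom k A a = X
    induction X with
    | zero => simp
    | add u v hu hv => simp only [map_add, hu, hv]
    | tmul p q => simp [EE, hε0, mul_comm]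
  let Δ0 : (A ⧸ m0) →ₐ[k] (A ⧸ m0) ⊗[k] (A ⧸ m0) := Ideal.Quotient.liftₐ m0 P fun a ha => by
    have hle : Ideal.map P (m₁ k A) ≤ J := Ideal.map_le_iff_le_comap.2 fun b hb => by
      have := hJ (P b)
      rw [hEE, show Bialgebra.counitAlgHom k A b = 0 from hb, map_zero, sub_zero] at this
      exact this
    have := Ideal.pow_right_mono hle (2 * M) (by rw [← Ideal.map_pow]; exact Ideal.mem_map_of_mem _ (hstab ha))
    rwa [hJnil, Ideal.mem_bot] at this
  have hΔ0 : IsCounital ε0 Δ0 := by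
    constructor <;> intro y <;> obtain ⟨a, rfl⟩ := Ideal.Quotient.mk_surjective y
    · change _ = π a
      conv_rhs => rw [← (isCounital_bialgebra k A).left a]
      change Algebra.TensorProduct.lid k _ (Algebra.TensorProduct.map ε0 (AlgHom.id k _)
        (Algebra.TensorProduct.map π π (Bialgebra.comulAlgHom k A a))) = _
      generalize Bialgebra.comulAlgHom k A a = X
      induction X with
      | zero => simp
      | add u v hu hv => simp only [map_add, hu, hv]
      | tmul p q => simp [hε0]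
    · change _ = π a
      conv_rhs => rw [← (isCounital_bialgebra k A).right a]
      change Algebra.TensorProduct.rid k k _ (Algebra.TensorProduct.map (AlgHom.id k _) ε0
        (Algebra.TensorProduct.map π π (Bialgebra.comulAlgHom k A a))) = _
      generalize Bialgebra.comulAlgHom k A a = X
      induction X with
      | zero => simp
      | add u v hu hv => simp only [map_add, hu, hv]
      | tmul p q => simp [hε0]
  refine ⟨?_, fun ℓ hℓ hc => ?_, fun hc => finrank_eq_one_of_charZero hΔ0 hnil⟩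
  · let d := Module.finrank k (A ⧸ m0)
    let F : ℕ → Submodule k (A ⧸ m0) := fun n => (RingHom.ker ε0 ^ n).restrictScalars k
    have hdec : ∀ n, RingHom.ker ε0 ^ n = ⊥ ∨ Module.finrank k (F n) + n ≤ d := by
      intro n
      induction n with
      | zero => exact Or.inr (by simpa using (F 0).finrank_le)
      | succ n ih =>
        rcases ih with h | h
        · exact Or.inl (by rw [pow_succ, h]; simp)
        · by_cases he : RingHom.ker ε0 ^ n ≤ RingHom.ker ε0 ^ (n + 1)
          · left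
            have : ∀ j, RingHom.ker ε0 ^ n ≤ RingHom.ker ε0 ^ (n + j) := by
              intro j
              induction j with
              | zero => exact le_rfl
              | succ j ihj =>
                refine he.trans ?_
                rw [pow_succ, show n + (j + 1) = (n + j) + 1 from rfl, pow_succ]
                exact Ideal.mul_mono_left ihj
            have h0 := this M
            rw [pow_add, hnil, Ideal.mul_bot] at h0
            rw [pow_succ, le_bot_iff.1 h0]
            simp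
          · right
            have hlt : F (n + 1) < F n := lt_of_le_not_ge
              (fun x hx => Ideal.pow_le_pow_right n.le_succ hx) (fun hle => he fun x hx => hle hx)
            have := Submodule.finrank_lt_finrank_of_lt hlt
            omega
    have hd : RingHom.ker ε0 ^ d = ⊥ := by
      rcases hdec d with h | h
      · exact h
      · exact (Submodule.restrictScalars_eq_bot_iff k _ _).1 (Submodule.finrank_eq_zero.1
          (show Module.finrank k (F d) = 0 by omega))
    intro a ha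
    have : π a ∈ RingHom.ker ε0 ^ d := by
      have hle : Ideal.map π (m₁ k A) ≤ RingHom.ker ε0 := Ideal.map_le_iff_le_comap.2 fun b hb => hb
      exact Ideal.pow_right_mono hle d (by rw [← Ideal.map_pow]; exact Ideal.mem_map_of_mem _ ha)
    rw [hd, Ideal.mem_bot] at this
    exact Ideal.Quotient.eq_zero_iff_mem.1 this
  · haveI := Fact.mk hℓ
    exact exists_finrank_eq_pow ℓ hΔ0 hnil

end Groth.Agent.FinHopf
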