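import Groth.Agent.FinHopf.Conv
import Groth.Prelude.Def_W4c5ffgsreadingcourseOT

/-! The eigen decomposition of the augmentation ideal under the power maps. -/

set_option autoImplicit false
universe u

open TensorProduct WithConv

noncomputable section

namespace Groth.Agent.FinHopf

variable {p : ℕ} [Fact p.Prime] {R : Type u} [CommRing R] {χ : (ZMod p)ˣ →* Rˣ}

theorem chi_pow_card (m : (ZMod p)ˣ) : ((χ m : Rˣ) : R) ^ (p - 1) = 1 := by
  rw [← Units.val_pow_eq_pow_val, ← map_pow, ← ZMod.card_units p, pow_card_eq_one, map_one, Units.val_one]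

theorem chi_pow_mod (m : (ZMod p)ˣ) (i : ℕ) : ((χ m : Rˣ) : R) ^ i = ((χ m : Rˣ) : R) ^ (i % (p - 1)) :=
  pow_eq_pow_mod i (chi_pow_card m)

theorem card_units' : Fintype.card (ZMod p)ˣ = p - 1 := ZMod.card_units p

theorem sum_chi_pow_units (hχ : ∀ m : (ZMod p)ˣ, m ≠ 1 → IsUnit ((χ m : R) - 1)) (j : ℕ) :
    ∑ m : (ZMod p)ˣ, ((χ m : Rˣ) : R) ^ j = if (p - 1) ∣ j then ((p - 1 : ℕ) : R) else 0 := by
  split_ifs with h
  · obtain ⟨c, rfl⟩ := h
    simp [pow_mul, chi_pow_card, Nat.totient_prime (Fact.out : p.Prime)]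
  · obtain ⟨g, hg⟩ : ∃ g : (ZMod p)ˣ, g ^ j ≠ 1 := by
      obtain ⟨g, hg⟩ := IsCyclic.exists_ofOrder_eq_natCard (α := (ZMod p)ˣ)
      rw [Nat.card_eq_fintype_card, card_units'] at hg
      exact ⟨g, fun e => h (hg ▸ orderOf_dvd_of_pow_eq_one e)⟩
    have hu := hχ _ hg
    rw [map_pow, Units.val_pow_eq_pow_val] at hu
    refine hu.mul_right_eq_zero.1 ?_
    rw [sub_mul, one_mul, Finset.mul_sum, sub_eq_zero]
    refine Fintype.sum_equiv (Equiv.mulLeft g) _ _ fun m => ?_
    rw [Equiv.coe_mulLeft, map_mul, Units.val_mul, mul_pow]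

theorem sum_chi_pow_range (hχ : ∀ m : (ZMod p)ˣ, m ≠ 1 → IsUnit ((χ m : R) - 1)) (m : (ZMod p)ˣ) :
    ∑ i ∈ Finset.range (p - 1), ((χ m : Rˣ) : R) ^ i = if m = 1 then ((p - 1 : ℕ) : R) else 0 := by
  split_ifs with h
  · simp [h]
  · refine (hχ m h).mul_right_eq_zero.1 ?_
    rw [mul_geom_sum, chi_pow_card, sub_self]

variable {A : Type u} [CommRing A] [HopfAlgebra R A]

theorem powConv_apply (n : ℕ) (a : A) :
    SGA3b.powConv R A n a = ((toConv (AlgHom.id R A)) ^ n).ofConv a := rfl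

theorem powConv_comp (a b : ℕ) (x : A) :
    SGA3b.powConv R A a (SGA3b.powConv R A b x) = SGA3b.powConv R A (a * b) x := by
  have h : postComp (SGA3b.powConv R A a) ((toConv (AlgHom.id R A)) ^ b) =
      (toConv (AlgHom.id R A)) ^ (a * b) := by
    rw [map_pow, pow_mul]
    exact congrArg (· ^ b) (WithConv.ext (AlgHom.ext fun _ => rfl))
  exact congrArg (fun f => f.ofConv x) h

theorem counit_powConv (n : ℕ) (x : A) :
    Bialgebra.counitAlgHom R A (SGA3b.powConv R A n x) = Bialgebra.counitAlgHom R A x := by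
  have h : postComp (Bialgebra.counitAlgHom R A) ((toConv (AlgHom.id R A)) ^ n) = 1 := by
    rw [map_pow, show postComp (Bialgebra.counitAlgHom R A) (toConv (AlgHom.id R A)) = 1 from
      WithConv.ext (AlgHom.ext fun _ => rfl), one_pow]
  exact congrArg (fun f => f.ofConv x) h

theorem powConv_one (x : A) : SGA3b.powConv R A 1 x = x := by
  rw [powConv_apply, pow_one]; rfl

theorem powConv_mod (hp : (toConv (AlgHom.id R A)) ^ p = 1) (n : ℕ) :
    SGA3b.powConv R A n = SGA3b.powConv R A (n % p) := congrArg WithConv.ofConv (pow_eq_pow_mod n hp)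

theorem powConv_units_comp (hp : (toConv (AlgHom.id R A)) ^ p = 1) (m m' : (ZMod p)ˣ) (x : A) :
    SGA3b.powConv R A (m : ZMod p).val (SGA3b.powConv R A (m' : ZMod p).val x) =
      SGA3b.powConv R A ((m * m' : (ZMod p)ˣ) : ZMod p).val x := by
  rw [powConv_comp, powConv_mod hp, Units.val_mul, ZMod.val_mul]

theorem mem_eigenAug {i : ℕ} {f : A} : f ∈ OortTate.eigenAug R A p χ i ↔
    Bialgebra.counitAlgHom R A f = 0 ∧
      ∀ m : (ZMod p)ˣ, SGA3b.powConv R A (m : ZMod p).val f = (((χ m : Rˣ) : R) ^ i) • f := by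
  simp [OortTate.eigenAug]

theorem eigenAug_mod (i : ℕ) : OortTate.eigenAug R A p χ i = OortTate.eigenAug R A p χ (i % (p - 1)) := by
  ext f
  simp only [mem_eigenAug, ← chi_pow_mod]

theorem mul_mem_eigenAug {i j : ℕ} {f g : A} (hf : f ∈ OortTate.eigenAug R A p χ i)
    (hg : g ∈ OortTate.eigenAug R A p χ j) : f * g ∈ OortTate.eigenAug R A p χ (i + j) := by
  rw [mem_eigenAug] at hf hg ⊢
  refine ⟨by rw [map_mul, hf.1, zero_mul], fun m => ?_⟩
  rw [map_mul, hf.2, hg.2, smul_mul_smul_comm, pow_add]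

theorem pow_mem_eigenAug {f : A} (hf : f ∈ OortTate.eigenAug R A p χ 1) :
    ∀ t, 1 ≤ t → f ^ t ∈ OortTate.eigenAug R A p χ t := by
  intro t ht
  induction t, ht using Nat.le_induction with
  | base => rwa [pow_one]
  | succ n _ ih => rw [pow_succ]; exact mul_mem_eigenAug ih hf

theorem proj_apply (u : R) (i : ℕ) (x : A) : OortTate.proj R A p u χ i x =
    u • ∑ m : (ZMod p)ˣ, (((χ m⁻¹ : Rˣ) : R) ^ i) • SGA3b.powConv R A (m : ZMod p).val x := by
  simp [OortTate.proj, LinearMap.sum_apply]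

theorem proj_mem (hp : (toConv (AlgHom.id R A)) ^ p = 1) (u : R) (i : ℕ) {x : A}
    (hx : Bialgebra.counitAlgHom R A x = 0) :
    OortTate.proj R A p u χ i x ∈ OortTate.eigenAug R A p χ i := by
  rw [mem_eigenAug]
  refine ⟨?_, fun m => ?_⟩
  · simp [proj_apply, counit_powConv, hx, map_sum, map_smul, -Bialgebra.counitAlgHom_apply]
  · rw [proj_apply, map_smul, map_sum, smul_comm (((χ m : Rˣ) : R) ^ i) u,
      Finset.smul_sum (r := ((χ m : Rˣ) : R) ^ i)]
    refine congrArg (u • ·) ?_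
    refine Fintype.sum_equiv (Equiv.mulLeft m) _ _ fun m' => ?_
    rw [map_smul, powConv_units_comp hp, Equiv.coe_mulLeft, smul_smul]
    congr 1
    rw [← mul_pow, ← Units.val_mul, ← map_mul, mul_inv_rev, mul_comm m'⁻¹ m⁻¹, mul_inv_cancel_left]

variable (hχ : ∀ m : (ZMod p)ˣ, m ≠ 1 → IsUnit ((χ m : R) - 1))
include hχ

theorem sum_proj {u : R} (hu : u * ((p - 1 : ℕ) : R) = 1) (x : A) :
    ∑ i ∈ Finset.range (p - 1), OortTate.proj R A p u χ i x = x := by
  simp only [proj_apply, Finset.smul_sum, smul_smul]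
  rw [Finset.sum_comm]
  simp only [← Finset.sum_smul, ← Finset.mul_sum, sum_chi_pow_range hχ]
  rw [Finset.sum_eq_single (1 : (ZMod p)ˣ)]
  · rw [inv_one, if_pos rfl, hu, one_smul, Units.val_one, ZMod.val_one, powConv_one]
  · intro m _ hm
    rw [if_neg (fun h => hm (inv_eq_one.1 h)), mul_zero, zero_smul]
  · simp

theorem proj_of_mem {u : R} (hu : u * ((p - 1 : ℕ) : R) = 1) {i j : ℕ} {f : A}
    (hf : f ∈ OortTate.eigenAug R A p χ j) :
    OortTate.proj R A p u χ i f = if i % (p - 1) = j % (p - 1) then f else 0 := by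
  rw [mem_eigenAug] at hf
  have h1 : (p - 1) * i + j = i * (p - 1) + j := by ring
  have key : ∀ m : (ZMod p)ˣ, ((χ m⁻¹ : Rˣ) : R) ^ i * ((χ m : Rˣ) : R) ^ j =
      ((χ m : Rˣ) : R) ^ ((p - 1 - 1) * i + j) := by
    intro m
    have : m⁻¹ = m ^ (p - 1 - 1) := by
      have hp2 := (Fact.out : p.Prime).two_le
      apply inv_eq_of_mul_eq_one_right
      rw [← pow_succ', Nat.sub_add_cancel (by omega), ← card_units', pow_card_eq_one]
    rw [this, map_pow, Units.val_pow_eq_pow_val, ← pow_mul, ← pow_add]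
  simp only [proj_apply, hf.2, smul_smul, key, ← Finset.sum_smul, sum_chi_pow_units hχ]
  have hp2 := (Fact.out : p.Prime).two_le
  have hiff : (p - 1) ∣ (p - 1 - 1) * i + j ↔ i % (p - 1) = j % (p - 1) := by
    have e : (p - 1 - 1) * i + i = (p - 1) * i := by
      conv_rhs => rw [← Nat.sub_add_cancel (show 1 ≤ p - 1 by omega)]
      ring
    change _ ↔ i ≡ j [MOD (p - 1)]
    rw [← Nat.modEq_zero_iff_dvd]
    constructor
    · intro h
      have h2 : (p - 1 - 1) * i + i + j ≡ i [MOD (p - 1)] := by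
        simpa [add_right_comm] using h.add_right i
      rw [e] at h2
      have h3 : (p - 1) * i + j ≡ j [MOD (p - 1)] := by simp [Nat.ModEq, Nat.add_mod]
      exact h2.symm.trans h3
    · intro h
      have h2 : (p - 1 - 1) * i + j ≡ (p - 1 - 1) * i + i [MOD (p - 1)] := h.symm.add_left _
      rw [e] at h2
      exact h2.trans (Nat.modEq_zero_iff_dvd.2 (dvd_mul_right _ _))
  by_cases h : i % (p - 1) = j % (p - 1)
  · rw [if_pos h, if_pos (hiff.2 h), hu, one_smul]
  · rw [if_neg h, if_neg (fun hh => h (hiff.1 hh)), mul_zero, zero_smul]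

theorem iSupIndep_eigenAug {u : R} (hu : u * ((p - 1 : ℕ) : R) = 1) :
    iSupIndep (fun i : Fin (p - 1) => OortTate.eigenAug R A p χ (i : ℕ)) := by
  intro i
  rw [disjoint_iff_inf_le]
  rintro f ⟨hf, hf'⟩
  change f = 0
  have h2 : (⨆ (j) (_ : j ≠ i), OortTate.eigenAug R A p χ ((j : Fin (p - 1)) : ℕ)) ≤
      LinearMap.ker (OortTate.proj R A p u χ (i : ℕ)) :=
    iSup₂_le fun j hj g hg => by
      rw [LinearMap.mem_ker, proj_of_mem hχ hu hg, if_neg]
      rw [Nat.mod_eq_of_lt i.2, Nat.mod_eq_of_lt j.2]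
      exact fun h => hj (Fin.ext h.symm)
  have h3 := proj_of_mem hχ hu (i := (i : ℕ)) hf
  rw [if_pos rfl, LinearMap.mem_ker.1 (h2 hf')] at h3
  exact h3.symm

theorem iSup_eigenAug (hp : (toConv (AlgHom.id R A)) ^ p = 1) {u : R} (hu : u * ((p - 1 : ℕ) : R) = 1) :
    (⨆ i : Fin (p - 1), OortTate.eigenAug R A p χ (i : ℕ)) =
      LinearMap.ker (Bialgebra.counitAlgHom R A).toLinearMap := by
  refine le_antisymm (iSup_le fun i => inf_le_left) fun x hx => ?_
  rw [← sum_proj hχ hu x]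
  exact Submodule.sum_mem _ fun i hi =>
    Submodule.mem_iSup_of_mem (⟨i, Finset.mem_range.1 hi⟩ : Fin (p - 1)) (proj_mem hp u i hx)

theorem eigenAug_eq_map_proj (hp : (toConv (AlgHom.id R A)) ^ p = 1) {u : R}
    (hu : u * ((p - 1 : ℕ) : R) = 1) (i : ℕ) :
    OortTate.eigenAug R A p χ i = Submodule.map (OortTate.proj R A p u χ i)
      (LinearMap.ker (Bialgebra.counitAlgHom R A).toLinearMap) := by
  apply le_antisymm
  · intro f hf
    exact ⟨f, (mem_eigenAug.1 hf).1, by rw [proj_of_mem hχ hu hf, if_pos rfl]⟩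
  · rintro _ ⟨x, hx, rfl⟩
    exact proj_mem hp u i hx

omit hχ

/-! ### Base change -/

section BaseChange

variable {K : Type u} [CommRing K] [Algebra R K]

variable (K) in
/-- The base change of `χ`. -/
abbrev chiMap (χ : (ZMod p)ˣ →* Rˣ) : (ZMod p)ˣ →* Kˣ := (Units.map (algebraMap R K).toMonoidHom).comp χ

theorem chiMap_isUnit (hχ : ∀ m : (ZMod p)ˣ, m ≠ 1 → IsUnit ((χ m : R) - 1)) (m : (ZMod p)ˣ) (hm : m ≠ 1) :
    IsUnit ((chiMap K χ m : K) - 1) := by
  have := (hχ m hm).map (algebraMap R K)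
  rwa [map_sub, map_one] at this

theorem convPow_baseChange (hp : (toConv (AlgHom.id R A)) ^ p = 1) :
    (toConv (AlgHom.id K (K ⊗[R] A))) ^ p = 1 := by
  apply toLin_injective
  apply restrictLin_injective (R := R) (C := A)
  refine WithConv.ext (LinearMap.ext fun a => ?_)
  rw [restrictLin_apply, restrictLin_apply]
  change ((toConv (AlgHom.id K (K ⊗[R] A))) ^ p).ofConv ((1 : K) ⊗ₜ[R] a) = _
  rw [pow_id_baseChange, hp]
  change _ = (1 : WithConv (K ⊗[R] A →ₐ[K] K ⊗[R] A)).ofConv ((1 : K) ⊗ₜ[R] a)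
  rw [AlgHom.convOne_apply, AlgHom.convOne_apply, TensorProduct.counit_tmul, CommSemiring.counit_apply]
  simp [Algebra.algebraMap_eq_smul_one, Algebra.TensorProduct.one_def, TensorProduct.smul_tmul']

theorem proj_baseChange (u : R) (i : ℕ) (x : A) :
    OortTate.proj K (K ⊗[R] A) p (algebraMap R K u) (chiMap K χ) i ((1 : K) ⊗ₜ[R] x) =
      (1 : K) ⊗ₜ[R] OortTate.proj R A p u χ i x := by
  rw [proj_apply, proj_apply]
  simp only [powConv_apply, pow_id_baseChange]
  rw [TensorProduct.tmul_smul, ← algebraMap_smul K u, TensorProduct.tmul_sum]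
  congr 1
  refine Finset.sum_congr rfl fun m _ => ?_
  rw [TensorProduct.tmul_smul, ← algebraMap_smul K (((χ m⁻¹ : Rˣ) : R) ^ i), map_pow]
  rfl

theorem tmul_mem_eigenAug {i : ℕ} {f : A} (hf : f ∈ OortTate.eigenAug R A p χ i) :
    (1 : K) ⊗ₜ[R] f ∈ OortTate.eigenAug K (K ⊗[R] A) p (chiMap K χ) i := by
  rw [mem_eigenAug] at hf ⊢
  refine ⟨?_, fun m => ?_⟩
  · change Coalgebra.counit (R := K) ((1 : K) ⊗ₜ[R] f) = 0
    rw [TensorProduct.counit_tmul, show Coalgebra.counit f = (0 : R) from hf.1, zero_smul]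
  · rw [powConv_apply, pow_id_baseChange, ← powConv_apply, hf.2, TensorProduct.tmul_smul,
      ← algebraMap_smul K (((χ m : Rˣ) : R) ^ i), map_pow]
    rfl

end BaseChange

end Groth.Agent.FinHopf
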