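import Groth.Agent.FinHopf.Conv

/-! Deligne: a commutative finite locally free group scheme is killed by its order. -/

set_option autoImplicit false

open TensorProduct WithConv Coalgebra

noncomputable section

namespace Groth.Agent.FinHopf

/-- A ring element equal to another in every localisation at a maximal ideal. -/
theorem eq_of_forall_localization {D : Type*} [CommRing D] {a b : D}
    (h : ∀ (m : Ideal D) [m.IsMaximal], algebraMap D (Localization.AtPrime m) a =
      algebraMap D (Localization.AtPrime m) b) : a = b := by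
  rw [← sub_eq_zero]
  refine (Submodule.eq_bot_iff (Ideal.span {a - b})).1 ?_ _ (Ideal.mem_span_singleton_self _)
  refine ideal_eq_bot_of_localization' _ fun m hm => ?_
  rw [Ideal.map_span, Set.image_singleton, map_sub, h m, sub_self, Ideal.span_singleton_eq_bot]

/-- If an automorphism multiplies a unit of a rank `n` algebra by a scalar `u`, then `u ^ n = 1`. -/
theorem pow_eq_one_of_algEquiv {D E : Type*} [CommRing D] [CommRing E] [Algebra D E]
    [Module.Finite D E] [Module.Projective D E] (n : ℕ)
    (hn : ∀ q : PrimeSpectrum D, Module.rankAtStalk E q = n)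
    (δ : E) (hδ : IsUnit δ) (σ : E ≃ₐ[D] E) (u : D) (hσ : σ δ = algebraMap D E u * δ) :
    u ^ n = 1 := by
  refine eq_of_forall_localization fun m _ => ?_
  let L := Localization.AtPrime m
  let EL := L ⊗[D] E
  haveI : Module.Free L EL := Module.free_of_flat_of_isLocalRing
  have hfr : Module.finrank L EL = n := by
    rw [← hn ⟨m, inferInstance⟩, Module.rankAtStalk_eq_finrank_tensorProduct]
  let σL : EL ≃ₐ[L] EL := Algebra.TensorProduct.congr AlgEquiv.refl σ
  let d : EL := (1 : L) ⊗ₜ[D] δ
  have hd : IsUnit d := hδ.map (Algebra.TensorProduct.includeRight : E →ₐ[D] EL)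
  have h1 : σL d = algebraMap L EL (algebraMap D L u) * d := by
    simp only [σL, d, Algebra.TensorProduct.congr_apply, Algebra.TensorProduct.map_tmul, map_one]
    change (1 : L) ⊗ₜ[D] σ δ = _
    rw [hσ, Algebra.TensorProduct.algebraMap_apply, Algebra.TensorProduct.tmul_mul_tmul, one_mul,
      Algebra.algebraMap_self_apply, mul_one, ← Algebra.smul_def, TensorProduct.tmul_smul,
      TensorProduct.smul_tmul', Algebra.smul_def, mul_one]
  have h2 : Algebra.norm L (σL d) = Algebra.norm L d :=
    Algebra.norm_eq_of_equiv_equiv (RingEquiv.refl L) σL.symm.toRingEquiv (by ext; simp) _ |>.trans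
      (by simp)
  rw [h1, map_mul, Algebra.norm_algebraMap, hfr] at h2
  rw [map_pow, map_one]
  exact (hd.map (Algebra.norm L)).mul_eq_right.1 h2

theorem conv_cancel {R C T : Type*} [CommRing R] [CommRing C] [Bialgebra R C] [CommRing T]
    [Algebra R T] (f g h : WithConv (C →ₐ[R] T)) (e : f * g = 1) : f * (g * h) = h := by
  rw [← mul_assoc, e, one_mul]

section
variable (R : Type*) [CommRing R] (A : Type*) [CommRing A] [HopfAlgebra R A] [Coalgebra.IsCocomm R A]

local notation "D" => WithConv (A →ₗ[R] A)
local notation "A2" => A ⊗[R] A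
local notation "E2" => WithConv (A →ₗ[R] A ⊗[R] A)

/-- The constants `A → D`. -/
def constD : A →ₐ[R] D where
  __ := algebraMap A D
  commutes' r := by
    refine WithConv.ext (LinearMap.ext fun c => ?_)
    change algebraMap A D (algebraMap R A r) c = algebraMap R D r c
    rw [LinearMap.convAlgebraMap_apply, LinearMap.convAlgebraMap_apply, algebraMap_smul]

/-- The constants `A ⊗ A → E2`. -/
def constE : A2 →ₐ[R] E2 where
  __ := algebraMap A2 E2
  commutes' r := by
    refine WithConv.ext (LinearMap.ext fun c => ?_)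
    change algebraMap A2 E2 (algebraMap R A2 r) c = algebraMap R E2 r c
    rw [LinearMap.convAlgebraMap_apply, LinearMap.convAlgebraMap_apply, algebraMap_smul]

/-- The comparison `D ⊗ A → Hom(A, A ⊗ A)`. -/
def compare : D ⊗[R] A →ₐ[R] E2 :=
  Algebra.TensorProduct.lift (postCompLin Algebra.TensorProduct.includeLeft)
    ((constE R A).comp Algebra.TensorProduct.includeRight) fun _ _ => Commute.all _ _

theorem compare_tmul (d : D) (a : A) (x : A) :
    (compare R A (d ⊗ₜ a)).ofConv x = d.ofConv x ⊗ₜ a := by
  rw [compare, Algebra.TensorProduct.lift_tmul, mul_comm]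
  change (algebraMap A2 E2 ((1 : A) ⊗ₜ[R] a) * postCompLin Algebra.TensorProduct.includeLeft d).ofConv x = _
  rw [← Algebra.smul_def]
  change ((1 : A) ⊗ₜ[R] a) • (d.ofConv x ⊗ₜ[R] (1 : A)) = _
  rw [smul_eq_mul, Algebra.TensorProduct.tmul_mul_tmul, one_mul, mul_one]

theorem compare_bijective [Module.Finite R A] [Module.Projective R A] :
    Function.Bijective (compare R A) := by
  let e : D ⊗[R] A ≃ₗ[R] E2 := TensorProduct.congr (WithConv.linearEquiv R _) (LinearEquiv.refl R A)
    ≪≫ₗ rTensorHomEquivHomRTensor R A A A ≪≫ₗ (WithConv.linearEquiv R _).symm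
  have : ⇑(compare R A) = e := by
    funext t
    induction t using TensorProduct.induction_on with
    | zero => simp
    | add x y hx hy => rw [map_add, map_add, hx, hy]
    | tmul d a =>
      refine WithConv.ext (LinearMap.ext fun x => ?_)
      rw [compare_tmul]
      simp [e, rTensorHomEquivHomRTensor_apply]
  rw [this]
  exact e.bijective

/-- Deligne's theorem. -/
theorem convPow_id_eq_one [Module.Finite R A] [Module.Projective R A] (n : ℕ)
    (hn : ∀ p : PrimeSpectrum R, Module.rankAtStalk A p = n) :
    (toConv (AlgHom.id R A)) ^ n = 1 := by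
  let iL : A →ₐ[R] A2 := Algebra.TensorProduct.includeLeft
  let iR : A →ₐ[R] A2 := Algebra.TensorProduct.includeRight
  let L : D →ₐ[R] D ⊗[R] A := Algebra.TensorProduct.includeLeft
  let J : WithConv (A →ₐ[R] D ⊗[R] A) := toConv (L.comp (constD R A))
  let I : WithConv (A →ₐ[R] D ⊗[R] A) := toConv Algebra.TensorProduct.includeRight
  let mk : WithConv (A →ₐ[R] D ⊗[R] A) → (D ⊗[R] A →ₐ[D] D ⊗[R] A) := fun f =>
    Algebra.TensorProduct.lift (Algebra.ofId D _) f.ofConv fun _ _ => Commute.all _ _
  have hmkR : ∀ f a, mk f ((1 : D) ⊗ₜ a) = f.ofConv a := fun f a => by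
    simp only [mk, Algebra.TensorProduct.lift_tmul, map_one]
    exact one_mul _
  have hmkL : ∀ f (d : D), mk f (d ⊗ₜ (1 : A)) = L d := fun f d => by simp [mk, L]
  have hJfix : ∀ f, postComp ((mk f).restrictScalars R) J = J := fun f =>
    WithConv.ext (AlgHom.ext fun a => hmkL f _)
  have hI : ∀ f, postComp ((mk f).restrictScalars R) I = f := fun f =>
    WithConv.ext (AlgHom.ext fun a => hmkR f a)
  obtain ⟨σ, hσ⟩ : ∃ σ : D ⊗[R] A ≃ₐ[D] D ⊗[R] A, ∀ x, σ x = mk (J * I) x := by
    let Jinv : WithConv (A →ₐ[R] D ⊗[R] A) := postComp (L.comp (constD R A)) (toConv (AlgHom.id R A))⁻¹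
    have hJeq : J = postComp (L.comp (constD R A)) (toConv (AlgHom.id R A)) :=
      WithConv.ext (AlgHom.ext fun a => rfl)
    have hinv : Jinv * J = 1 := by rw [hJeq, ← map_mul, inv_mul_cancel, map_one]
    have hinv' : J * Jinv = 1 := by rw [hJeq, ← map_mul, mul_inv_cancel, map_one]
    have hJfix' : ∀ f, postComp ((mk f).restrictScalars R) Jinv = Jinv := fun f =>
      WithConv.ext (AlgHom.ext fun a => hmkL f _)
    have h1 : postComp ((mk (J * I)).restrictScalars R) (Jinv * I) = I := by
      rw [map_mul, hJfix', hI]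
      exact conv_cancel _ _ _ hinv
    have h2 : postComp ((mk (Jinv * I)).restrictScalars R) (J * I) = I := by
      rw [map_mul, hJfix, hI]
      exact conv_cancel _ _ _ hinv'
    refine ⟨AlgEquiv.ofAlgHom (mk (J * I)) (mk (Jinv * I)) ?_ ?_, fun _ => rfl⟩
    · refine Algebra.TensorProduct.ext (Subsingleton.elim _ _) (AlgHom.ext fun a => ?_)
      change mk (J * I) (mk (Jinv * I) ((1 : D) ⊗ₜ a)) = (1 : D) ⊗ₜ a
      rw [hmkR]
      exact congrArg (fun f => f.ofConv a) h1
    · refine Algebra.TensorProduct.ext (Subsingleton.elim _ _) (AlgHom.ext fun a => ?_)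
      change mk (Jinv * I) (mk (J * I) ((1 : D) ⊗ₜ a)) = (1 : D) ⊗ₜ a
      rw [hmkR]
      exact congrArg (fun f => f.ofConv a) h2
  let τ : A2 →ₐ[R] A2 :=
    Algebra.TensorProduct.lift iL (Bialgebra.comulAlgHom R A) fun _ _ => Commute.all _ _
  have hc : toConv (Bialgebra.comulAlgHom R A) = toConv iL * toConv iR := by
    refine WithConv.ext (AlgHom.ext fun a => ?_)
    rw [AlgHom.convMul_apply, Bialgebra.comulAlgHom_apply]
    generalize Coalgebra.comul (R := R) a = x
    induction x with
    | zero => simp
    | tmul a b => simp [iL, iR]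
    | add x y hx hy => simp only [map_add, ← hx, ← hy]
  have hconstL : ∀ a : A, compare R A (L (constD R A a)) = constE R A (a ⊗ₜ 1) := by
    intro a
    refine WithConv.ext (LinearMap.ext fun x => ?_)
    change (compare R A (constD R A a ⊗ₜ (1 : A))).ofConv x = _
    rw [compare_tmul]
    change (algebraMap A D a x) ⊗ₜ[R] (1 : A) = algebraMap A2 E2 (a ⊗ₜ 1) x
    rw [LinearMap.convAlgebraMap_apply, LinearMap.convAlgebraMap_apply, smul_eq_mul, smul_eq_mul,
      Algebra.TensorProduct.algebraMap_apply, Algebra.TensorProduct.tmul_mul_tmul, one_mul]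
  have hconstR : ∀ a : A, compare R A ((1 : D) ⊗ₜ a) = constE R A ((1 : A) ⊗ₜ a) := fun a => by
    rw [compare, Algebra.TensorProduct.lift_tmul, map_one, one_mul]; rfl
  have hτc : ∀ t : A2, postCompLin τ (constE R A t) = constE R A (τ t) := by
    intro t
    refine WithConv.ext (LinearMap.ext fun x => ?_)
    change τ (algebraMap A2 E2 t x) = algebraMap A2 E2 (τ t) x
    rw [LinearMap.convAlgebraMap_apply, LinearMap.convAlgebraMap_apply, smul_eq_mul, smul_eq_mul,
      map_mul, AlgHom.commutes]
  have hJI : postComp (compare R A) (J * I) = postComp (constE R A) (toConv iL * toConv iR) := by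
    rw [map_mul, map_mul]
    exact congrArg₂ (· * ·) (WithConv.ext (AlgHom.ext fun a => hconstL a))
      (WithConv.ext (AlgHom.ext fun a => hconstR a))
  have hkey : (compare R A).comp (σ.toAlgHom.restrictScalars R) = (postCompLin τ).comp (compare R A) := by
    refine Algebra.TensorProduct.ext (AlgHom.ext fun d => ?_) (AlgHom.ext fun a => ?_)
    · change compare R A (σ (L d)) = postCompLin τ (compare R A (L d))
      rw [show σ (L d) = L d by rw [hσ]; exact hmkL _ d]
      refine WithConv.ext (LinearMap.ext fun x => ?_)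
      rw [postCompLin_apply]
      change (compare R A (d ⊗ₜ (1 : A))).ofConv x = τ ((compare R A (d ⊗ₜ (1 : A))).ofConv x)
      rw [compare_tmul]
      simp [τ, iL]
    · change compare R A (σ ((1 : D) ⊗ₜ a)) = postCompLin τ (compare R A ((1 : D) ⊗ₜ a))
      rw [hσ, hmkR, hconstR, hτc]
      refine (congrArg (fun f => f.ofConv a) hJI).trans ?_
      rw [← hc]
      simp [τ, postComp_apply]
  obtain ⟨δ, hδ⟩ := (compare_bijective R A).2 (toLin (toConv iR))
  have hδu : IsUnit δ := by
    have h := ((Group.isUnit (toConv iR)).map toLin).map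
      (AlgEquiv.ofBijective _ (compare_bijective R A)).symm
    rwa [← hδ, ← AlgEquiv.coe_ofBijective _ (compare_bijective R A), AlgEquiv.symm_apply_apply] at h
  have hu : σ δ = algebraMap D (D ⊗[R] A) (toLin (toConv (AlgHom.id R A))) * δ := by
    apply (compare_bijective R A).1
    rw [map_mul]
    refine (congrArg (fun f => f δ) hkey).trans ?_
    change postCompLin τ (compare R A δ) = _
    rw [hδ]
    have h1 : postCompLin τ (toLin (toConv iR)) = toLin (toConv (Bialgebra.comulAlgHom R A)) := by
      refine WithConv.ext (LinearMap.ext fun x => ?_)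
      change τ ((1 : A) ⊗ₜ x) = Coalgebra.comul x
      simp [τ]
    rw [h1, hc, map_mul]
    congr 1
    refine WithConv.ext (LinearMap.ext fun x => ?_)
    rw [Algebra.TensorProduct.algebraMap_apply, Algebra.algebraMap_self_apply, compare_tmul]
    rfl
  have hrk : ∀ q : PrimeSpectrum D, Module.rankAtStalk (D ⊗[R] A) q = n := fun q => by
    rw [Module.rankAtStalk_baseChange, hn]
  apply toLin_injective
  rw [map_pow, map_one]
  exact pow_eq_one_of_algEquiv n hrk δ hδu σ _ hu

end

end Groth.Agent.FinHopf
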