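import Groth.Agent.FinHopf.Points

/-! A finite group scheme over a field is killed by its order. -/

set_option autoImplicit false
universe u v

open TensorProduct WithConv

noncomputable section

namespace Groth.Agent.FinHopf

variable {k : Type u} [Field k] {A : Type v} [CommRing A] [HopfAlgebra k A]

theorem convPow_sub_one_mem (n : ℕ) (a : A) :
    (((toConv (LinearMap.id : A →ₗ[k] A)) - 1) ^ (n + 1)).ofConv a ∈
      RingHom.ker (Bialgebra.counitAlgHom k A) ^ (n + 1) := by
  have h1 : ∀ b : A, ((toConv (LinearMap.id : A →ₗ[k] A)) - 1).ofConv b ∈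
      RingHom.ker (Bialgebra.counitAlgHom k A) := fun b => by
    change b - algebraMap k A (Coalgebra.counit b) ∈ _
    exact sub_algebraMap_mem (Bialgebra.counitAlgHom k A) b
  induction n generalizing a with
  | zero => rw [zero_add, pow_one, pow_one]; exact h1 a
  | succ n ih =>
    rw [pow_succ (toConv (LinearMap.id : A →ₗ[k] A) - 1) (n + 1), LinearMap.convMul_apply]
    generalize Coalgebra.comul (R := k) a = X
    induction X with
    | zero => simp
    | add u v hu hv => rw [map_add, map_add]; exact Ideal.add_mem _ hu hv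
    | tmul p q =>
      rw [TensorProduct.map_tmul, LinearMap.mul'_apply, pow_succ _ (n + 1)]
      exact Ideal.mul_mem_mul (ih p) (h1 q)

theorem convPow_pow_mem (ℓ : ℕ) [Fact ℓ.Prime] [CharP k ℓ] [Nontrivial A] (e : ℕ) {a : A}
    (ha : Bialgebra.counitAlgHom k A a = 0) :
    ((toConv (AlgHom.id k A)) ^ (ℓ ^ e)).ofConv a ∈ RingHom.ker (Bialgebra.counitAlgHom k A) ^ (ℓ ^ e) := by
  let L := WithConv (A →ₗ[k] A)
  haveI : Nontrivial L := ⟨1, 0, fun h => by
    have := congrArg (fun f : L => f.ofConv 1) h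
    simp [Bialgebra.counit_one] at this⟩
  haveI : CharP L ℓ := charP_of_injective_algebraMap (algebraMap k L).injective ℓ
  have h : (toConv (LinearMap.id : A →ₗ[k] A) - 1) ^ (ℓ ^ e) =
      toConv (LinearMap.id : A →ₗ[k] A) ^ (ℓ ^ e) - 1 := by
    rw [sub_pow_char_pow_of_commute ℓ _ (Commute.one_right _), one_pow]
  have hv : ((toConv (AlgHom.id k A)) ^ (ℓ ^ e)).ofConv a =
      ((toConv (LinearMap.id : A →ₗ[k] A) - 1) ^ (ℓ ^ e)).ofConv a + algebraMap k A (Coalgebra.counit a) := by
    rw [h]
    change _ = (toConv (LinearMap.id : A →ₗ[k] A) ^ (ℓ ^ e)).ofConv a - algebraMap k A _ + _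
    rw [sub_add_cancel]
    exact congrArg (fun f => f.ofConv a) (AlgHom.toLinearMap_convPow (toConv (AlgHom.id k A)) (ℓ ^ e))
  rw [hv, show Coalgebra.counit a = (0 : k) from ha, map_zero, add_zero]
  obtain ⟨n, hn⟩ : ∃ n, ℓ ^ e = n + 1 := ⟨ℓ ^ e - 1, by have := Nat.one_le_pow e ℓ (Fact.out : ℓ.Prime).pos; omega⟩
  rw [hn]
  exact convPow_sub_one_mem n a

theorem convPow_card_eq_one_of_isAlgClosed [IsAlgClosed k] [FiniteDimensional k A] :
    (toConv (AlgHom.id k A)) ^ Module.finrank k A = 1 := by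
  obtain ⟨M, hM, hbot, hcard, hle, hchar, hzero⟩ := exists_component k A
  set d := Module.finrank k (A ⧸ m₁ k A ^ M) with hd
  let n := Nat.card (A →ₐ[k] k)
  let ψ : A →ₐ[k] A := ((toConv (AlgHom.id k A)) ^ n).ofConv
  have hψ : ∀ a, Bialgebra.counitAlgHom k A a = 0 → ∀ g : A →ₐ[k] k, ψ a ∈ ptIdeal k A g := by
    intro a ha g
    have h1 : postComp g ((toConv (AlgHom.id k A)) ^ n) = 1 := by
      rw [map_pow, show postComp g (toConv (AlgHom.id k A)) = toConv g from rfl]
      have hc : Nat.card (WithConv (A →ₐ[k] k)) = n := Nat.card_congr (WithConv.equiv _)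
      haveI : Finite (WithConv (A →ₐ[k] k)) := Finite.of_equiv _ (WithConv.equiv _).symm
      rw [← hc]
      exact pow_card_eq_one'
    have := congrArg (fun f => f.ofConv a) h1
    simp only [postComp_apply] at this
    change g (ψ a) = 0
    rw [this, AlgHom.convOne_apply, show Coalgebra.counit a = (0 : k) from ha, map_zero]
  have hψmap : ∀ g : A →ₐ[k] k, Ideal.map ψ (m₁ k A) ≤ ptIdeal k A g := fun g =>
    Ideal.map_le_iff_le_comap.2 fun a ha => hψ a ha g
  have hkill : ∀ a ∈ m₁ k A ^ d, ψ a = 0 := by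
    intro a ha
    have : ψ a ∈ ⨅ g : A →ₐ[k] k, ptIdeal k A g ^ M := Ideal.mem_iInf.2 fun g => by
      have h1 : ψ a ∈ ptIdeal k A g ^ d :=
        Ideal.pow_right_mono (hψmap g) d (by rw [← Ideal.map_pow]; exact Ideal.mem_map_of_mem _ ha)
      have h2 : ptIdeal k A g ^ d ≤ ptIdeal k A g ^ M := by
        rw [← comap_pow_transl k A g d, ← comap_pow_transl k A g M]
        exact Ideal.comap_mono hle
      exact h2 h1
    rwa [hbot, Ideal.mem_bot] at this
  have hφ : ∀ a, Bialgebra.counitAlgHom k A a = 0 →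
      ((toConv (AlgHom.id k A)) ^ d).ofConv a ∈ m₁ k A ^ d := by
    intro a ha
    haveI := (Bialgebra.counitAlgHom k A).toRingHom.domain_nontrivial
    rcases CharP.exists' k with hc | ⟨ℓ, hℓ, hc⟩
    · rw [show d = 1 from hzero hc, pow_one, pow_one]
      exact ha
    · haveI := hc
      obtain ⟨e, he⟩ := hchar ℓ hℓ.out hc
      rw [show d = ℓ ^ e from he]
      exact convPow_pow_mem ℓ e ha
  have hcomp : (toConv (AlgHom.id k A)) ^ (n * d) = postComp ψ ((toConv (AlgHom.id k A)) ^ d) := by
    rw [map_pow, pow_mul]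
    exact congrArg (· ^ d) (WithConv.ext (AlgHom.ext fun a => rfl))
  rw [hcard]
  refine WithConv.ext (AlgHom.ext fun a => ?_)
  change ((toConv (AlgHom.id k A)) ^ (n * d)).ofConv a = _
  rw [hcomp, postComp_apply, AlgHom.convOne_apply]
  have hz := hkill _ (hφ _ (sub_algebraMap_mem (Bialgebra.counitAlgHom k A) a))
  rw [map_sub, map_sub, AlgHom.commutes, AlgHom.commutes, sub_eq_zero] at hz
  exact hz

/-- A finite group scheme over a field is killed by its order. -/
theorem convPow_finrank_eq_one [FiniteDimensional k A] :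
    (toConv (AlgHom.id k A)) ^ Module.finrank k A = 1 := by
  let K := AlgebraicClosure k
  have h := convPow_card_eq_one_of_isAlgClosed (k := K) (A := K ⊗[k] A)
  rw [Module.finrank_baseChange] at h
  refine WithConv.ext (AlgHom.ext fun a => ?_)
  apply Algebra.TensorProduct.includeRight_injective (A := K) (B := A) (algebraMap k K).injective
  change (1 : K) ⊗ₜ[k] _ = (1 : K) ⊗ₜ[k] _
  rw [← pow_id_baseChange, h, AlgHom.convOne_apply, AlgHom.convOne_apply, TensorProduct.counit_tmul,
    CommSemiring.counit_apply]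
  simp [Algebra.algebraMap_eq_smul_one, Algebra.TensorProduct.one_def, TensorProduct.tmul_smul,
    TensorProduct.smul_tmul']

/-- The order of a finite local Hopf algebra. -/
theorem exists_finrank_eq_pow_ringExpChar [FiniteDimensional k A] [IsLocalRing A] :
    ∃ n : ℕ, Module.finrank k A = ringExpChar k ^ n := by
  haveI : IsArtinianRing A := isArtinian_of_tower k inferInstance
  obtain ⟨N, hN⟩ := IsArtinianRing.isNilpotent_jacobson_bot (R := A)
  have hle : RingHom.ker (Bialgebra.counitAlgHom k A) ≤ Ideal.jacobson (⊥ : Ideal A) := by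
    rw [IsLocalRing.jacobson_eq_maximalIdeal ⊥ bot_ne_top]
    exact IsLocalRing.le_maximalIdeal (RingHom.ker_ne_top _)
  have hnil : RingHom.ker (Bialgebra.counitAlgHom k A) ^ N = ⊥ := by
    rw [eq_bot_iff]
    exact (Ideal.pow_right_mono hle N).trans hN.le
  rcases CharP.exists' k with hc | ⟨ℓ, hℓ, hc⟩
  · exact ⟨0, by rw [pow_zero]; exact finrank_eq_one_of_charZero (isCounital_bialgebra k A) hnil⟩
  · haveI := hc
    obtain ⟨e, he⟩ := exists_finrank_eq_pow ℓ (isCounital_bialgebra k A) hnil
    exact ⟨e, by rw [he, ringExpChar.eq k ℓ]⟩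

end Groth.Agent.FinHopf
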