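import Groth.Agent.FinHopf.Local

/-! Connected finite group schemes: Cartier in characteristic zero, order a power of the characteristic. -/

set_option autoImplicit false
universe u v

open TensorProduct WithConv

noncomputable section

namespace Groth.Agent.FinHopf

variable {k : Type u} [Field k]

/-- The two counit axioms. -/
structure IsCounital {A : Type v} [CommRing A] [Algebra k A] (ε : A →ₐ[k] k) (Δ : A →ₐ[k] A ⊗[k] A) :
    Prop where
  left : ∀ a, Algebra.TensorProduct.lid k A (Algebra.TensorProduct.map ε (AlgHom.id k A) (Δ a)) = a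
  right : ∀ a, Algebra.TensorProduct.rid k k A (Algebra.TensorProduct.map (AlgHom.id k A) ε (Δ a)) = a

theorem exists_structure {A : Type v} [CommRing A] [Algebra k A] [FiniteDimensional k A]
    {ε : A →ₐ[k] k} {Δ : A →ₐ[k] A ⊗[k] A} (hΔ : IsCounital ε Δ) {N : ℕ} (hnil : RingHom.ker ε ^ N = ⊥) :
    ∃ (r : ℕ) (x : Fin r → A) (d : Fin r → Derivation k A A),
      (∀ i, x i ∈ RingHom.ker ε) ∧ (∀ i j, d i (x j) = if i = j then 1 else 0) ∧
      Algebra.adjoin k (Set.range x) = ⊤ := by
  obtain ⟨r, x, ξ, hx, hξx, hξ, hgen⟩ := exists_coords ε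
  obtain ⟨d, hd⟩ := exists_partials ε hnil x (fun i => invDer ε Δ hΔ.right (ξ i) (hξ i))
    fun i j => by rw [apply_invDer ε Δ hΔ.left hΔ.right, hξx]
  exact ⟨r, x, d, hx, hd, adjoin_eq_top ε hnil x hx hgen⟩

theorem finrank_eq_one_of_eq_bot {A : Type v} [CommRing A] [Algebra k A]
    (ε : A →ₐ[k] k) (h : RingHom.ker ε = ⊥) : Module.finrank k A = 1 := by
  have hb : Function.Bijective ε := by
    exact ⟨(RingHom.injective_iff_ker_eq_bot _).2 h, fun c => ⟨algebraMap k A c, by simp⟩⟩
  rw [(AlgEquiv.ofBijective ε hb).toLinearEquiv.finrank_eq, Module.finrank_self]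

/-- Cartier's theorem, finite connected case. -/
theorem finrank_eq_one_of_charZero [CharZero k] {A : Type v} [CommRing A] [Algebra k A]
    [FiniteDimensional k A] {ε : A →ₐ[k] k} {Δ : A →ₐ[k] A ⊗[k] A} (hΔ : IsCounital ε Δ) {N : ℕ}
    (hnil : RingHom.ker ε ^ N = ⊥) : Module.finrank k A = 1 := by
  obtain ⟨r, x, d, hx, hd, hgen⟩ := exists_structure hΔ hnil
  rcases Nat.eq_zero_or_pos r with rfl | hr
  · have htop : (⊥ : Subalgebra k A) = ⊤ := by
      rw [← hgen, Set.range_eq_empty x, Algebra.adjoin_empty]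
    refine finrank_eq_one_of_eq_bot ε ((Submodule.eq_bot_iff _).2 fun a ha => ?_)
    obtain ⟨c, rfl⟩ := Algebra.mem_bot.1 (htop ▸ (Algebra.mem_top : a ∈ (⊤ : Subalgebra k A)))
    simp only [RingHom.mem_ker, AlgHom.commutes, Algebra.algebraMap_self_apply] at ha
    rw [ha, map_zero]
  · exfalso
    have hxN : x ⟨0, hr⟩ ^ N = 0 := by
      have := Ideal.pow_mem_pow (hx ⟨0, hr⟩) N
      rwa [hnil, Ideal.mem_bot] at this
    have h1 := eq_zero_of_sum_mul_pow_eq_zero (d ⟨0, hr⟩) (x ⟨0, hr⟩) (by rw [hd, if_pos rfl]) (N + 1)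
      (fun j hj _ => Nat.cast_ne_zero.2 hj.ne') (N + 1) le_rfl (fun j => if j = N then 1 else 0)
      (fun j => by split_ifs <;> simp) (by
        rw [Finset.sum_eq_single N]
        · rw [if_pos rfl, one_mul, hxN]
        · intro j _ hj; rw [if_neg hj, zero_mul]
        · simp) N (Nat.lt_succ_self N)
    rw [if_pos rfl] at h1
    haveI := ε.toRingHom.domain_nontrivial
    exact one_ne_zero h1

section CharP

variable (ℓ : ℕ) [Fact ℓ.Prime] [CharP k ℓ]

theorem comul_mem_range {A : Type v} [CommRing A] [Algebra k A] (Δ : A →ₐ[k] A ⊗[k] A) [Nontrivial A]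
    {a : A} (ha : a ∈ powSub k A ℓ) :
    Δ a ∈ (Algebra.TensorProduct.map (powSub k A ℓ).val (powSub k A ℓ).val).range := by
  haveI : Nontrivial (A ⊗[k] A) := inferInstance
  haveI : CharP (A ⊗[k] A) ℓ := charP_of_injective_algebraMap (algebraMap k (A ⊗[k] A)).injective ℓ
  suffices powSub k A ℓ ≤ (Algebra.TensorProduct.map (powSub k A ℓ).val (powSub k A ℓ).val).range.comap Δ from
    this ha
  refine Algebra.adjoin_le ?_
  rintro _ ⟨b, rfl⟩
  change Δ (b ^ ℓ) ∈ (Algebra.TensorProduct.map (powSub k A ℓ).val (powSub k A ℓ).val).range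
  rw [map_pow]
  generalize Δ b = X
  induction X with
  | zero => rw [zero_pow (Fact.out : ℓ.Prime).ne_zero]; exact Subalgebra.zero_mem _
  | add u v hu hv => rw [add_pow_char]; exact Subalgebra.add_mem _ hu hv
  | tmul p q =>
    exact ⟨⟨p ^ ℓ, Algebra.subset_adjoin ⟨p, rfl⟩⟩ ⊗ₜ ⟨q ^ ℓ, Algebra.subset_adjoin ⟨q, rfl⟩⟩, by simp [Algebra.TensorProduct.tmul_pow]⟩

theorem powSub_map_injective {A : Type v} [CommRing A] [Algebra k A] :
    Function.Injective (Algebra.TensorProduct.map (powSub k A ℓ).val (powSub k A ℓ).val) :=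
  TensorProduct.map_injective_of_flat_flat (powSub k A ℓ).val.toLinearMap (powSub k A ℓ).val.toLinearMap
    Subtype.val_injective Subtype.val_injective

/-- The order of a connected finite group scheme is a power of the characteristic. -/
theorem exists_finrank_eq_pow {A : Type v} [CommRing A] [Algebra k A]
    [FiniteDimensional k A] {ε : A →ₐ[k] k} {Δ : A →ₐ[k] A ⊗[k] A} (hΔ : IsCounital ε Δ) {N : ℕ}
    (hnil : RingHom.ker ε ^ N = ⊥) : ∃ e, Module.finrank k A = ℓ ^ e := by
  induction hn : Module.finrank k A using Nat.strong_induction_on generalizing A N with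
  | _ n ih =>
    subst hn
    haveI := ε.toRingHom.domain_nontrivial
    obtain ⟨r, x, d, hx, hd, hgen⟩ := exists_structure hΔ hnil
    have hdim := finrank_eq_pow_mul ℓ x d hd hgen
    rcases Nat.eq_zero_or_pos r with rfl | hr
    · refine ⟨0, ?_⟩
      have htop : (⊥ : Subalgebra k A) = ⊤ := by
        rw [← hgen, Set.range_eq_empty x, Algebra.adjoin_empty]
      rw [pow_zero]
      refine finrank_eq_one_of_eq_bot ε ((Submodule.eq_bot_iff _).2 fun a ha => ?_)
      obtain ⟨c, rfl⟩ := Algebra.mem_bot.1 (htop ▸ (Algebra.mem_top : a ∈ (⊤ : Subalgebra k A)))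
      simp only [RingHom.mem_ker, AlgHom.commutes, Algebra.algebraMap_self_apply] at ha
      rw [ha, map_zero]
    · let B := powSub k A ℓ
      let ι2 := Algebra.TensorProduct.map B.val B.val
      let ΔB : B →ₐ[k] B ⊗[k] B :=
        (AlgEquiv.ofInjective ι2 (powSub_map_injective ℓ)).symm.toAlgHom.comp
          ((Δ.comp B.val).codRestrict ι2.range fun b => comul_mem_range ℓ Δ b.2)
      have hΔB : ∀ b, ι2 (ΔB b) = Δ b.1 := fun b =>
        congrArg Subtype.val ((AlgEquiv.ofInjective ι2 (powSub_map_injective ℓ)).apply_symm_apply _)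
      have hB : IsCounital (ε.comp B.val) ΔB := by
        constructor
        · intro b
          refine Subtype.ext ?_
          conv_rhs => rw [← hΔ.left b.1, ← hΔB]
          generalize ΔB b = X
          induction X with
          | zero => simp
          | add u v hu hv => simp only [map_add, Subalgebra.coe_add, hu, hv]
          | tmul p q => simp [ι2]
        · intro b
          refine Subtype.ext ?_
          conv_rhs => rw [← hΔ.right b.1, ← hΔB]
          generalize ΔB b = X
          induction X with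
          | zero => simp
          | add u v hu hv => simp only [map_add, Subalgebra.coe_add, hu, hv]
          | tmul p q => simp [ι2]
      have hBnil : RingHom.ker (ε.comp B.val) ^ N = ⊥ := by
        have hle : Ideal.map B.val (RingHom.ker (ε.comp B.val)) ≤ RingHom.ker ε :=
          Ideal.map_le_iff_le_comap.2 fun b hb => hb
        refine (Submodule.eq_bot_iff _).2 fun b hb => Subtype.ext ?_
        have := Ideal.pow_right_mono hle N (by rw [← Ideal.map_pow]; exact Ideal.mem_map_of_mem _ hb)
        rwa [hnil, Ideal.mem_bot] at this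
      have hpos : 0 < Module.finrank k B := Module.finrank_pos
      have hlt : Module.finrank k B < Module.finrank k A := by
        rw [hdim]
        exact lt_mul_of_one_lt_left hpos (Nat.one_lt_pow hr.ne' (Fact.out : ℓ.Prime).one_lt)
      obtain ⟨e, he⟩ := ih _ hlt hB hBnil rfl
      exact ⟨r + e, by rw [hdim, he, pow_add]⟩

/-- Height one: the dimension is `ℓ` to the dimension of the tangent space. -/
theorem powSub_eq_bot {A : Type v} [CommRing A] [Algebra k A] [Nontrivial A] (ε : A →ₐ[k] k)
    (h : ∀ a, ε a = 0 → a ^ ℓ = 0) : powSub k A ℓ = ⊥ := by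
  haveI : CharP A ℓ := charP_of_injective_algebraMap (algebraMap k A).injective ℓ
  refine eq_bot_iff.2 (Algebra.adjoin_le ?_)
  rintro _ ⟨a, rfl⟩
  refine Algebra.mem_bot.2 ⟨ε a ^ ℓ, ?_⟩
  have e := h (a - algebraMap k A (ε a)) (sub_algebraMap_mem ε a)
  rw [sub_pow_char, sub_eq_zero] at e
  rw [map_pow]
  exact e.symm

end CharP

section Hopf

variable (k) (A : Type v) [CommRing A] [Bialgebra k A]

theorem isCounital_bialgebra :
    IsCounital (Bialgebra.counitAlgHom k A) (Bialgebra.comulAlgHom k A) := by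
  constructor
  · intro a
    have h := Coalgebra.rTensor_counit_comul (R := k) a
    apply (Algebra.TensorProduct.lid k A).symm.injective
    rw [AlgEquiv.symm_apply_apply]
    exact h
  · intro a
    have h := Coalgebra.lTensor_counit_comul (R := k) a
    apply (Algebra.TensorProduct.rid k k A).symm.injective
    rw [AlgEquiv.symm_apply_apply]
    exact h

end Hopf

end Groth.Agent.FinHopf
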