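import Mathlib

/-! Convolution monoids: composition, restriction along a base change, translations. -/

set_option autoImplicit false

open TensorProduct WithConv Coalgebra

noncomputable section

namespace Groth.Agent.FinHopf

section
variable {R : Type*} [CommRing R] {C : Type*} [CommRing C] [Bialgebra R C]
variable {A : Type*} [CommRing A] [Algebra R A] {B : Type*} [CommRing B] [Algebra R B]

/-- Post-composition with an algebra map is a monoid map of convolution monoids. -/
def postComp (h : A →ₐ[R] B) : WithConv (C →ₐ[R] A) →* WithConv (C →ₐ[R] B) where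
  toFun f := toConv (h.comp f.ofConv)
  map_one' := by
    refine WithConv.ext (AlgHom.ext fun c => ?_)
    exact h.commutes _
  map_mul' f g := by rw [AlgHom.comp_convMul_distrib, toConv_ofConv]

@[simp] theorem postComp_apply (h : A →ₐ[R] B) (f : WithConv (C →ₐ[R] A)) (c : C) :
    (postComp h f).ofConv c = h (f.ofConv c) := rfl

/-- Post-composition on linear maps is an algebra map of convolution algebras. -/
def postCompLin (h : A →ₐ[R] B) : WithConv (C →ₗ[R] A) →ₐ[R] WithConv (C →ₗ[R] B) where
  toFun f := toConv (h.toLinearMap.comp f.ofConv)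
  map_one' := by
    refine WithConv.ext (LinearMap.ext fun c => ?_)
    exact h.commutes _
  map_mul' f g := by rw [LinearMap.algHom_comp_convMul_distrib, toConv_ofConv]
  map_zero' := by
    refine WithConv.ext (LinearMap.ext fun c => ?_)
    exact map_zero h
  map_add' f g := by
    refine WithConv.ext (LinearMap.ext fun c => ?_)
    exact map_add h _ _
  commutes' r := by
    refine WithConv.ext (LinearMap.ext fun c => ?_)
    simp only [ofConv_toConv, LinearMap.comp_apply]
    rw [LinearMap.convAlgebraMap_apply, LinearMap.convAlgebraMap_apply]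
    simp

@[simp] theorem postCompLin_apply (h : A →ₐ[R] B) (f : WithConv (C →ₗ[R] A)) (c : C) :
    (postCompLin h f).ofConv c = h (f.ofConv c) := rfl

/-- The linear map underlying an algebra map, as a monoid map of convolution monoids. -/
def toLin : WithConv (C →ₐ[R] A) →* WithConv (C →ₗ[R] A) where
  toFun f := toConv f.ofConv.toLinearMap
  map_one' := rfl
  map_mul' _ _ := rfl

theorem toLin_injective : Function.Injective (toLin (R := R) (C := C) (A := A)) := fun _ _ h =>
  WithConv.ext (AlgHom.toLinearMap_injective (congrArg WithConv.ofConv h))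

end

/-! ### Restriction along a base change `R → K` -/

section
variable {R : Type*} [CommRing R] {K : Type*} [CommRing K] [Algebra R K]
variable {C : Type*} [CommRing C] [Bialgebra R C]
variable {T : Type*} [CommRing T] [Algebra K T] [Algebra R T] [IsScalarTower R K T]

/-- Restriction of linear maps `K ⊗ C → T` to `C`, as a monoid map of convolution monoids. -/
def restrictLin : WithConv (K ⊗[R] C →ₗ[K] T) →* WithConv (C →ₗ[R] T) where
  toFun f := toConv ((f.ofConv.restrictScalars R).comp (TensorProduct.mk R K C 1))
  map_one' := by
    refine WithConv.ext (LinearMap.ext fun c => ?_)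
    change (1 : WithConv (K ⊗[R] C →ₗ[K] T)).ofConv ((1 : K) ⊗ₜ[R] c) = _
    rw [LinearMap.convOne_apply, LinearMap.convOne_apply, TensorProduct.counit_tmul,
      CommSemiring.counit_apply, IsScalarTower.algebraMap_apply R K T, Algebra.smul_def, mul_one]
  map_mul' f g := by
    refine WithConv.ext (LinearMap.ext fun c => ?_)
    change (f * g).ofConv ((1 : K) ⊗ₜ[R] c) = _
    rw [LinearMap.convMul_apply, LinearMap.convMul_apply, TensorProduct.comul_tmul,
      CommSemiring.comul_apply]
    generalize Coalgebra.comul (R := R) c = x
    induction x with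
    | zero => simp
    | add x y hx hy => simp only [TensorProduct.tmul_add, map_add, hx, hy]
    | tmul a b => simp

@[simp] theorem restrictLin_apply (f : WithConv (K ⊗[R] C →ₗ[K] T)) (c : C) :
    (restrictLin f).ofConv c = f.ofConv ((1 : K) ⊗ₜ[R] c) := rfl

theorem restrictLin_injective : Function.Injective (restrictLin (R := R) (K := K) (C := C) (T := T)) := by
  intro f g h
  refine WithConv.ext (LinearMap.ext fun x => ?_)
  induction x using TensorProduct.induction_on with
  | zero => simp
  | add x y hx hy => rw [map_add, map_add, hx, hy]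
  | tmul s c =>
    have h1 : f.ofConv ((1 : K) ⊗ₜ[R] c) = g.ofConv ((1 : K) ⊗ₜ[R] c) :=
      congrArg (fun φ => φ.ofConv c) h
    rw [show s ⊗ₜ[R] c = s • ((1 : K) ⊗ₜ[R] c) by rw [TensorProduct.smul_tmul', smul_eq_mul, mul_one],
      map_smul, map_smul, h1]

theorem restrictLin_surjective : Function.Surjective (restrictLin (R := R) (K := K) (C := C) (T := T)) := by
  intro f
  refine ⟨toConv (LinearMap.liftBaseChange K f.ofConv), WithConv.ext (LinearMap.ext fun c => ?_)⟩
  simp

/-- Restriction of algebra maps `K ⊗ C → T` to `C`, as a monoid map of convolution monoids. -/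
def restrictAlg : WithConv (K ⊗[R] C →ₐ[K] T) →* WithConv (C →ₐ[R] T) where
  toFun f := toConv ((f.ofConv.restrictScalars R).comp Algebra.TensorProduct.includeRight)
  map_one' := toLin_injective (by
    change restrictLin (toLin (1 : WithConv (K ⊗[R] C →ₐ[K] T))) = toLin (1 : WithConv (C →ₐ[R] T))
    rw [map_one, map_one, map_one])
  map_mul' f g := toLin_injective (by
    change restrictLin (toLin (f * g)) = toLin (_ : WithConv (C →ₐ[R] T))
    rw [map_mul, map_mul, map_mul]
    rfl)

@[simp] theorem restrictAlg_apply (f : WithConv (K ⊗[R] C →ₐ[K] T)) (c : C) :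
    (restrictAlg f).ofConv c = f.ofConv ((1 : K) ⊗ₜ[R] c) := rfl

/-- The convolution powers of the identity commute with base change. -/
theorem pow_id_baseChange (n : ℕ) (c : C) :
    ((toConv (AlgHom.id K (K ⊗[R] C))) ^ n).ofConv ((1 : K) ⊗ₜ[R] c) =
      (1 : K) ⊗ₜ[R] ((toConv (AlgHom.id R C)) ^ n).ofConv c := by
  have h1 : restrictAlg (R := R) (toConv (AlgHom.id K (K ⊗[R] C))) =
      postComp Algebra.TensorProduct.includeRight (toConv (AlgHom.id R C)) :=
    WithConv.ext (AlgHom.ext fun _ => rfl)
  have h2 := congrArg (fun f => f ^ n) h1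
  simp only [← map_pow] at h2
  exact congrArg (fun f => f.ofConv c) h2

end

/-! ### Translations -/

section
variable {R : Type*} [CommRing R] {A : Type*} [CommRing A] [HopfAlgebra R A]

/-- Translation by a rational point: `a ↦ ∑ g(a₁) a₂`. -/
def transl (g : WithConv (A →ₐ[R] R)) : A →ₐ[R] A :=
  (postComp (Algebra.ofId R A) g * toConv (AlgHom.id R A)).ofConv

theorem counit_comp_transl (g : WithConv (A →ₐ[R] R)) :
    (Bialgebra.counitAlgHom R A).comp (transl g) = g.ofConv := by
  have h : postComp (Bialgebra.counitAlgHom R A) (toConv (transl g)) = g := by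
    rw [transl, toConv_ofConv, map_mul]
    have h1 : postComp (Bialgebra.counitAlgHom R A) (postComp (Algebra.ofId R A) g) = g :=
      WithConv.ext (AlgHom.ext fun a => (Bialgebra.counitAlgHom R A).commutes _)
    have h2 : postComp (Bialgebra.counitAlgHom R A) (toConv (AlgHom.id R A)) = 1 :=
      WithConv.ext (AlgHom.ext fun a => rfl)
    rw [h1, h2, mul_one]
  exact congrArg WithConv.ofConv h

theorem transl_one : transl (1 : WithConv (A →ₐ[R] R)) = AlgHom.id R A := by
  rw [transl, map_one, one_mul]

theorem transl_comp (g h : WithConv (A →ₐ[R] R)) : (transl g).comp (transl h) = transl (h * g) := by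
  have : postComp (transl g) (toConv (transl h)) = toConv (transl (h * g)) := by
    rw [transl, transl, transl, toConv_ofConv, toConv_ofConv, map_mul, map_mul, mul_assoc]
    refine congrArg₂ (· * ·) (WithConv.ext (AlgHom.ext fun a => ?_)) (WithConv.ext (AlgHom.ext fun a => rfl))
    exact AlgHom.commutes ((postComp (Algebra.ofId R A) g * toConv (AlgHom.id R A)).ofConv) _
  exact congrArg WithConv.ofConv this

theorem transl_bijective (g : WithConv (A →ₐ[R] R)) : Function.Bijective (transl g) := by
  refine Function.bijective_iff_has_inverse.2 ⟨transl g⁻¹, fun a => ?_, fun a => ?_⟩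
  · change ((transl g⁻¹).comp (transl g)) a = a
    rw [transl_comp, mul_inv_cancel, transl_one, AlgHom.id_apply]
  · change ((transl g).comp (transl g⁻¹)) a = a
    rw [transl_comp, inv_mul_cancel, transl_one, AlgHom.id_apply]

end

end Groth.Agent.FinHopf
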