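import Mathlib
import Groth.Prelude.Def_CartDual

/-! The rank of a dual. -/

set_option autoImplicit false
universe u

open TensorProduct

noncomputable section

namespace Groth.Agent.FinHopf

theorem rankAtStalk_dual {R : Type u} [CommRing R] (M : Type u) [AddCommGroup M] [Module R M]
    [Module.Finite R M] [Module.Projective R M] (q : PrimeSpectrum R) :
    Module.rankAtStalk (R := R) (Module.Dual R M) q = Module.rankAtStalk (R := R) M q := by
  rw [Module.rankAtStalk_eq, Module.rankAtStalk_eq]
  let k := q.asIdeal.ResidueField
  let g : Module.Dual R M →ₗ[R] (M →ₗ[R] k) := LinearMap.compRight R (Algebra.linearMap R k)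
  have e : ∀ z, LinearMap.liftBaseChange k g z =
      dualTensorHom R M k (TensorProduct.comm R k (Module.Dual R M) z) := by
    intro z
    induction z using TensorProduct.induction_on with
    | zero => simp
    | add a b ha hb => simp only [map_add, ha, hb]
    | tmul c f =>
      ext m
      simp [g, Algebra.smul_def, mul_comm]
  have hbij : Function.Bijective (LinearMap.liftBaseChange k g) := by
    rw [show (LinearMap.liftBaseChange k g : k ⊗[R] Module.Dual R M → _) =
      dualTensorHom R M k ∘ TensorProduct.comm R k (Module.Dual R M) from funext e]
    exact (dualTensorHom_bijective (R := R) (M := M) (N := k)).comp (TensorProduct.comm R _ _).bijective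
  have h1 := (LinearEquiv.ofBijective _ hbij).trans (LinearMap.liftBaseChangeEquiv k)
  exact h1.finrank_eq.trans Subspace.dual_finrank_eq

theorem rankAtStalk_cartDual {R : Type u} [CommRing R] (A : Type u) [AddCommGroup A] [Module R A]
    [Module.Finite R A] [Module.Projective R A] (q : PrimeSpectrum R) :
    Module.rankAtStalk (R := R) (CartDual.D R A) q = Module.rankAtStalk (R := R) A q :=
  (congrFun (Module.rankAtStalk_eq_of_equiv (CartDual.toDual R A)) q).trans (rankAtStalk_dual A q)

end Groth.Agent.FinHopf
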