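import Groth.Agent.FinHopf.Eigen
import Groth.Prelude.Def_CartDual

/-! Power maps and eigenspaces on the dual Hopf algebra. -/

set_option autoImplicit false
universe u

open TensorProduct WithConv

noncomputable section

namespace Groth.Agent.FinHopf

variable {p : ℕ} [Fact p.Prime] {R : Type u} [CommRing R] {χ : (ZMod p)ˣ →* Rˣ}
  {A : Type u} [CommRing A] [HopfAlgebra R A] [Coalgebra.IsCocomm R A]
  [Module.Finite R A] [Module.Projective R A]

/-- The power maps of the dual are the transposes of the power maps. -/
theorem powConv_dual (n : ℕ) : ∀ (f : CartDual.D R A) (a : A),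
    (SGA3b.powConv R (CartDual.D R A) n f).ofConv a = f.ofConv (SGA3b.powConv R A n a) := by
  induction n with
  | zero =>
    intro f a
    rw [powConv_apply, powConv_apply, pow_zero, pow_zero, AlgHom.convOne_apply, AlgHom.convOne_apply]
    rw [CartDual.coalgebra_counit_apply, LinearMap.convAlgebraMap_apply]
    simp [CartDual.coe_apply, Algebra.algebraMap_eq_smul_one, mul_comm]
  | succ n ih =>
    intro f a
    rw [powConv_apply, powConv_apply, pow_succ, pow_succ, AlgHom.convMul_apply, AlgHom.convMul_apply]
    have h1 : ∀ Y : CartDual.D R A ⊗[R] CartDual.D R A,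
        (Algebra.TensorProduct.lift ((toConv (AlgHom.id R (CartDual.D R A))) ^ n).ofConv (AlgHom.id R _)
          (fun _ _ => Commute.all _ _) Y).ofConv a =
        CartDual.ev₂ R A Y (Algebra.TensorProduct.map ((toConv (AlgHom.id R A)) ^ n).ofConv (AlgHom.id R A)
          (Coalgebra.comul (R := R) a)) := by
      intro Y
      induction Y using TensorProduct.induction_on with
      | zero => simp
      | add u v hu hv => simp only [map_add, WithConv.ofConv_add, LinearMap.add_apply, hu, hv]
      | tmul g g' =>
        rw [Algebra.TensorProduct.lift_tmul, AlgHom.id_apply, LinearMap.convMul_apply]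
        generalize Coalgebra.comul (R := R) a = X
        induction X using TensorProduct.induction_on with
        | zero => simp
        | add u v hu hv => simp only [map_add, hu, hv]
        | tmul b b' =>
          rw [TensorProduct.map_tmul, LinearMap.mul'_apply, Algebra.TensorProduct.map_tmul, CartDual.ev₂_tmul,
            AlgHom.id_apply, ← powConv_apply, ih, powConv_apply]
    rw [h1]
    generalize Coalgebra.comul (R := R) a = X
    induction X using TensorProduct.induction_on with
    | zero => simp
    | add u v hu hv => simp only [map_add, hu, hv]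
    | tmul b b' =>
      rw [Algebra.TensorProduct.map_tmul, CartDual.ev₂_coalgebra_comul_tmul, Algebra.TensorProduct.lift_tmul]

theorem convPow_dual (hp : (toConv (AlgHom.id R A)) ^ p = 1) :
    (toConv (AlgHom.id R (CartDual.D R A))) ^ p = 1 := by
  refine WithConv.ext (AlgHom.ext fun f => WithConv.ext (LinearMap.ext fun a => ?_))
  rw [← powConv_apply, powConv_dual, powConv_apply, hp, AlgHom.convOne_apply, AlgHom.convOne_apply,
    CartDual.coalgebra_counit_apply, LinearMap.convAlgebraMap_apply]
  simp [CartDual.coe_apply, Algebra.algebraMap_eq_smul_one, mul_comm]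

/-- The averaging operators of the dual are the transposes. -/
theorem proj_dual (u : R) (i : ℕ) (f : CartDual.D R A) (a : A) :
    (OortTate.proj R (CartDual.D R A) p u χ i f).ofConv a = f.ofConv (OortTate.proj R A p u χ i a) := by
  rw [proj_apply, proj_apply]
  simp [WithConv.ofConv_sum, LinearMap.sum_apply, powConv_dual, map_sum, map_smul]

theorem counit_dual (f : CartDual.D R A) :
    Bialgebra.counitAlgHom R (CartDual.D R A) f = f.ofConv 1 := rfl

/-- Restriction identifies the eigenspace of the dual with the dual of the eigenspace. -/
theorem dual_eigen_bijective {u : R} (hu : u * ((p - 1 : ℕ) : R) = 1)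
    (hχ : ∀ m : (ZMod p)ˣ, m ≠ 1 → IsUnit ((χ m : R) - 1))
    (hp : (toConv (AlgHom.id R A)) ^ p = 1) (i : ℕ) :
    Function.Bijective (fun f : OortTate.eigenAug R (CartDual.D R A) p χ i =>
      ((CartDual.toDual R A) (f : CartDual.D R A)).comp (OortTate.eigenAug R A p χ i).subtype) := by
  have hπ : ∀ a : A, Bialgebra.counitAlgHom R A (a - algebraMap R A (Bialgebra.counitAlgHom R A a)) = 0 := fun a => by
    rw [map_sub, AlgHom.commutes, Algebra.algebraMap_self_apply, sub_self]
  constructor
  · intro f g h
    apply Subtype.ext
    refine WithConv.ext (LinearMap.ext fun a => ?_)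
    have key : ∀ f : OortTate.eigenAug R (CartDual.D R A) p χ i, (f : CartDual.D R A).ofConv a =
        ((CartDual.toDual R A) (f : CartDual.D R A)).comp (OortTate.eigenAug R A p χ i).subtype
          ⟨_, proj_mem hp u i (hπ a)⟩ := by
      intro f
      have h1 := proj_of_mem hχ hu (i := i) f.2
      rw [if_pos rfl] at h1
      have h2 : (f : CartDual.D R A).ofConv 1 = 0 := (mem_eigenAug.1 f.2).1
      simp only [LinearMap.comp_apply, Submodule.subtype_apply, CartDual.toDual_apply]
      rw [← proj_dual, h1, map_sub, Algebra.algebraMap_eq_smul_one, map_smul, h2, smul_zero, sub_zero]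
    rw [key f, key g]
    exact LinearMap.congr_fun h _
  · intro g
    let P : A →ₗ[R] OortTate.eigenAug R A p χ i :=
      ((OortTate.proj R A p u χ i).comp (LinearMap.id - (Algebra.linearMap R A).comp
        (Bialgebra.counitAlgHom R A).toLinearMap)).codRestrict _ fun a => proj_mem hp u i (hπ a)
    have hP : ∀ (m : (ZMod p)ˣ) (a : A), P (SGA3b.powConv R A (m : ZMod p).val a) =
        (((χ m : Rˣ) : R) ^ i) • P a := by
      intro m a
      apply Subtype.ext
      change OortTate.proj R A p u χ i (SGA3b.powConv R A _ a - algebraMap R A (Bialgebra.counitAlgHom R A _)) = _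
      rw [counit_powConv, SetLike.val_smul]
      change _ = _ • OortTate.proj R A p u χ i (a - algebraMap R A (Bialgebra.counitAlgHom R A a))
      have e : SGA3b.powConv R A (m : ZMod p).val a - algebraMap R A (Bialgebra.counitAlgHom R A a) =
          SGA3b.powConv R A (m : ZMod p).val (a - algebraMap R A (Bialgebra.counitAlgHom R A a)) := by
        rw [map_sub, AlgHom.commutes]
      rw [e, ← (mem_eigenAug.1 (proj_mem hp u i (hπ a))).2 m, proj_apply, proj_apply, map_smul, map_sum]
      refine congrArg (u • ·) (Finset.sum_congr rfl fun m' _ => ?_)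
      rw [map_smul, powConv_units_comp hp, powConv_units_comp hp, mul_comm]
    refine ⟨⟨toConv (g ∘ₗ P), mem_eigenAug.2 ⟨?_, fun m => ?_⟩⟩, LinearMap.ext fun z => ?_⟩
    · rw [counit_dual, WithConv.ofConv_toConv, LinearMap.comp_apply]
      have : P 1 = 0 := by
        apply Subtype.ext
        change OortTate.proj R A p u χ i (1 - algebraMap R A (Bialgebra.counitAlgHom R A 1)) = 0
        rw [map_one, map_one, sub_self, map_zero]
      rw [this, map_zero]
    · refine WithConv.ext (LinearMap.ext fun a => ?_)
      rw [powConv_dual, WithConv.ofConv_toConv, LinearMap.comp_apply, hP, map_smul]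
      rfl
    · change g (P z.1) = g z
      congr 1
      apply Subtype.ext
      change OortTate.proj R A p u χ i (z.1 - algebraMap R A (Bialgebra.counitAlgHom R A z.1)) = z
      rw [(mem_eigenAug.1 z.2).1, map_zero, sub_zero, proj_of_mem hχ hu z.2, if_pos rfl]

/-- Restriction to the augmentation ideal. -/
theorem dual_ker_bijective {R : Type*} [CommRing R] {A : Type*} [CommRing A] [HopfAlgebra R A]
    [Module.Finite R A] [Module.Projective R A] :
    Function.Bijective (fun f : LinearMap.ker (Bialgebra.counitAlgHom R (CartDual.D R A)).toLinearMap =>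
      ((CartDual.toDual R A) (f : CartDual.D R A)).comp
        (LinearMap.ker (Bialgebra.counitAlgHom R A).toLinearMap).subtype) := by
  let N := LinearMap.ker (Bialgebra.counitAlgHom R A).toLinearMap
  let π : A →ₗ[R] N := (LinearMap.id - (Algebra.linearMap R A).comp
    (Bialgebra.counitAlgHom R A).toLinearMap).codRestrict N fun a => by
      change Bialgebra.counitAlgHom R A (a - algebraMap R A (Bialgebra.counitAlgHom R A a)) = 0
      rw [map_sub, AlgHom.commutes, Algebra.algebraMap_self_apply, sub_self]
  constructor
  · intro f g h
    refine Subtype.ext (WithConv.ext (LinearMap.ext fun a => ?_))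
    have key : ∀ f : LinearMap.ker (Bialgebra.counitAlgHom R (CartDual.D R A)).toLinearMap,
        (f : CartDual.D R A).ofConv a = ((CartDual.toDual R A) (f : CartDual.D R A)).comp N.subtype (π a) := by
      intro f
      have h2 : (f : CartDual.D R A).ofConv 1 = 0 := f.2
      change _ = (f : CartDual.D R A).ofConv (a - algebraMap R A (Bialgebra.counitAlgHom R A a))
      rw [map_sub, Algebra.algebraMap_eq_smul_one, map_smul, h2, smul_zero, sub_zero]
    rw [key f, key g]
    exact LinearMap.congr_fun h _
  · intro g
    refine ⟨⟨toConv (g ∘ₗ π), ?_⟩, LinearMap.ext fun z => ?_⟩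
    · change g (π 1) = 0
      have : π 1 = 0 := by
        apply Subtype.ext
        change 1 - algebraMap R A (Bialgebra.counitAlgHom R A 1) = 0
        rw [map_one, map_one, sub_self]
      rw [this, map_zero]
    · change g (π z.1) = g z
      congr 1
      apply Subtype.ext
      change z.1 - algebraMap R A (Bialgebra.counitAlgHom R A z.1) = z
      rw [show Bialgebra.counitAlgHom R A z.1 = 0 from z.2, map_zero, sub_zero]

end Groth.Agent.FinHopf
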