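import Groth.Agent.FinHopf.Eigen
import Groth.Agent.FinHopf.OrderP

/-! The generator of the first eigenspace over an algebraically closed field. -/

set_option autoImplicit false
universe u

open TensorProduct WithConv

noncomputable section

namespace Groth.Agent.FinHopf

variable {k : Type u} [Field k] {A : Type u} [CommRing A] [HopfAlgebra k A]

theorem deriv_powConv (ξ : A →ₗ[k] k) (hξ : ∀ a b, ξ (a * b) =
      Bialgebra.counitAlgHom k A a * ξ b + Bialgebra.counitAlgHom k A b * ξ a) (x : A) :
    ∀ n : ℕ, ξ (SGA3b.powConv k A n x) = (n : k) * ξ x := by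
  intro n
  induction n with
  | zero =>
    rw [powConv_apply, pow_zero, AlgHom.convOne_apply, Algebra.algebraMap_eq_smul_one, map_smul]
    have : ξ 1 = 0 := by simpa using hξ 1 1
    simp [this]
  | succ n ih =>
    rw [powConv_apply, pow_succ, AlgHom.convMul_apply]
    have key : ∀ X : A ⊗[k] A,
        ξ (Algebra.TensorProduct.lift ((toConv (AlgHom.id k A)) ^ n).ofConv (AlgHom.id k A)
          (fun _ _ => Commute.all _ _) X) =
        ξ (SGA3b.powConv k A n (Algebra.TensorProduct.rid k k A
            (Algebra.TensorProduct.map (AlgHom.id k A) (Bialgebra.counitAlgHom k A) X))) +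
          ξ (Algebra.TensorProduct.lid k A
            (Algebra.TensorProduct.map (Bialgebra.counitAlgHom k A) (AlgHom.id k A) X)) := by
      intro X
      induction X using TensorProduct.induction_on with
      | zero => simp
      | add a b ha hb => simp only [map_add, ha, hb]; ring
      | tmul a b =>
        simp only [Algebra.TensorProduct.lift_tmul, Algebra.TensorProduct.map_tmul, AlgHom.id_apply,
          Algebra.TensorProduct.rid_tmul, Algebra.TensorProduct.lid_tmul, map_smul, smul_eq_mul, hξ,
          ← powConv_apply, counit_powConv]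
        ring
    refine (key (Bialgebra.comulAlgHom k A x)).trans ?_
    rw [(isCounital_bialgebra k A).right, (isCounital_bialgebra k A).left, ih, Nat.cast_succ]
    ring

variable {p : ℕ} [Fact p.Prime] {χ : (ZMod p)ˣ →* kˣ}

/-- Over an algebraically closed field the first eigenspace contains a generator. -/
theorem exists_eigen_generator [IsAlgClosed k] [FiniteDimensional k A] {u : k}
    (hu : u * ((p - 1 : ℕ) : k) = 1) (hχ : ∀ m : (ZMod p)ˣ, m ≠ 1 → IsUnit ((χ m : k) - 1))
    (hχp : ∀ m : (ZMod p)ˣ, ((χ m : kˣ) : k) - (((m : ZMod p).val : ℕ) : k) ∈ Ideal.span ({(p : k)} : Set k))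
    (hA : Module.finrank k A = p) :
    ∃ y ∈ OortTate.eigenAug k A p χ 1, LinearIndependent k fun i : Fin p => y ^ (i : ℕ) := by
  classical
  have hp : p.Prime := Fact.out
  have hkill : (toConv (AlgHom.id k A)) ^ p = 1 := hA ▸ convPow_finrank_eq_one
  rcases prime_order_cases p hp hA with ⟨hc, hev⟩ | ⟨-, hch, hnil, x, ξ, hξ, hx, hξx, -⟩
  · haveI : Finite (WithConv (A →ₐ[k] k)) := Finite.of_equiv _ (WithConv.equiv _).symm
    have hcard : Nat.card (WithConv (A →ₐ[k] k)) = p := (Nat.card_congr (WithConv.equiv _)).trans hc
    let e : Multiplicative (ZMod p) ≃* WithConv (A →ₐ[k] k) := mulEquivOfPrimeCardEq (p := p) (by simp) hcard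
    let val : ZMod p → k := fun a => if h : a = 0 then 0 else ((χ (Units.mk0 a h) : kˣ) : k)
    obtain ⟨y, hy⟩ := hev.2 fun g => val (Multiplicative.toAdd (e.symm (toConv g)))
    have hy' : ∀ z, (e z).ofConv y = val (Multiplicative.toAdd z) := fun z => by
      have := congrFun hy (e z).ofConv
      simpa using this
    have hpow : ∀ (n : ℕ) (g : WithConv (A →ₐ[k] k)), g.ofConv (SGA3b.powConv k A n y) = (g ^ n).ofConv y := by
      intro n g
      have h : postComp g.ofConv ((toConv (AlgHom.id k A)) ^ n) = g ^ n := by
        rw [map_pow]; exact congrArg (· ^ n) (WithConv.ext (AlgHom.ext fun _ => rfl))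
      exact congrArg (fun f => f.ofConv y) h
    refine ⟨y, mem_eigenAug.2 ⟨?_, fun m => hev.1 (funext fun g => ?_)⟩, ?_⟩
    · have := hy' 1
      rw [map_one] at this
      simpa [val] using this
    · obtain ⟨z, hz⟩ := e.surjective (toConv g)
      rw [evalPoints_apply, evalPoints_apply, show g = (e z).ofConv by rw [hz], map_smul, hpow, ← map_pow,
        hy', hy', pow_one, toAdd_pow, smul_eq_mul, nsmul_eq_mul, ZMod.natCast_val, ZMod.cast_id]
      by_cases h : Multiplicative.toAdd z = 0
      · simp [val, h]
      · have hm : (m : ZMod p) * Multiplicative.toAdd z ≠ 0 := mul_ne_zero m.ne_zero h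
        simp only [val, dif_neg h, dif_neg hm]
        rw [show Units.mk0 _ hm = m * Units.mk0 _ h from Units.ext rfl, map_mul, Units.val_mul]
    · have hval : Function.Injective val := by
        intro a b hab
        by_cases ha : a = 0 <;> by_cases hb : b = 0
        · rw [ha, hb]
        · simp only [val, dif_pos ha, dif_neg hb] at hab
          exact absurd hab.symm (Units.ne_zero _)
        · simp only [val, dif_pos hb, dif_neg ha] at hab
          exact absurd hab (Units.ne_zero _)
        · simp only [val, dif_neg ha, dif_neg hb] at hab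
          by_contra hne
          have hq : Units.mk0 a ha * (Units.mk0 b hb)⁻¹ ≠ 1 := fun h =>
            hne (congrArg Units.val (mul_inv_eq_one.1 h))
          have := hχ _ hq
          rw [map_mul, map_inv, Units.ext hab, mul_inv_cancel, Units.val_one, sub_self] at this
          exact not_isUnit_zero this
      rw [Fintype.linearIndependent_iff]
      intro c hc0
      let P : Polynomial k := ∑ i : Fin p, Polynomial.C (c i) * Polynomial.X ^ (i : ℕ)
      have hP : P = 0 := by
        refine Polynomial.eq_zero_of_natDegree_lt_card_of_eval_eq_zero P hval (fun a => ?_) ?_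
        · have := congrArg (e (Multiplicative.ofAdd a)).ofConv hc0
          simp only [map_sum, map_smul, map_pow, map_zero, hy'] at this
          simpa [P, Polynomial.eval_finsetSum] using this
        · rw [ZMod.card]
          refine lt_of_le_of_lt (Polynomial.natDegree_sum_le_of_forall_le _ _ (n := p - 1) fun i _ => ?_)
            (Nat.sub_lt hp.pos one_pos)
          exact (Polynomial.natDegree_C_mul_X_pow_le _ _).trans (Nat.le_sub_one_of_lt i.2)
      intro i
      have := congrArg (Polynomial.coeff · (i : ℕ)) hP
      simp only [P, Polynomial.finsetSum_coeff, Polynomial.coeff_C_mul_X_pow, Polynomial.coeff_zero] at this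
      rw [Finset.sum_eq_single i] at this
      · simpa using this
      · intro j _ hj; rw [if_neg fun h => hj (Fin.ext h.symm)]
      · simp
  · haveI := hch
    let y := OortTate.proj k A p u χ 1 x
    have hymem : y ∈ OortTate.eigenAug k A p χ 1 := proj_mem hkill u 1 hx
    have hξy : ξ y = 1 := by
      simp only [y, proj_apply, map_smul, map_sum, deriv_powConv ξ hξ, hξx, mul_one, pow_one, smul_eq_mul]
      have : ∀ m : (ZMod p)ˣ, ((χ m⁻¹ : kˣ) : k) * (((m : ZMod p).val : ℕ) : k) = 1 := by
        intro m
        have h := hχp m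
        rw [CharP.cast_eq_zero k p, Ideal.span_singleton_eq_bot.2 rfl, Ideal.mem_bot, sub_eq_zero] at h
        rw [← h, map_inv, Units.inv_mul]
      simp only [this, Finset.sum_const, Finset.card_univ, card_units', nsmul_eq_mul, mul_one, hu]
    let D := invDer _ _ (isCounital_bialgebra k A).right ξ hξ
    have hDy : IsUnit (D y) := isUnit_of_apply_ne_zero (Bialgebra.counitAlgHom k A) hnil (by
      rw [apply_invDer _ _ (isCounital_bialgebra k A).left (isCounital_bialgebra k A).right ξ hξ, hξy]
      exact one_ne_zero)
    obtain ⟨w, hw⟩ := hDy.exists_left_inv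
    refine ⟨y, hymem, Fintype.linearIndependent_iff.2 fun c hc0 i => ?_⟩
    have h1 := eq_zero_of_sum_mul_pow_eq_zero (w • D) y (by rw [Derivation.smul_apply, smul_eq_mul]; exact hw) p
      (fun j hj hjp => by rw [Ne, CharP.cast_eq_zero_iff k p]; exact Nat.not_dvd_of_pos_of_lt hj hjp) p le_rfl
      (fun j => if h : j < p then algebraMap k A (c ⟨j, h⟩) else 0) (fun j => by split_ifs <;> simp) (by
        rw [Finset.sum_range (fun j => (if h : j < p then algebraMap k A (c ⟨j, h⟩) else 0) * y ^ j)]
        simpa [Algebra.smul_def] using hc0) i i.2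
    rw [dif_pos i.2] at h1
    haveI := (Bialgebra.counitAlgHom k A).toRingHom.domain_nontrivial
    exact (map_eq_zero_iff _ (algebraMap k A).injective).1 h1

end Groth.Agent.FinHopf
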