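import Groth.Agent.FinHopf.EigenGeom
import Groth.Agent.FinHopf.Cocomm
import Groth.Agent.FinHopf.Deligne

/-! Oort-Tate: the eigenspaces of a group scheme of prime order are line bundles generated by powers. -/

set_option autoImplicit false
universe u

open TensorProduct WithConv

noncomputable section

namespace Groth.Agent.FinHopf

variable {p : ℕ} [Fact p.Prime] {R : Type u} [CommRing R] {χ : (ZMod p)ˣ →* Rˣ}
  {A : Type u} [CommRing A] [HopfAlgebra R A] [Module.Finite R A] [Module.Projective R A]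

theorem convPow_eq_one_of_prime (hrk : ∀ q : PrimeSpectrum R, Module.rankAtStalk A q = p) :
    (toConv (AlgHom.id R A)) ^ p = 1 := by
  haveI := isCocomm_of_rankAtStalk_eq_prime (C := A) p Fact.out hrk
  exact convPow_id_eq_one R A p hrk

theorem sub_algebraMap_mem' (a : A) :
    a - algebraMap R A (Bialgebra.counitAlgHom R A a) ∈ RingHom.ker (Bialgebra.counitAlgHom R A) := by
  rw [RingHom.mem_ker, map_sub, AlgHom.commutes, Algebra.algebraMap_self_apply, sub_self]

/-- `y` generates `A` freely by its powers near `q`. -/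
structure IsLocalGen (χ : (ZMod p)ˣ →* Rˣ) (q : Ideal R) (y : A) : Prop where
  mem : y ∈ OortTate.eigenAug R A p χ 1
  span : ∀ a : A, ∃ s ∉ q, ∃ c : Fin p → R, s • a = ∑ i, c i • y ^ (i : ℕ)
  indep : ∀ c : Fin p → R, ∑ i, c i • y ^ (i : ℕ) = 0 → ∀ i, ∃ s ∉ q, s * c i = 0

theorem IsLocalGen.eigen {χ : (ZMod p)ˣ →* Rˣ} {q : Ideal R} {y : A} (h : IsLocalGen χ q y)
    {u : R} (hu : u * ((p - 1 : ℕ) : R) = 1) (hχ : ∀ m : (ZMod p)ˣ, m ≠ 1 → IsUnit ((χ m : R) - 1))
    {t : ℕ} (ht1 : 1 ≤ t) (ht : t ≤ p - 1) {z : A} (hz : z ∈ OortTate.eigenAug R A p χ t) :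
    ∃ s ∉ q, ∃ c : R, s • z = c • y ^ t := by
  obtain ⟨s, hs, c, hc⟩ := h.span z
  have hp : p.Prime := Fact.out
  have h0 : c ⟨0, hp.pos⟩ = 0 := by
    have e := congrArg (Bialgebra.counitAlgHom R A) hc
    rw [map_smul, (mem_eigenAug.1 hz).1, smul_zero, map_sum, Finset.sum_eq_single ⟨0, hp.pos⟩] at e
    · simpa using e.symm
    · intro i _ hi
      rw [map_smul, map_pow, (mem_eigenAug.1 h.mem).1, zero_pow (fun h' => hi (Fin.ext h')), smul_zero]
    · simp
  refine ⟨s, hs, c ⟨t, by omega⟩, ?_⟩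
  have e := congrArg (OortTate.proj R A p u χ t) hc
  rw [map_smul, proj_of_mem hχ hu hz, if_pos rfl, map_sum, Finset.sum_eq_single ⟨t, by omega⟩] at e
  · rwa [map_smul, proj_of_mem hχ hu (pow_mem_eigenAug h.mem t ht1), if_pos rfl] at e
  · intro i _ hi
    rcases Nat.eq_zero_or_pos (i : ℕ) with hi0 | hi0
    · rw [show i = ⟨0, hp.pos⟩ from Fin.ext hi0, h0, zero_smul, map_zero]
    · rw [map_smul, proj_of_mem hχ hu (pow_mem_eigenAug h.mem i hi0), if_neg, smul_zero]
      intro hmod
      apply hi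
      refine Fin.ext ?_
      have hi' := i.2
      rcases eq_or_lt_of_le ht with ht' | ht'
      · rw [ht', Nat.mod_self] at hmod
        rcases eq_or_lt_of_le (show (i : ℕ) ≤ p - 1 by omega) with h' | h'
        · simp only; omega
        · rw [Nat.mod_eq_of_lt h'] at hmod; omega
      · rw [Nat.mod_eq_of_lt ht'] at hmod
        rcases eq_or_lt_of_le (show (i : ℕ) ≤ p - 1 by omega) with h' | h'
        · rw [h', Nat.mod_self] at hmod; omega
        · rw [Nat.mod_eq_of_lt h'] at hmod; simp only; omega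
  · simp

theorem IsLocalGen.indep_pow {χ : (ZMod p)ˣ →* Rˣ} {q : Ideal R} {y : A} (h : IsLocalGen χ q y)
    {t : ℕ} (ht : t < p) {c : R} (hc : c • y ^ t = 0) : ∃ s ∉ q, s * c = 0 := by
  have := h.indep (Pi.single ⟨t, ht⟩ c) (by
    rw [Finset.sum_eq_single ⟨t, ht⟩]
    · rw [Pi.single_eq_same]; exact hc
    · intro i _ hi; rw [Pi.single_eq_of_ne hi, zero_smul]
    · simp) ⟨t, ht⟩
  simpa using this

/-- Local generators exist. -/
theorem exists_isLocalGen {u : R} (hu : u * ((p - 1 : ℕ) : R) = 1)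
    (hχ : ∀ m : (ZMod p)ˣ, m ≠ 1 → IsUnit ((χ m : R) - 1))
    (hχp : ∀ m : (ZMod p)ˣ, ((χ m : Rˣ) : R) - (((m : ZMod p).val : ℕ) : R) ∈ Ideal.span ({(p : R)} : Set R))
    (hrk : ∀ q : PrimeSpectrum R, Module.rankAtStalk A q = p) (q : Ideal R) [q.IsPrime] :
    ∃ y : A, IsLocalGen χ q y := by
  have hp : p.Prime := Fact.out
  let L := Localization.AtPrime q
  let k := IsLocalRing.ResidueField L
  let K := AlgebraicClosure k
  haveI : Module.Free L (L ⊗[R] A) := Module.free_of_flat_of_isLocalRing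
  have hfrL : Module.finrank L (L ⊗[R] A) = p := by
    rw [← Module.rankAtStalk_eq_finrank_tensorProduct (R := R) (M := A) ⟨q, inferInstance⟩, hrk]
  have hfrK : Module.finrank K (K ⊗[R] A) = p := by
    have := Module.rankAtStalk_baseChange (R := R) (M := A) (S := K) (⟨⊥, Ideal.isPrime_bot⟩ : PrimeSpectrum K)
    rw [hrk, Module.rankAtStalk_eq_finrank_of_free] at this
    simpa using this
  have hkill := convPow_eq_one_of_prime hrk
  have hu' : algebraMap R K u * ((p - 1 : ℕ) : K) = 1 := by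
    rw [← map_natCast (algebraMap R K), ← map_mul, hu, map_one]
  have hχp' : ∀ m : (ZMod p)ˣ, ((chiMap K χ m : Kˣ) : K) - (((m : ZMod p).val : ℕ) : K) ∈
      Ideal.span ({(p : K)} : Set K) := fun m => by
    have := Ideal.mem_map_of_mem (algebraMap R K) (hχp m)
    rw [Ideal.map_span, Set.image_singleton, map_sub, map_natCast, map_natCast] at this
    exact this
  obtain ⟨yK, hyK, hli⟩ := exists_eigen_generator (A := K ⊗[R] A) hu' (fun m hm => chiMap_isUnit hχ m hm) hχp' hfrK
  -- the first eigenspace upstairs is the line of `yK`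
  have hline : ∀ z ∈ OortTate.eigenAug K (K ⊗[R] A) p (chiMap K χ) 1, ∃ c : K, z = c • yK := by
    intro z hz
    haveI : Nonempty (Fin p) := ⟨⟨0, hp.pos⟩⟩
    let B := basisOfLinearIndependentOfCardEqFinrank hli (by rw [hfrK, Fintype.card_fin])
    have hgen : IsLocalGen (A := K ⊗[R] A) (chiMap K χ) (⊥ : Ideal K) yK := by
      refine ⟨hyK, fun a => ⟨1, one_ne_zero, fun i => B.repr a i, ?_⟩, fun c hc i => ⟨1, one_ne_zero, ?_⟩⟩
      · rw [one_smul]
        conv_lhs => rw [← B.sum_repr a]
        simp [B]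
      · rw [one_mul]; exact Fintype.linearIndependent_iff.1 hli c hc i
    obtain ⟨s, hs, c, hc⟩ := hgen.eigen hu' (fun m hm => chiMap_isUnit hχ m hm) le_rfl
      (by have := hp.two_le; omega) hz
    exact ⟨s⁻¹ * c, by rw [mul_smul, ← pow_one yK, ← hc, inv_smul_smul₀ hs]⟩
  -- some eigen element downstairs has nonzero image
  obtain ⟨y, hy, hyne⟩ : ∃ y ∈ OortTate.eigenAug R A p χ 1, (1 : K) ⊗ₜ[R] y ≠ 0 := by
    by_contra hn
    push_neg at hn
    have hall : ∀ z : K ⊗[R] A,
        OortTate.proj K (K ⊗[R] A) p (algebraMap R K u) (chiMap K χ) 1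
          (z - algebraMap K _ (Bialgebra.counitAlgHom K (K ⊗[R] A) z)) = 0 := by
      intro z
      induction z using TensorProduct.induction_on with
      | zero => simp
      | add a b ha hb => rw [map_add, map_add, add_sub_add_comm, map_add, ha, hb, add_zero]
      | tmul c a =>
        have e : c ⊗ₜ[R] a - algebraMap K (K ⊗[R] A) (Bialgebra.counitAlgHom K (K ⊗[R] A) (c ⊗ₜ[R] a)) =
            c • ((1 : K) ⊗ₜ[R] (a - algebraMap R A (Bialgebra.counitAlgHom R A a))) := by
          rw [TensorProduct.smul_tmul', smul_eq_mul, mul_one, TensorProduct.tmul_sub]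
          congr 1
          simp [Algebra.algebraMap_eq_smul_one, Algebra.TensorProduct.one_def, TensorProduct.smul_tmul',
            TensorProduct.tmul_smul, mul_comm]
        rw [e, map_smul, proj_baseChange,
          hn _ (proj_mem hkill u 1 (by rw [← RingHom.mem_ker]; exact sub_algebraMap_mem' a)), smul_zero]
    have h1 := hall yK
    rw [(mem_eigenAug.1 hyK).1, map_zero, sub_zero, proj_of_mem (fun m hm => chiMap_isUnit hχ m hm) hu' hyK,
      if_pos rfl] at h1
    exact hli.ne_zero ⟨1, hp.one_lt⟩ (by simpa using h1)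
  obtain ⟨c, hc⟩ := hline _ (tmul_mem_eigenAug (K := K) hy)
  have hc0 : c ≠ 0 := fun h => hyne (by rw [hc, h, zero_smul])
  have hliy : LinearIndependent K fun i : Fin p => ((1 : K) ⊗ₜ[R] y) ^ (i : ℕ) := by
    have e : (fun i : Fin p => ((1 : K) ⊗ₜ[R] y) ^ (i : ℕ)) =
        fun i : Fin p => (Units.mk0 c hc0 ^ (i : ℕ)) • yK ^ (i : ℕ) := by
      funext i
      rw [hc, smul_pow, Units.smul_def, Units.val_pow_eq_pow_val, Units.val_mk0]
    rw [e]
    exact hli.units_smul fun i : Fin p => Units.mk0 c hc0 ^ (i : ℕ)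
  -- powers of `y` form a basis over the local ring
  let j : L →ₐ[R] K := IsScalarTower.toAlgHom R L K
  let Φ : L ⊗[R] A →ₐ[R] K ⊗[R] A := Algebra.TensorProduct.map j (AlgHom.id R A)
  have hΦsmul : ∀ (l : L) (x : L ⊗[R] A), Φ (l • x) = j l • Φ x := by
    intro l x
    induction x using TensorProduct.induction_on with
    | zero => simp
    | add a b ha hb => simp only [smul_add, map_add, ha, hb]
    | tmul l' a => simp [Φ, TensorProduct.smul_tmul', map_mul]
  let b : Module.Basis (Fin p) L (L ⊗[R] A) := (Module.finBasis L (L ⊗[R] A)).reindex (finCongr hfrL)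
  have hbspan : ⊤ ≤ Submodule.span K (Set.range fun l => Φ (b l)) := by
    intro z hz0
    clear hz0
    induction z using TensorProduct.induction_on with
    | zero => exact Submodule.zero_mem _
    | add a a' ha ha' => exact Submodule.add_mem _ ha ha'
    | tmul c a =>
      have : c ⊗ₜ[R] a = c • Φ ((1 : L) ⊗ₜ[R] a) := by simp [Φ, TensorProduct.smul_tmul']
      rw [this, ← b.sum_repr ((1 : L) ⊗ₜ[R] a), map_sum, Finset.smul_sum]
      refine Submodule.sum_mem _ fun l _ => ?_
      rw [hΦsmul, smul_smul]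
      exact Submodule.smul_mem _ _ (Submodule.subset_span ⟨l, rfl⟩)
  let bK := basisOfTopLeSpanOfCardEqFinrank _ hbspan (by rw [hfrK, Fintype.card_fin])
  let M : Matrix (Fin p) (Fin p) L := Matrix.of fun i l => b.repr (((1 : L) ⊗ₜ[R] y) ^ (i : ℕ)) l
  have hM : IsUnit M.det := by
    by_contra hn
    have h0 : j M.det = 0 := by
      have : IsLocalRing.residue L M.det = 0 := by
        rw [IsLocalRing.residue_eq_zero_iff]; exact hn
      change algebraMap L K M.det = 0
      rw [IsScalarTower.algebraMap_apply L k K]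
      exact (congrArg (algebraMap k K) this).trans (map_zero _)
    rw [AlgHom.map_det] at h0
    obtain ⟨v, hv0, hv⟩ := Matrix.exists_vecMul_eq_zero_iff.2 h0
    apply hv0
    funext i
    refine Fintype.linearIndependent_iff.1 hliy v ?_ i
    have hpow : ∀ i : Fin p, ((1 : K) ⊗ₜ[R] y) ^ (i : ℕ) = ∑ l, j (M i l) • bK l := by
      intro i
      have : ((1 : K) ⊗ₜ[R] y) ^ (i : ℕ) = Φ (((1 : L) ⊗ₜ[R] y) ^ (i : ℕ)) := by simp [Φ]
      rw [this, ← b.sum_repr (((1 : L) ⊗ₜ[R] y) ^ (i : ℕ)), map_sum]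
      exact Finset.sum_congr rfl fun l _ => by rw [hΦsmul]; simp [bK, M]
    simp only [hpow, Finset.smul_sum, smul_smul]
    rw [Finset.sum_comm]
    refine Finset.sum_eq_zero fun l _ => ?_
    rw [← Finset.sum_smul]
    have := congrFun hv l
    simp only [Matrix.vecMul, dotProduct, Pi.zero_apply] at this
    rw [show ∑ i, v i * j (M i l) = 0 from this, zero_smul]
  let f : A →ₗ[R] L ⊗[R] A := TensorProduct.mk R L A 1
  haveI : IsLocalizedModule q.primeCompl f :=
    (isLocalizedModule_iff_isBaseChange q.primeCompl L f).2 (TensorProduct.isBaseChange R A L)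
  have hfpow : ∀ i : ℕ, f (y ^ i) = ((1 : L) ⊗ₜ[R] y) ^ i := fun i => by
    change (1 : L) ⊗ₜ[R] (y ^ i) = _
    rw [Algebra.TensorProduct.tmul_pow, one_pow]
  refine ⟨y, hy, fun a => ?_, fun c hc0 i => ?_⟩
  · -- spanning
    obtain ⟨v, hv⟩ := Matrix.vecMul_surjective_iff_isUnit.2 ((Matrix.isUnit_iff_isUnit_det M).2 hM)
      (fun l => b.repr (f a) l)
    have hfa : f a = ∑ i, v i • f (y ^ (i : ℕ)) := by
      apply b.repr.injective
      ext l
      have := congrFun hv l
      simp only [Matrix.vecMul, dotProduct] at this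
      rw [← this, map_sum, Finsupp.finsetSum_apply]
      simp [M, hfpow]
    obtain ⟨d, hd⟩ := IsLocalization.exist_integer_multiples_of_finite q.primeCompl v
    choose c hc using hd
    have h2 : f ((d : R) • a - ∑ i, c i • y ^ (i : ℕ)) = 0 := by
      rw [map_sub, map_smul, map_sum, hfa, Finset.smul_sum, sub_eq_zero]
      refine Finset.sum_congr rfl fun i _ => ?_
      rw [map_smul, ← smul_assoc, ← hc i, algebraMap_smul]
    obtain ⟨⟨s, hs⟩, hs0⟩ := (IsLocalizedModule.eq_zero_iff q.primeCompl f).1 h2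
    refine ⟨s * d, fun h => ((inferInstance : q.IsPrime).mem_or_mem h).elim hs d.2, fun i => s * c i, ?_⟩
    rw [Submonoid.smul_def, smul_sub, sub_eq_zero, Finset.smul_sum] at hs0
    rw [mul_smul, hs0]
    simp [mul_smul]
  · -- independence
    have h1 : ∑ i, algebraMap R L (c i) • f (y ^ (i : ℕ)) = 0 := by
      simp only [algebraMap_smul, ← map_smul, ← map_sum, hc0, map_zero]
    have h2 : Matrix.vecMul (fun i => algebraMap R L (c i)) M = 0 := by
      funext l
      have := congrArg (fun z => b.repr z l) h1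
      simp only [map_sum, map_smul, map_zero, Finsupp.finsetSum_apply, Finsupp.smul_apply, smul_eq_mul,
        Finsupp.zero_apply] at this
      simp only [Matrix.vecMul, dotProduct, M, Matrix.of_apply, ← hfpow]
      exact this
    have h3 : algebraMap R L (c i) = 0 := by
      have := congrArg (fun v => Matrix.vecMul v M⁻¹) h2
      rw [Matrix.vecMul_vecMul, Matrix.mul_nonsing_inv M hM, Matrix.vecMul_one, Matrix.zero_vecMul] at this
      exact congrFun this i
    obtain ⟨⟨s, hs⟩, hs0⟩ := (IsLocalization.map_eq_zero_iff q.primeCompl L (c i)).1 h3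
    exact ⟨s, hs, hs0⟩

end Groth.Agent.FinHopf
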