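import Groth.Agent.FinHopf.EigenLocal

/-! Oort-Tate: ranks and products of the eigenspaces. -/

set_option autoImplicit false
universe u

open TensorProduct WithConv

noncomputable section

namespace Groth.Agent.FinHopf

variable {p : ℕ} [Fact p.Prime] {R : Type u} [CommRing R] {χ : (ZMod p)ˣ →* Rˣ}
  {A : Type u} [CommRing A] [HopfAlgebra R A] [Module.Finite R A] [Module.Projective R A]
  {u : R} (hu : u * ((p - 1 : ℕ) : R) = 1)
  (hχ : ∀ m : (ZMod p)ˣ, m ≠ 1 → IsUnit ((χ m : R) - 1))
  (hχp : ∀ m : (ZMod p)ˣ, ((χ m : Rˣ) : R) - (((m : ZMod p).val : ℕ) : R) ∈ Ideal.span ({(p : R)} : Set R))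
  (hrk : ∀ q : PrimeSpectrum R, Module.rankAtStalk A q = p)

/-- A representative in `1..p-1`. -/
theorem exists_eigen_rep (i : ℕ) : ∃ t, 1 ≤ t ∧ t ≤ p - 1 ∧
    OortTate.eigenAug R A p χ i = OortTate.eigenAug R A p χ t := by
  have hp2 := (Fact.out : p.Prime).two_le
  by_cases h : i % (p - 1) = 0
  · exact ⟨p - 1, by omega, le_rfl, by rw [eigenAug_mod i, h, eigenAug_mod (p - 1), Nat.mod_self]⟩
  · exact ⟨i % (p - 1), by omega, (Nat.mod_lt _ (by omega)).le, eigenAug_mod i⟩

include hu hχ hrk

theorem eigenAug_split (i : ℕ) : ∃ P : A →ₗ[R] OortTate.eigenAug R A p χ i,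
    P.comp (OortTate.eigenAug R A p χ i).subtype = LinearMap.id := by
  have hkill := convPow_eq_one_of_prime (A := A) hrk
  let π : A →ₗ[R] A := LinearMap.id - (Algebra.linearMap R A).comp (Bialgebra.counitAlgHom R A).toLinearMap
  refine ⟨((OortTate.proj R A p u χ i).comp π).codRestrict _ fun a => proj_mem hkill u i ?_,
    LinearMap.ext fun z => Subtype.ext ?_⟩
  · have := sub_algebraMap_mem' (R := R) a
    exact this
  · have hz := (mem_eigenAug.1 z.2).1
    change OortTate.proj R A p u χ i ((z : A) - algebraMap R A (Bialgebra.counitAlgHom R A (z : A))) = z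
    rw [hz, map_zero, sub_zero, proj_of_mem hχ hu z.2, if_pos rfl]

theorem eigenAug_projective (i : ℕ) : Module.Projective R (OortTate.eigenAug R A p χ i) := by
  obtain ⟨P, hP⟩ := eigenAug_split (A := A) hu hχ hrk i
  exact Module.Projective.of_split _ P hP

theorem eigenAug_finite (i : ℕ) : Module.Finite R (OortTate.eigenAug R A p χ i) := by
  obtain ⟨P, hP⟩ := eigenAug_split (A := A) hu hχ hrk i
  exact Module.Finite.of_surjective P fun z => ⟨z, LinearMap.congr_fun hP z⟩

include hχp

theorem eigenAug_rankAtStalk (i : ℕ) (q : PrimeSpectrum R) :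
    Module.rankAtStalk (↥(OortTate.eigenAug R A p χ i)) q = 1 := by
  obtain ⟨t, ht1, ht, he⟩ := exists_eigen_rep (χ := χ) (A := A) i
  rw [he]
  obtain ⟨y, hy⟩ := exists_isLocalGen (A := A) hu hχ hχp hrk q.asIdeal
  let L := Localization.AtPrime q.asIdeal
  let M := OortTate.eigenAug R A p χ t
  let S := q.asIdeal.primeCompl
  let v : M := ⟨y ^ t, pow_mem_eigenAug hy.mem t ht1⟩
  let φ : L →ₗ[L] LocalizedModule S M := LinearMap.toSpanSingleton L _ (LocalizedModule.mk v 1)
  have hφ : ∀ (c : R) (s : S), φ (Localization.mk c s) = LocalizedModule.mk (c • v) s := fun c s => by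
    simp only [φ, LinearMap.toSpanSingleton_apply]
    exact (LocalizedModule.mk_smul_mk c v s 1).trans (by rw [mul_one])
  have hinj : Function.Injective φ := by
    rw [injective_iff_map_eq_zero]
    intro l
    induction l using Localization.induction_on with
    | H x =>
      obtain ⟨c, s⟩ := x
      intro h0
      rw [hφ, ← LocalizedModule.zero_mk s, LocalizedModule.mk_eq] at h0
      obtain ⟨r, hr⟩ := h0
      have hr' : ((r : R) * (s : R) * c) • (y : A) ^ t = 0 := by
        have := congrArg (fun z : M => (z : A)) hr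
        simpa [Submonoid.smul_def, mul_smul, v] using this
      obtain ⟨s', hs', h'⟩ := hy.indep_pow (by omega) hr'
      rw [Localization.mk_eq_mk', IsLocalization.mk'_eq_zero_iff]
      exact ⟨⟨s' * r * s, S.mul_mem (S.mul_mem hs' r.2) s.2⟩, by simpa [mul_assoc] using h'⟩
  have hsurj : Function.Surjective φ := by
    intro z
    induction z using LocalizedModule.induction_on with
    | h z s =>
      obtain ⟨s', hs', c, hc⟩ := hy.eigen hu hχ ht1 ht z.2
      refine ⟨Localization.mk c (⟨s', hs'⟩ * s), ?_⟩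
      rw [hφ, LocalizedModule.mk_eq]
      refine ⟨1, ?_⟩
      apply Subtype.ext
      simp only [one_smul, Submonoid.smul_def, SetLike.val_smul, Submonoid.coe_mul, v]
      rw [mul_comm s' (s : R), mul_smul, ← hc]
  rw [Module.rankAtStalk, ← (LinearEquiv.ofBijective φ ⟨hinj, hsurj⟩).finrank_eq, Module.finrank_self]

theorem eigenAug_one_pow (t : ℕ) (ht1 : 1 ≤ t) (ht : t ≤ p - 1) :
    (OortTate.eigenAug R A p χ 1) ^ t = OortTate.eigenAug R A p χ t := by
  apply le_antisymm
  · clear ht
    induction t, ht1 using Nat.le_induction with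
    | base => rw [pow_one]
    | succ n _ ih =>
      rw [pow_succ]
      refine Submodule.mul_le.2 fun a ha b hb => ?_
      exact mul_mem_eigenAug (ih ha) hb
  · intro z hz
    let I : Ideal R :=
      { carrier := {s | s • z ∈ (OortTate.eigenAug R A p χ 1) ^ t}
        add_mem' := fun {a b} ha hb => by
          change (a + b) • z ∈ (OortTate.eigenAug R A p χ 1) ^ t
          rw [add_smul]; exact Submodule.add_mem _ ha hb
        zero_mem' := by
          change (0 : R) • z ∈ (OortTate.eigenAug R A p χ 1) ^ t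
          rw [zero_smul]; exact Submodule.zero_mem _
        smul_mem' := fun a b hb => by
          change (a • b) • z ∈ (OortTate.eigenAug R A p χ 1) ^ t
          rw [smul_eq_mul, mul_smul]; exact Submodule.smul_mem _ _ hb }
    have hI : I = ⊤ := by
      by_contra h
      obtain ⟨q, hq, hle⟩ := Ideal.exists_le_maximal I h
      haveI := hq.isPrime
      obtain ⟨y, hy⟩ := exists_isLocalGen (A := A) hu hχ hχp hrk q
      obtain ⟨s, hs, c, hc⟩ := hy.eigen hu hχ ht1 ht hz
      refine hs (hle ?_)
      change s • z ∈ (OortTate.eigenAug R A p χ 1) ^ t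
      rw [hc]
      exact Submodule.smul_mem _ _ (Submodule.pow_mem_pow _ hy.mem t)
    have h1 : (1 : R) ∈ I := hI ▸ Submodule.mem_top
    simpa [I] using h1

end Groth.Agent.FinHopf
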