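import Groth.Agent.FinHopf.OneParam
import Groth.Prelude.Def_AlphaP
import Groth.Agent.ConnEt.Extension
import Mathlib

/-! Subgroups `α_p`, `μ_p` of a non-reduced finite group scheme. -/

set_option autoImplicit false
universe u v w

open TensorProduct WithConv Polynomial

noncomputable section

namespace Groth.Agent.FinHopf

variable {k : Type u} [Field k] {A : Type v} [CommRing A] [HopfAlgebra k A]

theorem isReduced_of_idempotent [Module.Finite k A]
    (hid : IsIdempotentElem (RingHom.ker (Bialgebra.counitAlgHom k A) : Ideal A)) : IsReduced A := by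
  haveI : IsNoetherianRing A := IsNoetherianRing.of_finite k A
  set I : Ideal A := RingHom.ker (Bialgebra.counitAlgHom k A) with hI
  obtain ⟨f, hf, hspan⟩ := (Ideal.isIdempotentElem_iff_of_fg _ (IsNoetherian.noetherian I)).mp hid
  have hf0 : Bialgebra.counitAlgHom k A f = 0 := by
    have : f ∈ I := hspan ▸ Submodule.mem_span_singleton_self f
    exact this
  have hone : Bialgebra.counitAlgHom k A (1 - f) = 1 := by rw [map_sub, map_one, hf0, sub_zero]
  have hrel : ∀ x, (1 - f) * x = Bialgebra.counitAlgHom k A x • (1 - f) := fun x => by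
    have hx : x - algebraMap k A (Bialgebra.counitAlgHom k A x) ∈ I := by
      rw [hI, RingHom.mem_ker, map_sub, AlgHom.commutes]; exact sub_self _
    rw [hspan] at hx
    obtain ⟨c, hc⟩ := Ideal.mem_span_singleton'.mp hx
    rw [Algebra.smul_def]
    linear_combination (-(1 - f)) * hc + (-c) * hf.eq
  haveI := ConnEt.formallyUnramified_of_sepElem (ConnEt.sepElemOfIdem (R := k) (1 - f) hone hrel)
  exact Algebra.FormallyUnramified.isReduced_of_field k A

theorem exists_tangent [Module.Finite k A] (hA : ¬ IsReduced A) :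
    ∃ ψ : WithConv (A →ₗ[k] k), IsTangent ψ ∧ ψ ≠ 0 := by
  set I : Ideal A := RingHom.ker (Bialgebra.counitAlgHom k A) with hI
  let N : Submodule k A := Submodule.span k {(1 : A)} ⊔ (I * I).restrictScalars k
  have hN : N ≠ ⊤ := by
    intro h
    refine hA (isReduced_of_idempotent (k := k) (le_antisymm Ideal.mul_le_left fun x hx => ?_))
    obtain ⟨q, hq, r, hr, rfl⟩ := Submodule.mem_sup.mp (h ▸ Submodule.mem_top (x := x))
    obtain ⟨c, rfl⟩ := Submodule.mem_span_singleton.mp hq
    have hr0 : Bialgebra.counitAlgHom k A r = 0 := Ideal.mul_le_left (I := I) hr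
    have hx0 : Bialgebra.counitAlgHom k A (c • (1 : A) + r) = 0 := hx
    rw [map_add, hr0, add_zero, map_smul, map_one, smul_eq_mul, mul_one] at hx0
    rw [hx0, zero_smul, zero_add]
    exact hr
  obtain ⟨L, hL0, hLN⟩ := N.exists_le_ker_of_lt_top (lt_top_iff_ne_top.mpr hN)
  have h1 : L 1 = 0 := hLN (Submodule.mem_sup_left (Submodule.mem_span_singleton_self 1))
  refine ⟨toConv L, fun a b => ?_, fun h => hL0 (congrArg WithConv.ofConv h)⟩
  have hmem : ∀ a : A, a - algebraMap k A (Coalgebra.counit (R := k) a) ∈ I := fun a => by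
    rw [hI, RingHom.mem_ker, map_sub, AlgHom.commutes]; exact sub_self _
  have h : L ((a - algebraMap k A (Coalgebra.counit (R := k) a)) * (b - algebraMap k A (Coalgebra.counit (R := k) b))) = 0 :=
    hLN (Submodule.mem_sup_right (Ideal.mul_mem_mul (hmem a) (hmem b)))
  simp only [sub_mul, mul_sub, Algebra.algebraMap_eq_smul_one, Algebra.smul_mul_assoc, Algebra.mul_smul_comm,
    one_mul, mul_one, map_sub, map_smul, h1, smul_zero, smul_eq_mul] at h
  simp only [ofConv_toConv]
  linear_combination h

/-- `φ ⊗ χ` in the dual of `A ⊗ A`. -/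
def tdual (φ χ : WithConv (A →ₗ[k] k)) : WithConv (A ⊗[k] A →ₗ[k] k) :=
  toConv (LinearMap.mul' k k ∘ₗ TensorProduct.map φ.ofConv χ.ofConv)

theorem tdual_apply (φ χ : WithConv (A →ₗ[k] k)) (a b : A) :
    (tdual φ χ).ofConv (a ⊗ₜ[k] b) = φ.ofConv a * χ.ofConv b := by simp [tdual]

theorem tdual_mul (φ χ φ' χ' : WithConv (A →ₗ[k] k)) :
    tdual φ χ * tdual φ' χ' = tdual (φ * φ') (χ * χ') := by
  have h := LinearMap.algHom_comp_convMul_distrib (Algebra.TensorProduct.lmul' k (S := k))
    (toConv (TensorProduct.map φ.ofConv χ.ofConv)) (toConv (TensorProduct.map φ'.ofConv χ'.ofConv))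
  rw [TensorProduct.map_convMul_map] at h
  refine WithConv.ext ?_
  simp only [tdual, ofConv_toConv] at h ⊢
  exact h.symm

theorem tdual_one : tdual (1 : WithConv (A →ₗ[k] k)) 1 = 1 :=
  WithConv.ext (TensorProduct.ext' fun a b => by
    rw [tdual_apply, LinearMap.convOne_apply, LinearMap.convOne_apply, LinearMap.convOne_apply,
      TensorProduct.counit_tmul]
    simp [mul_comm])

theorem tdual_pow (φ χ : WithConv (A →ₗ[k] k)) (n : ℕ) : tdual φ χ ^ n = tdual (φ ^ n) (χ ^ n) := by
  induction n with
  | zero => simp [tdual_one]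
  | succ n ih => rw [pow_succ, ih, tdual_mul, ← pow_succ, ← pow_succ]

variable (p : ℕ) [Fact p.Prime] [CharP k p]

theorem IsTangent.pow_char {ψ : WithConv (A →ₗ[k] k)} (h : IsTangent ψ) : IsTangent (ψ ^ p) := by
  haveI : Nontrivial (WithConv (A ⊗[k] A →ₗ[k] k)) := ⟨1, 0, fun h10 => one_ne_zero (α := k) (by
    have := LinearMap.congr_fun (congrArg WithConv.ofConv h10) ((1 : A) ⊗ₜ[k] (1 : A))
    simpa [LinearMap.convOne_apply, TensorProduct.counit_tmul] using this)⟩
  haveI : CharP (WithConv (A ⊗[k] A →ₗ[k] k)) p :=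
    charP_of_injective_algebraMap (algebraMap k _).injective p
  have hm : mulDual A ψ = tdual ψ 1 + tdual 1 ψ := WithConv.ext (TensorProduct.ext' fun a b => by
    rw [mulDual_apply, WithConv.ofConv_add, LinearMap.add_apply, tdual_apply, tdual_apply, h a b,
      LinearMap.convOne_apply, LinearMap.convOne_apply]
    simp)
  have hc : Commute (tdual ψ 1) (tdual 1 ψ) := by
    rw [Commute, SemiconjBy, tdual_mul, tdual_mul, mul_one, one_mul]
  have hp := congrArg (· ^ p) hm
  simp only [← map_pow, add_pow_char_of_commute (p := p) hc, tdual_pow, one_pow] at hp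
  intro a b
  have := LinearMap.congr_fun (congrArg WithConv.ofConv hp) (a ⊗ₜ[k] b)
  rw [mulDual_apply, WithConv.ofConv_add, LinearMap.add_apply, tdual_apply, tdual_apply,
    LinearMap.convOne_apply, LinearMap.convOne_apply] at this
  simpa using this

theorem exists_eigen_tangent [IsAlgClosed k] [Module.Finite k A] (hA : ¬ IsReduced A) :
    ∃ ψ : WithConv (A →ₗ[k] k), IsTangent ψ ∧ ψ ≠ 0 ∧ (ψ ^ p = (0 : k) • ψ ∨ ψ ^ p = (1 : k) • ψ) := by
  classical
  have hp := (Fact.out : p.Prime)
  obtain ⟨φ, hφ, hφ0⟩ := exists_tangent (k := k) hA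
  have hq : ∀ i, IsTangent (φ ^ p ^ i) := fun i => by
    induction i with
    | zero => simpa using hφ
    | succ i ih => rw [pow_succ, pow_mul]; exact ih.pow_char p
  by_cases hnil : ∃ i, φ ^ p ^ i = 0
  · have h0 : Nat.find hnil ≠ 0 := fun h => hφ0 (by
      have := Nat.find_spec hnil
      rwa [h, pow_zero, pow_one] at this)
    refine ⟨φ ^ p ^ (Nat.find hnil - 1), hq _, Nat.find_min hnil (by omega), Or.inl ?_⟩
    rw [zero_smul, ← pow_mul, ← pow_succ, Nat.sub_add_cancel (Nat.one_le_iff_ne_zero.mpr h0)]
    exact Nat.find_spec hnil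
  push Not at hnil
  haveI : Module.Finite k (WithConv (A →ₗ[k] k)) := Module.Finite.equiv (WithConv.linearEquiv k _).symm
  have hdep : ∃ n, φ ^ p ^ n ∈ Submodule.span k (Set.range fun i : Fin n => φ ^ p ^ (i : ℕ)) := by
    by_contra h
    push Not at h
    have hli : ∀ n, LinearIndependent k (fun i : Fin n => φ ^ p ^ (i : ℕ)) := by
      intro n
      induction n with
      | zero => exact linearIndependent_empty_type
      | succ n ih =>
        rw [linearIndependent_fin_succ']
        exact ⟨by simpa [Fin.init_def] using ih, by simpa [Fin.init_def] using h n⟩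
    have := (hli (Module.finrank k (WithConv (A →ₗ[k] k)) + 1)).fintype_card_le_finrank
    simp at this
  set n := Nat.find hdep with hn
  have hn0 : n ≠ 0 := fun h => by
    have h' := Nat.find_spec hdep
    rw [← hn, h] at h'
    simp at h'
    exact hφ0 h'
  obtain ⟨c, hc⟩ := Submodule.mem_span_range_iff_exists_fun k |>.mp (Nat.find_spec hdep)
  have hli : LinearIndependent k (fun i : Fin n => φ ^ p ^ (i : ℕ)) := by
    have : ∀ m ≤ n, LinearIndependent k (fun i : Fin m => φ ^ p ^ (i : ℕ)) := by
      intro m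
      induction m with
      | zero => exact fun _ => linearIndependent_empty_type
      | succ m ih =>
        intro hm
        rw [linearIndependent_fin_succ']
        exact ⟨by simpa [Fin.init_def] using ih (by omega),
          by simpa [Fin.init_def] using Nat.find_min hdep (show m < Nat.find hdep by omega)⟩
    exact this n le_rfl
  let c' : ℕ → k := fun i => if h : i < n then c ⟨i, h⟩ else 0
  -- the recursion for the coefficients of a fixed point
  let P : ℕ → k[X] := fun i => Nat.rec (C (c' 0) * X ^ p) (fun j Pj => Pj ^ p + C (c' (j + 1)) * X ^ p) i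
  have hPs : ∀ i, P (i + 1) = P i ^ p + C (c' (i + 1)) * X ^ p := fun i => rfl
  have hP0 : P 0 = C (c' 0) * X ^ p := rfl
  let Q : k[X] := P (n - 1) - X
  have hderiv : ∀ i, derivative (P i) = 0 := fun i => by
    induction i with
    | zero => simp [hP0, derivative_X_pow, CharP.cast_eq_zero]
    | succ i ih => simp [hPs, derivative_pow, CharP.cast_eq_zero]
  have hev0 : ∀ i, (P i).eval 0 = 0 := fun i => by
    induction i with
    | zero => simp [hP0, zero_pow hp.ne_zero]
    | succ i ih => simp [hPs, ih, zero_pow hp.ne_zero]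
  obtain ⟨t, ht0, ht⟩ : ∃ t : k, t ≠ 0 ∧ (P (n - 1)).eval t = t := by
    have hdeg : ∀ i, (∀ j ≤ i, c' j = 0) ∧ P i = 0 ∨ p ≤ (P i).natDegree := by
      intro i
      induction i with
      | zero =>
        by_cases h : c' 0 = 0
        · exact Or.inl ⟨fun j hj => by rw [Nat.le_zero.mp hj, h], by rw [hP0, h, C_0, zero_mul]⟩
        · exact Or.inr (by rw [hP0, natDegree_C_mul_X_pow p _ h])
      | succ i ih =>
        rcases ih with ⟨hz, hi⟩ | hi
        · by_cases h : c' (i + 1) = 0
          · refine Or.inl ⟨fun j hj => ?_, by rw [hPs, hi, h, zero_pow hp.ne_zero, C_0, zero_mul, add_zero]⟩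
            rcases Nat.le_succ_iff.mp hj with hj | hj
            · exact hz j hj
            · rw [hj, h]
          · exact Or.inr (by rw [hPs, hi, zero_pow hp.ne_zero, zero_add, natDegree_C_mul_X_pow p _ h])
        · refine Or.inr ?_
          have h2 : p < (P i ^ p).natDegree := by
            rw [natDegree_pow]; nlinarith [hp.two_le]
          rw [hPs, natDegree_add_eq_left_of_natDegree_lt ((natDegree_C_mul_X_pow_le _ p).trans_lt h2)]
          exact h2.le
    rcases hdeg (n - 1) with ⟨hz, -⟩ | hd
    · exfalso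
      refine hnil n ?_
      have hc : ∑ i : Fin n, c i • φ ^ p ^ (i : ℕ) = φ ^ p ^ n := hc
      rw [← hc]
      refine Finset.sum_eq_zero fun i _ => ?_
      have := hz i (by omega)
      simp only [c', dif_pos i.2] at this
      rw [this, zero_smul]
    have hQd : p ≤ Q.natDegree := by
      rw [natDegree_sub_eq_left_of_natDegree_lt (by rw [natDegree_X]; exact hp.one_lt.trans_le hd)]
      exact hd
    have hQ0 : Q ≠ 0 := fun h => by rw [h, natDegree_zero] at hQd; exact hp.ne_zero (Nat.le_zero.mp hQd)
    have hsep : Q.roots.Nodup := nodup_roots (by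
      rw [separable_def, show derivative Q = -1 by simp [Q, hderiv]]
      exact isCoprime_one_right.neg_right)
    have hcard : Multiset.card Q.roots = Q.natDegree := IsAlgClosed.card_roots_eq_natDegree
    obtain ⟨t, htm, ht0⟩ : ∃ t ∈ Q.roots, t ≠ 0 := by
      by_contra h
      push Not at h
      have h1 : Multiset.card Q.roots ≤ 1 := by
        have : Q.roots.toFinset ⊆ {0} := fun t ht => Finset.mem_singleton.mpr (h t (Multiset.mem_toFinset.mp ht))
        have hle := Finset.card_le_card this
        rw [Multiset.toFinset_card_of_nodup hsep] at hle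
        simpa using hle
      have := hp.two_le
      omega
    have := (mem_roots hQ0).mp htm
    simp only [IsRoot, Q, eval_sub, eval_X, sub_eq_zero] at this
    exact ⟨t, ht0, this⟩
  set a : ℕ → k := fun i => (P i).eval t with ha
  have ha' : a (n - 1) = t := ht
  let ψ := ∑ i ∈ Finset.range n, a i • φ ^ p ^ i
  have hψt : IsTangent ψ := fun x y => by
    simp only [ψ, WithConv.ofConv_sum, WithConv.ofConv_smul, LinearMap.coe_sum, Finset.sum_apply,
      LinearMap.smul_apply, smul_eq_mul]
    rw [Finset.sum_mul, Finset.mul_sum, ← Finset.sum_add_distrib]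
    exact Finset.sum_congr rfl fun i _ => by rw [hq i x y]; ring
  refine ⟨ψ, hψt, fun h => ?_, Or.inr ?_⟩
  · have h' := Fintype.linearIndependent_iff.mp hli (fun i => a i)
      (by rw [← h]; exact Fin.sum_univ_eq_sum_range (fun i => a i • φ ^ p ^ i) n)
    exact ht0 (by rw [← ha']; exact h' ⟨n - 1, by omega⟩)
  · rw [one_smul]
    haveI : Nontrivial (WithConv (A →ₗ[k] k)) := ⟨φ, 0, hφ0⟩
    letI : CommRing (Algebra.adjoin k ({φ} : Set (WithConv (A →ₗ[k] k)))) :=
      { (inferInstance : Ring (Algebra.adjoin k ({φ} : Set (WithConv (A →ₗ[k] k))))) with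
        mul_comm := fun x y => by
          obtain ⟨qx, hqx⟩ : (x : WithConv (A →ₗ[k] k)) ∈ (aeval (R := k) φ).range :=
            Algebra.adjoin_singleton_eq_range_aeval k φ ▸ x.2
          obtain ⟨qy, hqy⟩ : (y : WithConv (A →ₗ[k] k)) ∈ (aeval (R := k) φ).range :=
            Algebra.adjoin_singleton_eq_range_aeval k φ ▸ y.2
          exact Subtype.ext ((congrArg₂ (· * ·) hqx.symm hqy.symm).trans
            ((((map_mul _ qx qy).symm.trans (congrArg _ (mul_comm qx qy))).trans (map_mul _ qy qx)).trans
              (congrArg₂ (· * ·) hqy hqx))) }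
    haveI : CharP (Algebra.adjoin k ({φ} : Set (WithConv (A →ₗ[k] k)))) p :=
      charP_of_injective_algebraMap (algebraMap k (Algebra.adjoin k ({φ} : Set (WithConv (A →ₗ[k] k))))).injective p
    let φ' : Algebra.adjoin k ({φ} : Set (WithConv (A →ₗ[k] k))) := ⟨φ, Algebra.self_mem_adjoin_singleton k φ⟩
    let ψ' := ∑ i ∈ Finset.range n, a i • φ' ^ p ^ i
    have hval : (ψ' : WithConv (A →ₗ[k] k)) = ψ := by simp [ψ', ψ, φ']
    suffices ψ' ^ p = ψ' by
      have h := congrArg Subtype.val this
      rwa [SubmonoidClass.coe_pow, hval] at h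
    rw [sum_pow_char p]
    have htop : φ' ^ p ^ n = ∑ i ∈ Finset.range n, c' i • φ' ^ p ^ i := Subtype.ext (by
      simp only [φ', AddSubmonoidClass.coe_finsetSum, SetLike.val_smul, SubmonoidClass.coe_pow]
      rw [← Fin.sum_univ_eq_sum_range (fun i => c' i • φ ^ p ^ i)]
      have hc : ∑ i : Fin n, c i • φ ^ p ^ (i : ℕ) = φ ^ p ^ n := hc
      rw [← hc]
      exact Finset.sum_congr rfl fun i _ => by simp [c'])
    have hstep : ∀ i, (a i • φ' ^ p ^ i) ^ p = (a i ^ p) • φ' ^ p ^ (i + 1) := fun i => by
      rw [_root_.smul_pow, ← pow_mul, ← pow_succ]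
    simp only [hstep]
    obtain ⟨m, hm⟩ : ∃ m, n = m + 1 := ⟨n - 1, by omega⟩
    rw [hm] at htop ⊢
    rw [Finset.sum_range_succ, htop, show a m = t by rw [← ha', hm, Nat.add_sub_cancel], Finset.smul_sum,
      Finset.sum_range_succ' (fun i => t ^ p • c' i • φ' ^ p ^ i), ← add_assoc, ← Finset.sum_add_distrib,
      show (ψ' : _) = ∑ i ∈ Finset.range (m + 1), a i • φ' ^ p ^ i by simp [ψ', hm], Finset.sum_range_succ']
    congr 1
    · refine Finset.sum_congr rfl fun i _ => ?_
      rw [smul_smul, ← add_smul]
      congr 1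
      simp only [ha, hPs, eval_add, eval_pow, eval_mul, eval_C, eval_X]
      ring
    · rw [smul_smul]
      congr 1
      simp only [ha, hP0, eval_mul, eval_C, eval_pow, eval_X]
      ring

/-- The model `α_p`. -/
theorem alpha_model : ∃ M : Model (k := k) p (AlphaP.A p k), M.c = 0 := by
  classical
  have hp := (Fact.out : p.Prime)
  let x := AlphaP.x p k
  let F : AlphaP.A p k →ₐ[k] DualNumber k := AlphaP.lift p k DualNumber.eps (by
    obtain ⟨m, hm⟩ : ∃ m, p = m + 2 := ⟨p - 2, by have := hp.two_le; omega⟩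
    rw [hm, pow_succ, pow_succ, mul_assoc, DualNumber.eps_mul_eps, mul_zero])
  let τ : WithConv (AlphaP.A p k →ₗ[k] k) := toConv (TrivSqZeroExt.sndHom k k ∘ₗ F.toLinearMap)
  have hεx : Coalgebra.counit (R := k) x = 0 := AlphaP.counit_x p k
  have hfst : ∀ y, TrivSqZeroExt.fst (F y) = Coalgebra.counit (R := k) y := fun y => by
    have h : (TrivSqZeroExt.fstHom k k k).comp F = Bialgebra.counitAlgHom k (AlphaP.A p k) :=
      AlphaP.algHom_ext (by
        change TrivSqZeroExt.fst (F x) = Coalgebra.counit (R := k) x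
        rw [hεx, AlphaP.lift_x, DualNumber.fst_eps])
    exact AlgHom.congr_fun h y
  have ht : IsTangent τ := fun a b => by
    change TrivSqZeroExt.snd (F (a * b)) = TrivSqZeroExt.snd (F a) * _ + _ * TrivSqZeroExt.snd (F b)
    rw [map_mul, DualNumber.snd_mul, hfst, hfst]
    ring
  have hτx : ∀ m, τ.ofConv (x ^ m) = if m = 1 then 1 else 0 := by
    intro m
    induction m with
    | zero => simpa using ht.apply_one
    | succ m ih =>
      have hx1 : τ.ofConv x = 1 := by
        change TrivSqZeroExt.snd (F x) = 1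
        rw [AlphaP.lift_x, DualNumber.snd_eps]
      rw [pow_succ, ht, ih, hεx, hx1, mul_zero, zero_add, Bialgebra.counit_pow, hεx, mul_one]
      rcases m with _ | m <;> simp
  have hpow : ∀ n m, (τ ^ n).ofConv (x ^ m) = if n = m then (n.factorial : k) else 0 := by
    intro n
    induction n with
    | zero =>
      intro m
      rw [pow_zero, LinearMap.convOne_apply, Bialgebra.counit_pow, hεx]
      rcases m with _ | m <;> simp
    | succ n ih =>
      intro m
      rw [pow_succ, LinearMap.convMul_apply, Bialgebra.comul_pow,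
        show Coalgebra.comul (R := k) x = x ⊗ₜ[k] (1 : AlphaP.A p k) + (1 : AlphaP.A p k) ⊗ₜ[k] x from AlphaP.comul_x p k,
        add_pow, map_sum, map_sum]
      have hterm : ∀ i, LinearMap.mul' k k (TensorProduct.map (τ ^ n).ofConv τ.ofConv
          ((x ⊗ₜ[k] (1 : AlphaP.A p k)) ^ i * ((1 : AlphaP.A p k) ⊗ₜ[k] x) ^ (m - i) * (m.choose i : AlphaP.A p k ⊗[k] AlphaP.A p k))) =
          if i = n ∧ m - i = 1 then (m.choose i : k) * n.factorial else 0 := by
        intro i
        rw [Algebra.TensorProduct.tmul_pow, Algebra.TensorProduct.tmul_pow, one_pow, one_pow,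
          Algebra.TensorProduct.tmul_mul_tmul, mul_one, one_mul, ← nsmul_eq_mul', map_nsmul, map_nsmul,
          TensorProduct.map_tmul, LinearMap.mul'_apply, ih, hτx, nsmul_eq_mul]
        by_cases h1 : i = n
        · by_cases h2 : m - i = 1
          · simp [h1, h2]
          · simp [h2]
        · simp [h1, Ne.symm h1]
      simp only [hterm]
      by_cases h : n + 1 = m
      · subst h
        rw [if_pos rfl, Finset.sum_eq_single n]
        · rw [if_pos ⟨rfl, by omega⟩, Nat.choose_succ_self_right, Nat.factorial_succ]; push_cast; ring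
        · intro i _ hi; rw [if_neg (fun h' => hi h'.1)]
        · intro h'; exact absurd (Finset.mem_range.mpr (by omega)) h'
      · rw [if_neg h]
        refine Finset.sum_eq_zero fun i hi => if_neg ?_
        rintro ⟨rfl, h2⟩
        omega
  refine ⟨⟨τ, 0, x, ht, ?_, AlphaP.finrank_eq p k, ?_, ?_⟩, rfl⟩
  · rw [zero_smul]
    refine WithConv.ext ((AlphaP.basis p k).ext fun i => ?_)
    rw [AlphaP.basis_apply, hpow, if_neg (by have := i.2; omega)]
    rfl
  · rw [Fintype.linearIndependent_iff]
    intro c hc i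
    have h := LinearMap.congr_fun (congrArg WithConv.ofConv hc) (x ^ (i : ℕ))
    simp only [WithConv.ofConv_sum, WithConv.ofConv_smul, LinearMap.coe_sum, Finset.sum_apply, LinearMap.smul_apply,
      hpow, smul_eq_mul, WithConv.ofConv_zero, LinearMap.zero_apply] at h
    rw [Finset.sum_eq_single i (fun j _ hj => by rw [if_neg (fun h => hj (Fin.ext h)), mul_zero]) (by simp), if_pos rfl] at h
    refine (mul_eq_zero.mp h).resolve_right ?_
    rw [CharP.cast_eq_zero_iff k p, hp.dvd_factorial]
    exact not_le.mpr i.2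
  · refine le_antisymm ((Ideal.span_singleton_le_iff_mem _).mpr hεx) fun y hy => ?_
    obtain ⟨q, rfl⟩ := AlphaP.mk_surjective p k y
    have h0 : q.eval 0 = 0 := by
      have h := aeval_algHom_apply (Bialgebra.counitAlgHom k (AlphaP.A p k)) x q
      rw [AlphaP.aeval_x, show Bialgebra.counitAlgHom k (AlphaP.A p k) x = 0 from hεx] at h
      rw [RingHom.mem_ker] at hy
      rw [hy, coe_aeval_eq_eval] at h
      exact h
    obtain ⟨q', rfl⟩ := X_dvd_iff.mpr (show q.coeff 0 = 0 by rwa [coeff_zero_eq_eval_zero])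
    rw [map_mul]
    exact Ideal.mul_mem_right _ _ (Ideal.subset_span rfl)

/-- The model `μ_p`. -/
theorem mu_model : ∃ M : Model (k := k) p (MonoidAlgebra k (Multiplicative (ZMod p))), M.c = 1 := by
  classical
  have hp := (Fact.out : p.Prime)
  let H := MonoidAlgebra k (Multiplicative (ZMod p))
  let ι : ZMod p →+* k := ZMod.castHom dvd_rfl k
  let χ : Multiplicative (ZMod p) →* DualNumber k :=
    { toFun := fun m => 1 + ι (Multiplicative.toAdd m) • DualNumber.eps
      map_one' := by simp
      map_mul' := fun a b => by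
        rw [toAdd_mul, map_add, add_smul, add_mul, mul_add, mul_add, one_mul, one_mul, mul_one, smul_mul_smul,
          DualNumber.eps_mul_eps, smul_zero, add_zero]
        abel }
  let F := MonoidAlgebra.lift k (DualNumber k) (Multiplicative (ZMod p)) χ
  let τ : WithConv (H →ₗ[k] k) := toConv (TrivSqZeroExt.sndHom k k ∘ₗ F.toLinearMap)
  let g : Multiplicative (ZMod p) → H := fun m => MonoidAlgebra.single m 1
  have hg : ∀ m, Coalgebra.comul (R := k) (g m) = g m ⊗ₜ[k] g m := fun m => by
    rw [MonoidAlgebra.comul_single, CommSemiring.comul_apply, TensorProduct.map_tmul]; rfl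
  have hεg : ∀ m, Coalgebra.counit (R := k) (g m) = 1 := fun m => by
    rw [MonoidAlgebra.counit_single, CommSemiring.counit_apply]
  have hext : ∀ {M : Type u} [AddCommMonoid M] [Module k M] (f f' : H →ₗ[k] M), (∀ m, f (g m) = f' (g m)) → f = f' :=
    fun f f' h => MonoidAlgebra.lhom_ext' fun m => LinearMap.ext_ring (h m)
  have hfst : (TrivSqZeroExt.fstHom k k k).toLinearMap ∘ₗ F.toLinearMap = Coalgebra.counit := hext _ _ fun m => by
    change TrivSqZeroExt.fst (F (g m)) = Coalgebra.counit (R := k) (g m)
    rw [hεg, MonoidAlgebra.lift_single, one_smul]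
    simp [χ]
  have hτg : ∀ m, τ.ofConv (g m) = ι (Multiplicative.toAdd m) := fun m => by
    change TrivSqZeroExt.snd (F (g m)) = _
    rw [MonoidAlgebra.lift_single, one_smul]
    simp [χ]
  have hpow : ∀ (n : ℕ) m, (τ ^ n).ofConv (g m) = ι (Multiplicative.toAdd m) ^ n := by
    intro n
    induction n with
    | zero => intro m; rw [pow_zero, LinearMap.convOne_apply, hεg]; simp
    | succ n ih => intro m; rw [pow_succ, LinearMap.convMul_apply, hg, TensorProduct.map_tmul, LinearMap.mul'_apply,
        ih, hτg, pow_succ]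
  have ht : IsTangent τ := fun a b => by
    change TrivSqZeroExt.snd (F (a * b)) = TrivSqZeroExt.snd (F a) * _ + _ * TrivSqZeroExt.snd (F b)
    have ha : ∀ y, TrivSqZeroExt.fst (F y) = Coalgebra.counit (R := k) y := fun y => LinearMap.congr_fun hfst y
    rw [map_mul, DualNumber.snd_mul, ha, ha]
    ring
  refine ⟨⟨τ, 1, g (Multiplicative.ofAdd 1) - 1, ht, ?_, ?_, ?_, ?_⟩, rfl⟩
  · rw [one_smul]
    refine WithConv.ext (hext _ _ fun m => ?_)
    rw [hpow, hτg, ← map_pow, ZMod.pow_card]
  · rw [(MonoidAlgebra.coeffLinearEquiv k).finrank_eq, Module.finrank_finsupp_self, Fintype.card_multiplicative,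
      ZMod.card]
  · rw [Fintype.linearIndependent_iff]
    intro c hc i
    let P : k[X] := ∑ j : Fin p, C (c j) * X ^ (j : ℕ)
    have hroot : ∀ m : ZMod p, P.IsRoot (ι m) := fun m => by
      have h := LinearMap.congr_fun (congrArg WithConv.ofConv hc) (g (Multiplicative.ofAdd m))
      simp only [WithConv.ofConv_sum, WithConv.ofConv_smul, LinearMap.coe_sum, Finset.sum_apply,
        LinearMap.smul_apply, hpow, smul_eq_mul, WithConv.ofConv_zero, LinearMap.zero_apply, toAdd_ofAdd] at h
      simp [P, IsRoot, eval_finset_sum, h]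
    have hP : P = 0 := by
      refine Polynomial.eq_zero_of_natDegree_lt_card_of_eval_eq_zero P ι.injective hroot ?_
      rw [ZMod.card]
      refine lt_of_le_of_lt (natDegree_sum_le_of_forall_le (n := p - 1) _ _ fun j _ =>
        (natDegree_C_mul_X_pow_le _ _).trans (by have := j.2; omega)) (by have := hp.pos; omega)
    have := congrArg (fun q => q.coeff i) hP
    simpa [P, finset_sum_coeff, coeff_X_pow, Fin.val_inj] using this
  · refine le_antisymm ((Ideal.span_singleton_le_iff_mem _).mpr ?_) fun y hy => ?_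
    · show Coalgebra.counit (R := k) (g (Multiplicative.ofAdd 1) - 1) = 0
      rw [map_sub, Bialgebra.counit_one, hεg, sub_self]
    · have key : ∀ y : H, y - algebraMap k H (Coalgebra.counit (R := k) y) ∈
          Ideal.span ({g (Multiplicative.ofAdd 1) - 1} : Set H) := by
        intro y
        induction y using MonoidAlgebra.induction_linear with
        | zero => simp
        | add a b ha hb => rw [map_add, map_add, add_sub_add_comm]; exact add_mem ha hb
        | single m r =>
          have e : (MonoidAlgebra.single m r : H) - algebraMap k H (Coalgebra.counit (R := k) (MonoidAlgebra.single m r : H)) =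
              r • (g (Multiplicative.ofAdd 1) ^ (Multiplicative.toAdd m).val - 1) := by
            rw [MonoidAlgebra.counit_single, CommSemiring.counit_apply, MonoidAlgebra.single_pow, one_pow,
              ← ofAdd_nsmul, nsmul_one, ZMod.natCast_zmod_val, ofAdd_toAdd, smul_sub, MonoidAlgebra.smul_single',
              mul_one, Algebra.algebraMap_eq_smul_one]
          rw [e]
          exact Submodule.smul_of_tower_mem _ r (Ideal.mem_span_singleton.mpr (sub_one_dvd_pow_sub_one _ _))
      have := key y
      rwa [show Coalgebra.counit (R := k) y = 0 from hy, map_zero, sub_zero] at this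

end Groth.Agent.FinHopf
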