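import Groth.Agent.FinHopf.Conv

/-! Finite local algebras with a counital comultiplication: Cartier's theorem and `p`-power dimension. -/

set_option autoImplicit false

open TensorProduct

noncomputable section

namespace Groth.Agent.FinHopf

variable {k : Type*} [Field k] {A : Type*} [CommRing A] [Algebra k A]

theorem sub_algebraMap_mem (ε : A →ₐ[k] k) (a : A) : a - algebraMap k A (ε a) ∈ RingHom.ker ε := by
  rw [RingHom.mem_ker, map_sub, AlgHom.commutes, Algebra.algebraMap_self_apply, sub_self]

theorem isUnit_of_apply_ne_zero (ε : A →ₐ[k] k) {N : ℕ} (hnil : RingHom.ker ε ^ N = ⊥) {a : A}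
    (ha : ε a ≠ 0) : IsUnit a := by
  have h1 : IsNilpotent (a - algebraMap k A (ε a)) := ⟨N, by
    have := Ideal.pow_mem_pow (sub_algebraMap_mem ε a) N
    rwa [hnil, Ideal.mem_bot] at this⟩
  simpa using h1.isUnit_add_left_of_commute (IsUnit.map (algebraMap k A) (isUnit_iff_ne_zero.2 ha))
    (Commute.all _ _)

/-- Elements of `ker ε` lifting a basis of `ker ε / (ker ε)²`, with a dual family of point derivations. -/
theorem exists_coords [FiniteDimensional k A] (ε : A →ₐ[k] k) :
    ∃ (r : ℕ) (x : Fin r → A) (ξ : Fin r → (A →ₗ[k] k)),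
      (∀ i, x i ∈ RingHom.ker ε) ∧ (∀ i j, ξ i (x j) = if i = j then 1 else 0) ∧
      (∀ i a b, ξ i (a * b) = ε a * ξ i b + ε b * ξ i a) ∧
      (∀ a ∈ RingHom.ker ε, ∃ c : Fin r → k, a - ∑ i, c i • x i ∈ RingHom.ker ε ^ 2) := by
  let M2 : Submodule k A := (RingHom.ker ε ^ 2).restrictScalars k
  let S : Submodule k A := Submodule.span k {1} ⊔ M2
  obtain ⟨W, hW⟩ := Submodule.exists_isCompl S
  let b := Module.finBasis k W
  let P : A →ₗ[k] W := W.projectionOnto S hW.symm
  have hP : ∀ s ∈ S, P s = 0 := fun s hs => by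
    rw [← LinearMap.mem_ker, Submodule.ker_projectionOnto]; exact hs
  have hP1 : P 1 = 0 := hP 1 (Submodule.mem_sup_left (Submodule.mem_span_singleton_self 1))
  let x : Fin (Module.finrank k W) → A := fun i => (b i : A) - algebraMap k A (ε (b i : A))
  let ξ : Fin (Module.finrank k W) → (A →ₗ[k] k) := fun i => (b.coord i).comp P
  have hξ1 : ∀ i (c : k), ξ i (algebraMap k A c) = 0 := fun i c => by
    simp [ξ, Algebra.algebraMap_eq_smul_one, hP1]
  have hPx : ∀ j, P (x j) = b j := fun j => by
    simp only [x, map_sub, Algebra.algebraMap_eq_smul_one, map_smul, hP1, smul_zero, sub_zero]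
    exact Submodule.projectionOnto_apply_left hW.symm (b j)
  refine ⟨_, x, ξ, fun i => sub_algebraMap_mem ε _, fun i j => ?_, fun i a c => ?_, fun a ha => ?_⟩
  · simp [ξ, hPx, Finsupp.single_apply, eq_comm]
  · have hq : (a - algebraMap k A (ε a)) * (c - algebraMap k A (ε c)) ∈ M2 := by
      change _ ∈ RingHom.ker ε ^ 2
      rw [pow_two]
      exact Ideal.mul_mem_mul (sub_algebraMap_mem ε a) (sub_algebraMap_mem ε c)
    have h0 : ξ i ((a - algebraMap k A (ε a)) * (c - algebraMap k A (ε c))) = 0 := by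
      simp [ξ, hP _ (Submodule.mem_sup_right hq)]
    have e : (a - algebraMap k A (ε a)) * (c - algebraMap k A (ε c)) =
        a * c - (ε a) • c - (ε c) • a + algebraMap k A (ε a * ε c) := by
      simp only [Algebra.smul_def, map_mul]; ring
    rw [e, map_add, map_sub, map_sub, map_smul, map_smul, hξ1, add_zero, smul_eq_mul, smul_eq_mul] at h0
    linear_combination h0
  · obtain ⟨s, hs, w, hw, rfl⟩ := Submodule.mem_sup.1 (hW.sup_eq_top ▸ (Submodule.mem_top : a ∈ (⊤ : Submodule k A)))
    obtain ⟨u, hu, q, hq, rfl⟩ := Submodule.mem_sup.1 hs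
    obtain ⟨c, rfl⟩ := Submodule.mem_span_singleton.1 hu
    refine ⟨fun i => b.repr ⟨w, hw⟩ i, ?_⟩
    have hw' : (∑ i, b.repr ⟨w, hw⟩ i • (b i : A)) = w := by
      refine Eq.trans ?_ (congrArg Subtype.val (b.sum_repr ⟨w, hw⟩))
      rw [Submodule.coe_sum]; rfl
    have hεq : ε q = 0 := Ideal.pow_le_self two_ne_zero hq
    have hc : c + ε w = 0 := by
      have := ha
      rw [RingHom.mem_ker, map_add, map_add, map_smul, map_one, hεq, add_zero, smul_eq_mul, mul_one] at this
      exact this
    have e : ∑ i, b.repr ⟨w, hw⟩ i • x i = w - algebraMap k A (ε w) := by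
      simp only [x, smul_sub, Finset.sum_sub_distrib, hw']
      congr 1
      conv_rhs => rw [← hw']
      rw [map_sum, map_sum]
      exact Finset.sum_congr rfl fun i _ => by rw [map_smul, smul_eq_mul, map_mul, ← Algebra.smul_def]
    have e2 : c • (1 : A) + q + w - ∑ i, b.repr ⟨w, hw⟩ i • x i = q := by
      rw [e, ← Algebra.algebraMap_eq_smul_one, eq_neg_of_add_eq_zero_left hc, map_neg]; ring
    rw [e2]
    exact hq

/-- Algebra generation by lifts of a basis of the cotangent space. -/
theorem adjoin_eq_top (ε : A →ₐ[k] k) {N : ℕ} (hnil : RingHom.ker ε ^ N = ⊥) {ι : Type*} [Fintype ι]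
    (x : ι → A) (hx : ∀ i, x i ∈ RingHom.ker ε)
    (hgen : ∀ a ∈ RingHom.ker ε, ∃ c : ι → k, a - ∑ i, c i • x i ∈ RingHom.ker ε ^ 2) :
    Algebra.adjoin k (Set.range x) = ⊤ := by
  let S := Algebra.adjoin k (Set.range x)
  let m := RingHom.ker ε
  have hstep : ∀ n, 1 ≤ n → ∀ a ∈ m ^ n, ∃ s ∈ S, a - s ∈ m ^ (n + 1) := by
    intro n hn
    induction n, hn using Nat.le_induction with
    | base =>
      intro a ha
      rw [pow_one] at ha
      obtain ⟨c, hc⟩ := hgen a ha
      exact ⟨_, S.sum_mem fun i _ => S.smul_mem (Algebra.subset_adjoin (Set.mem_range_self i)) _, hc⟩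
    | succ n hn ih =>
      intro a ha
      rw [pow_succ'] at ha
      induction ha using Submodule.mul_induction_on' with
      | mem_mul_mem f hf g hg =>
        obtain ⟨c, hc⟩ := hgen f hf
        obtain ⟨s, hs, hgs⟩ := ih g hg
        refine ⟨(∑ i, c i • x i) * s,
          S.mul_mem (S.sum_mem fun i _ => S.smul_mem (Algebra.subset_adjoin (Set.mem_range_self i)) _) hs, ?_⟩
        have hs' : s ∈ m ^ n := by
          simpa using (m ^ n).sub_mem hg (Ideal.pow_le_pow_right (Nat.le_succ n) hgs)
        have e : f * g - (∑ i, c i • x i) * s = f * (g - s) + (f - ∑ i, c i • x i) * s := by ring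
        rw [e]
        refine Ideal.add_mem _ ?_ ?_
        · rw [pow_succ']; exact Ideal.mul_mem_mul hf hgs
        · rw [show n + 1 + 1 = 2 + n by omega, pow_add]; exact Ideal.mul_mem_mul hc hs'
      | add a _ b _ iha ihb =>
        obtain ⟨s, hs, hs'⟩ := iha
        obtain ⟨t, ht, ht'⟩ := ihb
        exact ⟨s + t, S.add_mem hs ht, by rw [add_sub_add_comm]; exact Ideal.add_mem _ hs' ht'⟩
  have hdown : ∀ j n, 1 ≤ n → N ≤ n + j → ∀ a ∈ m ^ n, a ∈ S := by
    intro j
    induction j with
    | zero =>
      intro n _ hN a ha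
      have h0 : a ∈ m ^ N := Ideal.pow_le_pow_right (by omega) ha
      rw [hnil, Ideal.mem_bot] at h0
      rw [h0]; exact S.zero_mem
    | succ j ih =>
      intro n hn hN a ha
      obtain ⟨s, hs, hs'⟩ := hstep n hn a ha
      simpa using S.add_mem hs (ih (n + 1) (by omega) (by omega) _ hs')
  refine eq_top_iff.2 fun a _ => ?_
  have := hdown N 1 le_rfl (by omega) (a - algebraMap k A (ε a)) (by rw [pow_one]; exact sub_algebraMap_mem ε a)
  simpa using S.add_mem this (S.algebraMap_mem (ε a))

/-- The invariant derivation attached to a point derivation at the origin. -/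
def invDer (ε : A →ₐ[k] k) (Δ : A →ₐ[k] A ⊗[k] A)
    (hr : ∀ a, Algebra.TensorProduct.rid k k A (Algebra.TensorProduct.map (AlgHom.id k A) ε (Δ a)) = a)
    (ξ : A →ₗ[k] k) (hξ : ∀ a b, ξ (a * b) = ε a * ξ b + ε b * ξ a) : Derivation k A A :=
  Derivation.mk' ((TensorProduct.rid k A).toLinearMap ∘ₗ ξ.lTensor A ∘ₗ Δ.toLinearMap) fun a b => by
    simp only [LinearMap.coe_comp, LinearEquiv.coe_coe, Function.comp_apply, AlgHom.toLinearMap_apply,
      map_mul, smul_eq_mul]
    have key : ∀ X Y : A ⊗[k] A, TensorProduct.rid k A (ξ.lTensor A (X * Y)) =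
        Algebra.TensorProduct.rid k k A (Algebra.TensorProduct.map (AlgHom.id k A) ε X) *
          TensorProduct.rid k A (ξ.lTensor A Y) +
        Algebra.TensorProduct.rid k k A (Algebra.TensorProduct.map (AlgHom.id k A) ε Y) *
          TensorProduct.rid k A (ξ.lTensor A X) := by
      intro X Y
      induction X using TensorProduct.induction_on with
      | zero => simp
      | add u v hu hv => simp only [add_mul, map_add, hu, hv]; ring
      | tmul p q =>
        induction Y using TensorProduct.induction_on with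
        | zero => simp
        | add u v hu hv => simp only [mul_add, map_add, hu, hv]; ring
        | tmul p' q' =>
          simp only [Algebra.TensorProduct.tmul_mul_tmul, LinearMap.lTensor_tmul, TensorProduct.rid_tmul,
            Algebra.TensorProduct.map_tmul, AlgHom.id_apply, Algebra.TensorProduct.rid_tmul, hξ]
          simp only [Algebra.smul_def, map_add, map_mul]
          ring
    rw [key, hr, hr]

theorem apply_invDer (ε : A →ₐ[k] k) (Δ : A →ₐ[k] A ⊗[k] A)
    (hl : ∀ a, Algebra.TensorProduct.lid k A (Algebra.TensorProduct.map ε (AlgHom.id k A) (Δ a)) = a)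
    (hr : ∀ a, Algebra.TensorProduct.rid k k A (Algebra.TensorProduct.map (AlgHom.id k A) ε (Δ a)) = a)
    (ξ : A →ₗ[k] k) (hξ : ∀ a b, ξ (a * b) = ε a * ξ b + ε b * ξ a) (a : A) :
    ε (invDer ε Δ hr ξ hξ a) = ξ a := by
  conv_rhs => rw [← hl a]
  change ε (TensorProduct.rid k A (ξ.lTensor A (Δ a))) = _
  generalize Δ a = X
  induction X with
  | zero => simp
  | add u v hu hv => simp only [map_add, hu, hv]
  | tmul p q => simp [mul_comm]

theorem der_sum_apply {ι : Type*} (s : Finset ι) (f : ι → Derivation k A A) (a : A) :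
    (∑ l ∈ s, f l) a = ∑ l ∈ s, f l a := by
  classical
  induction s using Finset.induction_on with
  | empty => simp
  | insert i s hi ih => rw [Finset.sum_insert hi, Finset.sum_insert hi, Derivation.add_apply, ih]

/-- Derivations dual to the coordinates. -/
theorem exists_partials (ε : A →ₐ[k] k) {N : ℕ} (hnil : RingHom.ker ε ^ N = ⊥) {r : ℕ} (x : Fin r → A)
    (d : Fin r → Derivation k A A) (hd : ∀ i j, ε (d i (x j)) = if i = j then 1 else 0) :
    ∃ d' : Fin r → Derivation k A A, ∀ i j, d' i (x j) = if i = j then 1 else 0 := by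
  let M : Matrix (Fin r) (Fin r) A := Matrix.of fun i j => d i (x j)
  have hM : IsUnit M.det := isUnit_of_apply_ne_zero ε hnil (by
    rw [AlgHom.map_det, show ε.mapMatrix M = 1 from Matrix.ext fun i j => by
      rw [Matrix.one_apply]; exact hd i j, Matrix.det_one]
    exact one_ne_zero)
  refine ⟨fun i => ∑ l, M⁻¹ i l • d l, fun i j => ?_⟩
  have := congrFun (congrFun (Matrix.nonsing_inv_mul M hM) i) j
  rw [Matrix.mul_apply, Matrix.one_apply] at this
  rw [← this]
  simp [M, der_sum_apply]

/-- Powers of a coordinate are independent over constants of its derivation. -/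
theorem eq_zero_of_sum_mul_pow_eq_zero (d : Derivation k A A) (x : A) (hx : d x = 1) (ℓ : ℕ)
    (hℓ : ∀ j, 0 < j → j < ℓ → (j : k) ≠ 0) :
    ∀ n, n ≤ ℓ → ∀ c : ℕ → A, (∀ j, d (c j) = 0) → ∑ j ∈ Finset.range n, c j * x ^ j = 0 →
      ∀ j < n, c j = 0 := by
  intro n
  induction n with
  | zero => intro _ _ _ _ j hj; omega
  | succ n ih =>
    intro hn c hc h0
    have h1 := congrArg d h0
    rw [map_sum, map_zero, Finset.sum_range_succ'] at h1
    have e : ∀ j, d (c (j + 1) * x ^ (j + 1)) = (((j + 1 : ℕ) : k) • c (j + 1)) * x ^ j := fun j => by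
      rw [Derivation.leibniz, hc, smul_zero, add_zero, Derivation.leibniz_pow, hx, Nat.add_sub_cancel]
      simp [Algebra.smul_def]
      ring
    simp only [e, pow_zero, mul_one, hc, add_zero] at h1
    have h2 := ih (by omega) (fun j => ((j + 1 : ℕ) : k) • c (j + 1))
      (fun j => by rw [Derivation.map_smul, hc, smul_zero]) h1
    have h3 : ∀ j < n, c (j + 1) = 0 := fun j hj =>
      (IsUnit.smul_eq_zero (isUnit_iff_ne_zero.2 (hℓ (j + 1) (by omega) (by omega)))).1 (h2 j hj)
    intro j hj
    rcases j with _ | j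
    · rw [Finset.sum_range_succ'] at h0
      rw [Finset.sum_eq_zero fun i hi => by rw [h3 i (Finset.mem_range.1 hi), zero_mul]] at h0
      simpa using h0
    · exact h3 j (by omega)

section CharP

variable (ℓ : ℕ) [Fact ℓ.Prime] [CharP k ℓ]

variable (k A) in
/-- The subalgebra generated by the `ℓ`-th powers. -/
def powSub : Subalgebra k A := Algebra.adjoin k (Set.range fun a : A => a ^ ℓ)

theorem der_eq_zero_of_mem_powSub (d : Derivation k A A) {a : A} (ha : a ∈ powSub k A ℓ) : d a = 0 := by
  induction ha using Algebra.adjoin_induction with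
  | mem y hy =>
    obtain ⟨b, rfl⟩ := hy
    rw [Derivation.leibniz_pow, ← Nat.cast_smul_eq_nsmul k, CharP.cast_eq_zero k ℓ, zero_smul]
  | algebraMap r => exact d.map_algebraMap r
  | add u v _ _ hu hv => rw [map_add, hu, hv, add_zero]
  | mul u v _ _ hu hv => rw [Derivation.leibniz, hu, hv, smul_zero, smul_zero, add_zero]

theorem finrank_sup_adjoin [FiniteDimensional k A] (C : Subalgebra k A) (d : Derivation k A A)
    (hC : ∀ c ∈ C, d c = 0) (x : A) (hx : d x = 1) (hxℓ : x ^ ℓ ∈ C) :
    Module.finrank k ↥(C ⊔ Algebra.adjoin k {x}) = ℓ * Module.finrank k C := by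
  have hℓ0 : ℓ ≠ 0 := (Fact.out : ℓ.Prime).ne_zero
  let L : (Fin ℓ → C) →ₗ[k] A :=
    ∑ j : Fin ℓ, (LinearMap.mulRight k (x ^ (j : ℕ))).comp
      (C.val.toLinearMap.comp (LinearMap.proj j))
  have hL : ∀ c, L c = ∑ j : Fin ℓ, (c j : A) * x ^ (j : ℕ) := fun c => by simp [L]
  have hinj : Function.Injective L := by
    rw [← LinearMap.ker_eq_bot, LinearMap.ker_eq_bot']
    intro c hc
    let c' : ℕ → A := fun j => if h : j < ℓ then (c ⟨j, h⟩ : A) else 0
    have h1 := eq_zero_of_sum_mul_pow_eq_zero d x hx ℓ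
      (fun j hj hjℓ => by rw [Ne, CharP.cast_eq_zero_iff k ℓ]; exact Nat.not_dvd_of_pos_of_lt hj hjℓ)
      ℓ le_rfl c' (fun j => by dsimp only [c']; split_ifs with h; exacts [hC _ (c ⟨j, h⟩).2, map_zero d])
      (by rw [Finset.sum_range (fun j => c' j * x ^ j)]; rw [hL] at hc; simpa [c'] using hc)
    funext j
    exact Subtype.ext (by simpa [c'] using h1 j j.2)
  have hrange : LinearMap.range L = Subalgebra.toSubmodule (C ⊔ Algebra.adjoin k {x}) := by
    apply le_antisymm
    · rintro _ ⟨c, rfl⟩
      rw [hL]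
      exact Subalgebra.sum_mem _ fun j _ => Subalgebra.mul_mem _
        ((le_sup_left : C ≤ C ⊔ Algebra.adjoin k {x}) (c j).2)
        (Subalgebra.pow_mem _ ((le_sup_right : _ ≤ C ⊔ Algebra.adjoin k {x}) (Algebra.self_mem_adjoin_singleton k x)) _)
    · rw [Algebra.sup_def]
      have hmono : ∀ (n : ℕ) (c : C), (c : A) * x ^ n ∈ LinearMap.range L := fun n c => by
        refine ⟨Pi.single ⟨n % ℓ, Nat.mod_lt _ (Nat.pos_of_ne_zero hℓ0)⟩ (c * ⟨x ^ ℓ, hxℓ⟩ ^ (n / ℓ)), ?_⟩
        rw [hL, Finset.sum_eq_single ⟨n % ℓ, Nat.mod_lt _ (Nat.pos_of_ne_zero hℓ0)⟩]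
        · rw [Pi.single_eq_same, Subalgebra.coe_mul, SubmonoidClass.coe_pow, mul_assoc, ← pow_mul,
            ← pow_add, Nat.div_add_mod]
        · intro j _ hj; rw [Pi.single_eq_of_ne hj]; simp
        · simp
      intro a ha
      change a ∈ Algebra.adjoin k ((C : Set A) ∪ _) at ha
      induction ha using Algebra.adjoin_induction with
      | mem y hy =>
        rcases hy with hy | hy
        · simpa using hmono 0 ⟨y, hy⟩
        · have : y ∈ Algebra.adjoin k {x} := hy
          rw [Algebra.adjoin_singleton_eq_range_aeval] at this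
          obtain ⟨f, rfl⟩ := this
          change Polynomial.aeval x f ∈ LinearMap.range L
          rw [Polynomial.aeval_eq_sum_range]
          exact Submodule.sum_mem _ fun i _ => Submodule.smul_mem _ _ (by simpa using hmono i 1)
      | algebraMap r => simpa using hmono 0 (algebraMap k C r)
      | add u v _ _ hu hv => exact Submodule.add_mem _ hu hv
      | mul u v _ _ hu hv =>
        obtain ⟨a, rfl⟩ := hu
        obtain ⟨b, rfl⟩ := hv
        rw [hL, hL, Finset.sum_mul_sum]
        refine Submodule.sum_mem _ fun i _ => Submodule.sum_mem _ fun j _ => ?_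
        have := hmono (i + j) (a i * b j)
        rwa [Subalgebra.coe_mul, pow_add, mul_mul_mul_comm] at this
  rw [← Subalgebra.finrank_toSubmodule, ← hrange, LinearMap.finrank_range_of_inj hinj,
    Module.finrank_pi_fintype, Finset.sum_const, Finset.card_univ, Fintype.card_fin, smul_eq_mul]

/-- The tower: `dim A = ℓ ^ r · dim A^ℓ`. -/
theorem finrank_eq_pow_mul [FiniteDimensional k A] {r : ℕ} (x : Fin r → A)
    (d : Fin r → Derivation k A A) (hd : ∀ i j, d i (x j) = if i = j then 1 else 0)
    (hgen : Algebra.adjoin k (Set.range x) = ⊤) :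
    Module.finrank k A = ℓ ^ r * Module.finrank k (powSub k A ℓ) := by
  have h : ∀ n, n ≤ r → Module.finrank k
      ↥(powSub k A ℓ ⊔ Algebra.adjoin k (x '' {i | (i : ℕ) < n})) =
      ℓ ^ n * Module.finrank k (powSub k A ℓ) := by
    intro n
    induction n with
    | zero =>
      intro _
      have : x '' {i | (i : ℕ) < 0} = ∅ := by simp
      rw [this, Algebra.adjoin_empty, sup_bot_eq, pow_zero, one_mul]
    | succ n ih =>
      intro hn
      have hset : x '' {i | (i : ℕ) < n + 1} = x '' {i | (i : ℕ) < n} ∪ {x ⟨n, hn⟩} := by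
        ext y
        simp only [Set.mem_image, Set.mem_setOf_eq, Set.mem_union, Set.mem_singleton_iff]
        constructor
        · rintro ⟨i, hi, rfl⟩
          rcases Nat.lt_succ_iff_lt_or_eq.1 hi with h | h
          · exact Or.inl ⟨i, h, rfl⟩
          · exact Or.inr (congrArg x (Fin.ext h))
        · rintro (⟨i, hi, rfl⟩ | rfl)
          · exact ⟨i, by omega, rfl⟩
          · exact ⟨_, Nat.lt_succ_self n, rfl⟩
      rw [hset, Algebra.adjoin_union, ← sup_assoc,
        finrank_sup_adjoin ℓ _ (d ⟨n, hn⟩) ?_ (x ⟨n, hn⟩) (by rw [hd, if_pos rfl])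
          ((le_sup_left : powSub k A ℓ ≤ _) (Algebra.subset_adjoin ⟨x ⟨n, hn⟩, rfl⟩)),
        ih (by omega), pow_succ]
      · ring
      · intro c hc
        rw [Algebra.sup_def] at hc
        induction hc using Algebra.adjoin_induction with
        | mem y hy =>
          rcases hy with hy | hy
          · exact der_eq_zero_of_mem_powSub ℓ _ hy
          · have hy' : y ∈ Algebra.adjoin k (x '' {i | (i : ℕ) < n}) := hy
            induction hy' using Algebra.adjoin_induction with
            | mem z hz =>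
              obtain ⟨i, hi, rfl⟩ := hz
              rw [hd, if_neg]
              rintro rfl
              exact lt_irrefl n hi
            | algebraMap r => exact Derivation.map_algebraMap _ r
            | add u v hu hv ihu ihv => rw [map_add, ihu hu, ihv hv, add_zero]
            | mul u v hu hv ihu ihv => rw [Derivation.leibniz, ihu hu, ihv hv, smul_zero, smul_zero, add_zero]
        | algebraMap r => exact Derivation.map_algebraMap _ r
        | add u v _ _ hu hv => rw [map_add, hu, hv, add_zero]
        | mul u v _ _ hu hv => rw [Derivation.leibniz, hu, hv, smul_zero, smul_zero, add_zero]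
  have htop : powSub k A ℓ ⊔ Algebra.adjoin k (x '' {i | (i : ℕ) < r}) = ⊤ := by
    rw [show {i : Fin r | (i : ℕ) < r} = Set.univ from Set.eq_univ_of_forall fun i => i.2, Set.image_univ,
      hgen, sup_top_eq]
  rw [← h r le_rfl, htop]
  exact ((Subalgebra.topEquiv : (⊤ : Subalgebra k A) ≃ₐ[k] A).toLinearEquiv.finrank_eq).symm

end CharP

end Groth.Agent.FinHopf
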