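import Groth.Agent.FinHopf.Simple
import Mathlib

/-! A tangent vector `ψ` with `ψ ^ p = c ψ` gives a subgroup of order `p`. -/

set_option autoImplicit false
universe u v w

open TensorProduct WithConv Polynomial

noncomputable section

namespace Groth.Agent.FinHopf

variable {k : Type u} [Field k]

/-- A tangent vector at the unit section, in the dual algebra. -/
def IsTangent {A : Type v} [CommRing A] [Bialgebra k A] (ψ : WithConv (A →ₗ[k] k)) : Prop :=
  ∀ a b : A, ψ.ofConv (a * b) =
    ψ.ofConv a * Coalgebra.counit (R := k) b + Coalgebra.counit (R := k) a * ψ.ofConv b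

theorem IsTangent.apply_one {A : Type v} [CommRing A] [Bialgebra k A] {ψ : WithConv (A →ₗ[k] k)} (h : IsTangent ψ) :
    ψ.ofConv 1 = 0 := by
  have := h 1 1
  rw [mul_one, Bialgebra.counit_one, mul_one, one_mul] at this
  exact left_eq_add.mp this

/-- Restriction along the multiplication, a map of dual algebras. -/
def mulDual (A : Type v) [CommRing A] [Bialgebra k A] :
    WithConv (A →ₗ[k] k) →ₐ[k] WithConv (A ⊗[k] A →ₗ[k] k) where
  toFun φ := toConv (φ.ofConv ∘ₗ LinearMap.mul' k A)
  map_one' := WithConv.ext (TensorProduct.ext' fun a b => by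
    simp [LinearMap.convOne_apply, TensorProduct.counit_tmul, Bialgebra.counit_mul, mul_comm])
  map_mul' φ χ := WithConv.ext (by
    simp only [ofConv_toConv]
    exact LinearMap.convMul_comp_coalgHom_distrib φ χ (Bialgebra.mulCoalgHom k A))
  map_zero' := WithConv.ext (LinearMap.zero_comp _)
  map_add' φ χ := WithConv.ext (LinearMap.add_comp _ _ _)
  commutes' c := by
    refine WithConv.ext (TensorProduct.ext' fun a b => ?_)
    simp [LinearMap.convAlgebraMap_apply, Algebra.algebraMap_eq_smul_one, TensorProduct.counit_tmul,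
      Bialgebra.counit_mul, LinearMap.convOne_apply]
    exact Or.inl (mul_comm _ _)

theorem mulDual_apply (A : Type v) [CommRing A] [Bialgebra k A] (φ : WithConv (A →ₗ[k] k)) (a b : A) :
    (mulDual A φ).ofConv (a ⊗ₜ[k] b) = φ.ofConv (a * b) := rfl

variable (p : ℕ) [Fact p.Prime] [CharP k p]

/-- A model group of order `p`: its dual is generated by a tangent vector `τ` with `τ ^ p = c τ`. -/
structure Model (H : Type w) [CommRing H] [Bialgebra k H] where
  /-- the tangent vector -/
  τ : WithConv (H →ₗ[k] k)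
  /-- the eigenvalue -/
  c : k
  /-- the coordinate -/
  z : H
  tangent : IsTangent τ
  rel : τ ^ p = c • τ
  finrank_eq : Module.finrank k H = p
  indep : LinearIndependent k (fun i : Fin p => τ ^ (i : ℕ))
  span_z : Ideal.span {z} = RingHom.ker (Bialgebra.counitAlgHom k H)

variable {p} {A : Type v} [CommRing A] [HopfAlgebra k A] {H : Type w} [CommRing H] [HopfAlgebra k H]
  [FiniteDimensional k H] [IsLocalRing H]

theorem Model.exists_gamma (M : Model (k := k) p H) (ψ : WithConv (A →ₗ[k] k)) (hψ : ψ ^ p = M.c • ψ) :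
    ∃ γ : WithConv (H →ₗ[k] k) →ₐ[k] WithConv (A →ₗ[k] k), γ M.τ = ψ ∧
      ∀ q : k[X], γ (aeval M.τ q) = aeval ψ q := by
  classical
  have hp := (Fact.out : p.Prime)
  haveI : Module.Finite k (WithConv (H →ₗ[k] k)) := Module.Finite.equiv (WithConv.linearEquiv k _).symm
  have hspan : ⊤ ≤ Submodule.span k (Set.range fun i : Fin p => M.τ ^ (i : ℕ)) := by
    rw [top_le_iff]
    refine M.indep.span_eq_top_of_card_eq_finrank' ?_
    rw [Fintype.card_fin, LinearEquiv.finrank_eq (WithConv.linearEquiv k _ : WithConv (H →ₗ[k] k) ≃ₗ[k] (H →ₗ[k] k)),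
      Module.finrank_linearMap, Module.finrank_self, mul_one, M.finrank_eq]
  have hsurj : Function.Surjective (aeval (R := k) M.τ) := fun y => by
    have hy := hspan (Submodule.mem_top (x := y))
    rw [Submodule.mem_span_range_iff_exists_fun] at hy
    obtain ⟨c, rfl⟩ := hy
    exact ⟨∑ i : Fin p, c i • X ^ (i : ℕ), by simp⟩
  let P : k[X] := X ^ p - C M.c * X
  have hdeg : P.natDegree = p := by
    refine natDegree_eq_of_degree_eq_some ?_
    rw [degree_sub_eq_left_of_degree_lt]
    · rw [degree_X_pow]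
    · rw [degree_X_pow]
      exact (degree_C_mul_X_le _).trans_lt (WithBot.coe_lt_coe.mpr hp.one_lt)
  have hP : P.Monic := monic_X_pow_sub ((degree_C_mul_X_le _).trans_lt (WithBot.coe_lt_coe.mpr hp.one_lt))
  have hker : ∀ q : k[X], aeval M.τ q = 0 → aeval ψ q = 0 := by
    intro q hq
    have e1 : aeval M.τ P = 0 := by
      simp only [P, map_sub, map_mul, map_pow, aeval_X, aeval_C]
      rw [M.rel, Algebra.smul_def, sub_self]
    have e2 : aeval ψ P = 0 := by
      simp only [P, map_sub, map_mul, map_pow, aeval_X, aeval_C]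
      rw [hψ, Algebra.smul_def, sub_self]
    rw [← modByMonic_add_div q P] at hq ⊢
    rw [map_add, map_mul, e1, zero_mul, add_zero] at hq
    rw [map_add, map_mul, e2, zero_mul, add_zero]
    have hd : (q %ₘ P).natDegree < p := by
      have := natDegree_modByMonic_lt q hP (fun h1 => by rw [h1, natDegree_one] at hdeg; exact hp.ne_zero hdeg.symm)
      omega
    rw [aeval_eq_sum_range' hd] at hq ⊢
    rw [← Fin.sum_univ_eq_sum_range (fun i => (q %ₘ P).coeff i • M.τ ^ i)] at hq
    have h0 := Fintype.linearIndependent_iff.mp M.indep (fun i => (q %ₘ P).coeff (i : ℕ)) hq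
    refine Finset.sum_eq_zero fun i hi => ?_
    rw [show (q %ₘ P).coeff i = 0 from h0 ⟨i, Finset.mem_range.mp hi⟩, zero_smul]
  let γ₀ : WithConv (H →ₗ[k] k) → WithConv (A →ₗ[k] k) := fun y => aeval ψ (hsurj y).choose
  have hγ : ∀ q, γ₀ (aeval M.τ q) = aeval ψ q := fun q => by
    refine sub_eq_zero.mp ?_
    rw [← map_sub]
    refine hker _ ?_
    rw [map_sub, (hsurj (aeval M.τ q)).choose_spec, sub_self]
  refine ⟨{ toFun := γ₀, map_one' := ?_, map_mul' := ?_, map_zero' := ?_, map_add' := ?_, commutes' := ?_ }, ?_, hγ⟩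
  · have h := hγ 1
    simp only [map_one] at h
    exact h
  · intro x y
    obtain ⟨a, rfl⟩ := hsurj x
    obtain ⟨b, rfl⟩ := hsurj y
    rw [← map_mul, hγ, hγ, hγ, map_mul]
  · have h := hγ 0
    simp only [map_zero] at h
    exact h
  · intro x y
    obtain ⟨a, rfl⟩ := hsurj x
    obtain ⟨b, rfl⟩ := hsurj y
    rw [← map_add, hγ, hγ, hγ, map_add]
  · intro r
    have h := hγ (C r)
    simp only [aeval_C] at h
    exact h
  · have h := hγ X
    simp only [aeval_X] at h
    exact h

/-- A tangent vector `ψ` with `ψ ^ p = c ψ` gives a closed immersion of the model. -/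
theorem Model.exists_surjective (M : Model (k := k) p H) (ψ : WithConv (A →ₗ[k] k)) (hψt : IsTangent ψ)
    (hψ : ψ ^ p = M.c • ψ) (hne : ψ ≠ 0) : ∃ f : A →ₐc[k] H, Function.Surjective f := by
  classical
  obtain ⟨γ, hγτ, hγ⟩ := M.exists_gamma ψ hψ
  have hgen : ∀ φ : WithConv (H →ₗ[k] k), ∃ q : k[X], aeval M.τ q = φ := by
    intro φ
    haveI : Module.Finite k (WithConv (H →ₗ[k] k)) := Module.Finite.equiv (WithConv.linearEquiv k _).symm
    have hspan : ⊤ ≤ Submodule.span k (Set.range fun i : Fin p => M.τ ^ (i : ℕ)) := by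
      rw [top_le_iff]
      refine M.indep.span_eq_top_of_card_eq_finrank' ?_
      rw [Fintype.card_fin, LinearEquiv.finrank_eq (WithConv.linearEquiv k _ : WithConv (H →ₗ[k] k) ≃ₗ[k] (H →ₗ[k] k)),
        Module.finrank_linearMap, Module.finrank_self, mul_one, M.finrank_eq]
    have hy := hspan (Submodule.mem_top (x := φ))
    rw [Submodule.mem_span_range_iff_exists_fun] at hy
    obtain ⟨c, rfl⟩ := hy
    exact ⟨∑ i : Fin p, c i • X ^ (i : ℕ), by simp⟩
  -- the transpose of `γ`
  let γl : (H →ₗ[k] k) →ₗ[k] (A →ₗ[k] k) :=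
    (WithConv.linearEquiv k (A →ₗ[k] k)).toLinearMap ∘ₗ γ.toLinearMap ∘ₗ
      (WithConv.linearEquiv k (H →ₗ[k] k)).symm.toLinearMap
  let f : A →ₗ[k] H := (Module.evalEquiv k H).symm.toLinearMap ∘ₗ γl.dualMap ∘ₗ Module.Dual.eval k A
  have hf : ∀ (φ : WithConv (H →ₗ[k] k)) (a : A), φ.ofConv (f a) = (γ φ).ofConv a := fun φ a => by
    have h := LinearMap.congr_fun
      ((Module.evalEquiv k H).apply_symm_apply (γl.dualMap (Module.Dual.eval k A a))) φ.ofConv
    exact h
  have hsep : ∀ x y : H, (∀ φ : WithConv (H →ₗ[k] k), φ.ofConv x = φ.ofConv y) → x = y := fun x y h =>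
    sub_eq_zero.mp ((Module.forall_dual_apply_eq_zero_iff k _).mp fun φ => by
      rw [map_sub, sub_eq_zero]; exact h (toConv φ))
  have hone : (γ 1) = 1 := map_one γ
  have hεf : ∀ a, Coalgebra.counit (R := k) (f a) = Coalgebra.counit (R := k) a := fun a => by
    have h := hf 1 a
    rw [hone, LinearMap.convOne_apply, LinearMap.convOne_apply] at h
    simpa using h
  have hcomul : TensorProduct.map f f ∘ₗ Coalgebra.comul = Coalgebra.comul ∘ₗ f := by
    refine LinearMap.ext fun a => eq_of_sub_eq_zero (Comodule.eq_zero_of_lcon fun χ => ?_)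
    refine (Module.forall_dual_apply_eq_zero_iff k _).mp fun φ => ?_
    have e : ∀ y : H ⊗[k] H, φ (Comodule.lcon χ y) = LinearMap.mul' k k (TensorProduct.map χ φ y) := by
      intro y
      induction y with
      | zero => simp
      | add p q hp hq => simp only [map_add, hp, hq]
      | tmul p q => simp
    rw [map_sub, map_sub, e, e, sub_eq_zero]
    have h1 : LinearMap.mul' k k (TensorProduct.map χ φ (Coalgebra.comul (R := k) (f a))) =
        (γ (toConv χ) * γ (toConv φ)).ofConv a := by
      rw [← map_mul, ← hf]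
      rfl
    refine Eq.trans ?_ h1.symm
    change LinearMap.mul' k k (TensorProduct.map χ φ (TensorProduct.map f f (Coalgebra.comul (R := k) a))) =
      LinearMap.mul' k k (TensorProduct.map (γ (toConv χ)).ofConv (γ (toConv φ)).ofConv (Coalgebra.comul (R := k) a))
    generalize Coalgebra.comul (R := k) a = y
    induction y with
    | zero => simp
    | add p q hp hq => simp only [map_add, hp, hq]
    | tmul p q => simp [← hf]
  let fc : A →ₗc[k] H := { f with counit_comp := LinearMap.ext hεf, map_comp_comul := hcomul }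
  have hmulv : ∀ (φ : WithConv (H →ₗ[k] k)) (a b : A), (γ φ).ofConv (a * b) = φ.ofConv (f a * f b) := by
    let ff : A ⊗[k] A →ₗc[k] H ⊗[k] H := Coalgebra.TensorProduct.map fc fc
    let R₂ : WithConv (H ⊗[k] H →ₗ[k] k) →ₐ[k] WithConv (A ⊗[k] A →ₗ[k] k) :=
      { toFun := fun φ => toConv (φ.ofConv ∘ₗ ff.toLinearMap)
        map_one' := WithConv.ext (LinearMap.ext fun x => by
          simp only [ofConv_toConv, LinearMap.comp_apply, LinearMap.convOne_apply]
          exact congrArg (algebraMap k k) (CoalgHomClass.counit_comp_apply ff x))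
        map_mul' := fun φ χ => WithConv.ext (by
          simp only [ofConv_toConv]; exact LinearMap.convMul_comp_coalgHom_distrib φ χ ff)
        map_zero' := WithConv.ext (LinearMap.zero_comp _)
        map_add' := fun φ χ => WithConv.ext (LinearMap.add_comp _ _ _)
        commutes' := fun r => WithConv.ext (LinearMap.ext fun x => by
          simp only [ofConv_toConv, LinearMap.comp_apply, LinearMap.convAlgebraMap_apply]
          exact congrArg _ (CoalgHomClass.counit_comp_apply ff x)) }
    have key : ((mulDual A).comp γ) = R₂.comp (mulDual H) := by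
      refine AlgHom.ext fun φ => ?_
      obtain ⟨q, rfl⟩ := hgen φ
      rw [← Polynomial.aeval_algHom_apply, ← Polynomial.aeval_algHom_apply]
      refine congrArg (fun r => aeval r q) ?_
      refine WithConv.ext (TensorProduct.ext' fun a b => ?_)
      change (γ M.τ).ofConv (a * b) = M.τ.ofConv (f a * f b)
      rw [hγτ, M.tangent, hψt, hεf, hεf, hf, hf, hγτ]
    exact fun φ a b => LinearMap.congr_fun (congrArg WithConv.ofConv (AlgHom.congr_fun key φ)) (a ⊗ₜ[k] b)
  have hone' : ∀ φ : WithConv (H →ₗ[k] k), (γ φ).ofConv 1 = φ.ofConv 1 := by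
    intro φ
    have h : (Comodule.evalOne k A).comp γ = Comodule.evalOne k H := by
      refine AlgHom.ext fun φ => ?_
      obtain ⟨q, rfl⟩ := hgen φ
      rw [← Polynomial.aeval_algHom_apply, ← Polynomial.aeval_algHom_apply]
      refine congrArg (fun r => aeval r q) ?_
      change (γ M.τ).ofConv 1 = M.τ.ofConv 1
      rw [hγτ, hψt.apply_one, M.tangent.apply_one]
    exact AlgHom.congr_fun h φ
  let fa : A →ₐ[k] H := AlgHom.ofLinearMap f (hsep _ _ fun φ => by rw [hf, hone'])
    fun a b => hsep _ _ fun φ => by rw [hf, hmulv]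
  let fb : A →ₐc[k] H := BialgHom.ofAlgHom fa (AlgHom.ext hεf) (AlgHom.ext fun a => LinearMap.congr_fun hcomul a)
  refine ⟨fb, ?_⟩
  obtain ⟨a, ha⟩ : ∃ a, ψ.ofConv a ≠ 0 := by
    by_contra h
    push Not at h
    exact hne (WithConv.ext (LinearMap.ext h))
  set y : H := fa a - algebraMap k H (Coalgebra.counit (R := k) a) with hy
  have hyk : y ∈ Ideal.span ({M.z} : Set H) := by
    rw [M.span_z, RingHom.mem_ker, hy, map_sub, AlgHom.commutes]
    exact sub_eq_zero.mpr (hεf a)
  obtain ⟨u, hu⟩ := Ideal.mem_span_singleton'.mp hyk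
  have hzε : Coalgebra.counit (R := k) M.z = 0 :=
    (show M.z ∈ RingHom.ker (Bialgebra.counitAlgHom k H) from M.span_z ▸ Ideal.mem_span_singleton_self _)
  have hτy : M.τ.ofConv y = ψ.ofConv a := by
    rw [hy, map_sub, Algebra.algebraMap_eq_smul_one, map_smul, M.tangent.apply_one, smul_zero, sub_zero]
    exact (hf M.τ a).trans (by rw [hγτ])
  have hu' : IsUnit u := by
    by_contra h
    have hu0 : u ∈ RingHom.ker (Bialgebra.counitAlgHom k H) := by
      rw [ker_counit_eq, IsLocalRing.mem_maximalIdeal]; exact h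
    refine ha ?_
    rw [← hτy, ← hu, M.tangent, hzε, show Coalgebra.counit (R := k) u = 0 from hu0, mul_zero, zero_mul, add_zero]
  have hyspan : Ideal.span {y} = RingHom.ker (Bialgebra.counitAlgHom k H) := by
    rw [← M.span_z, ← hu, Ideal.span_singleton_mul_left_unit hu']
  intro x
  have hx : x ∈ Algebra.adjoin k ({y} : Set H) := by
    rw [adjoin_singleton_eq_top hyspan]; exact trivial
  exact (Algebra.adjoin_le (S := fa.range) (Set.singleton_subset_iff.mpr (sub_mem ⟨a, rfl⟩
    (Subalgebra.algebraMap_mem _ _))) : _) hx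

end Groth.Agent.FinHopf
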