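import Groth.Agent.FinHopf.OrderP
import Groth.Prelude.Def_ConstGrp
import Groth.Prelude.Def_AlphaP

/-! The classification of group schemes of prime order over an algebraically closed field. -/

set_option autoImplicit false
universe u v

open TensorProduct WithConv

noncomputable section

namespace Groth.Agent.FinHopf

variable {k : Type u} [Field k] [IsAlgClosed k] {A : Type v} [CommRing A] [HopfAlgebra k A]
  [FiniteDimensional k A]

/-- Etale case: the constant group. -/
theorem nonempty_equiv_const (p : ℕ) [Fact p.Prime] (hc : Nat.card (A →ₐ[k] k) = p)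
    (hev : Function.Bijective (evalPoints (k := k) (A := A))) :
    Nonempty (A ≃ₐc[k] ConstGrp.F k (Multiplicative (ZMod p))) := by
  haveI : Finite (WithConv (A →ₐ[k] k)) := Finite.of_equiv _ (WithConv.equiv _).symm
  have hcard : Nat.card (WithConv (A →ₐ[k] k)) = p := (Nat.card_congr (WithConv.equiv _)).trans hc
  let e : Multiplicative (ZMod p) ≃* WithConv (A →ₐ[k] k) :=
    mulEquivOfPrimeCardEq (p := p) (by simp) hcard
  let Φ : A →ₐ[k] ConstGrp.F k (Multiplicative (ZMod p)) := AlgHom.pi fun g => (e g).ofConv
  have hΦ : ∀ a g, Φ a g = (e g).ofConv a := fun a g => rfl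
  have hbij : Function.Bijective Φ := by
    constructor
    · intro a b h
      apply hev.1
      funext g
      obtain ⟨z, hz⟩ := e.surjective (toConv g)
      have := congrFun (show (Φ a : Multiplicative (ZMod p) → k) = Φ b from h) z
      rw [hΦ, hΦ, hz] at this
      exact this
    · intro y
      obtain ⟨a, ha⟩ := hev.2 fun g => y (e.symm (toConv g))
      refine ⟨a, funext fun z => ?_⟩
      rw [hΦ]
      have := congrFun ha (e z).ofConv
      simpa using this
  refine ⟨BialgEquiv.ofAlgEquiv (AlgEquiv.ofBijective Φ hbij) (AlgHom.ext fun a => ?_) (AlgHom.ext fun a => ?_)⟩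
  · change Φ a 1 = _
    rw [hΦ, map_one]
    rfl
  · let b2 := (ConstGrp.basis k (Multiplicative (ZMod p))).tensorProduct (ConstGrp.basis k (Multiplicative (ZMod p)))
    apply b2.repr.injective
    ext ⟨x, y⟩
    have hrepr : ∀ t, b2.repr t (x, y) = ConstGrp.pair k (Multiplicative (ZMod p)) t (x, y) := by
      intro t
      induction t using TensorProduct.induction_on with
      | zero => simp
      | add u v hu hv => simp only [map_add, Finsupp.add_apply, ConstGrp.add_apply, hu, hv]
      | tmul u v =>
        rw [Module.Basis.tensorProduct_repr_tmul_apply, ConstGrp.pair_tmul, smul_eq_mul, mul_comm]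
        rfl
    rw [hrepr, hrepr]
    change ConstGrp.pair k _ (Algebra.TensorProduct.map Φ Φ (Coalgebra.comul (R := k) a)) (x, y) =
      ConstGrp.pair k _ (Coalgebra.comul (R := k) (Φ a)) (x, y)
    rw [ConstGrp.pair_comul, hΦ, map_mul, AlgHom.convMul_apply]
    generalize Coalgebra.comul (R := k) a = X
    induction X using TensorProduct.induction_on with
    | zero => simp
    | add u v hu hv => simp only [map_add, ConstGrp.add_apply, hu, hv]
    | tmul u v =>
      rw [Algebra.TensorProduct.map_tmul, ConstGrp.pair_tmul, hΦ, hΦ, Algebra.TensorProduct.lift_tmul]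

/-- Pairings against a spanning family separate tensors. -/
theorem eq_of_pairing {p : ℕ} (φ : Fin p → (A →ₗ[k] k)) (hspan : Submodule.span k (Set.range φ) = ⊤)
    (X Y : A ⊗[k] A) (h : ∀ i j, LinearMap.mul' k k (TensorProduct.map (φ i) (φ j) X) =
      LinearMap.mul' k k (TensorProduct.map (φ i) (φ j) Y)) : X = Y := by
  let b := Module.finBasis k A
  let b2 := b.tensorProduct b
  apply b2.repr.injective
  ext ⟨l, m⟩
  let P : (A →ₗ[k] k) → (A →ₗ[k] k) → A ⊗[k] A → k := fun f g Z => LinearMap.mul' k k (TensorProduct.map f g Z)
  have hbl : ∀ f g, P f g X = P f g Y := by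
    intro f g
    have hf : f ∈ Submodule.span k (Set.range φ) := hspan ▸ Submodule.mem_top
    induction hf using Submodule.span_induction with
    | mem f hf =>
      obtain ⟨i, rfl⟩ := hf
      have hg : g ∈ Submodule.span k (Set.range φ) := hspan ▸ Submodule.mem_top
      induction hg using Submodule.span_induction with
      | mem g hg => obtain ⟨j, rfl⟩ := hg; exact h i j
      | zero => simp [P]
      | add g g' _ _ hg hg' =>
        simp only [P] at hg hg' ⊢
        simp only [TensorProduct.map_add_right, LinearMap.add_apply, map_add, hg, hg']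
      | smul c g _ hg =>
        simp only [P] at hg ⊢
        simp only [TensorProduct.map_smul_right, LinearMap.smul_apply, map_smul, hg]
    | zero => simp [P]
    | add f f' _ _ hf hf' =>
      simp only [P] at hf hf' ⊢
      simp only [TensorProduct.map_add_left, LinearMap.add_apply, map_add, hf, hf']
    | smul c f _ hf =>
      simp only [P] at hf ⊢
      simp only [TensorProduct.map_smul_left, LinearMap.smul_apply, map_smul, hf]
  have hrepr : ∀ Z, b2.repr Z (l, m) = P (b.coord l) (b.coord m) Z := by
    intro Z
    induction Z using TensorProduct.induction_on with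
    | zero => simp [P]
    | add u v hu hv =>
      simp only [P] at hu hv ⊢
      simp only [map_add, Finsupp.add_apply, hu, hv]
    | tmul u v =>
      rw [Module.Basis.tensorProduct_repr_tmul_apply]
      simp [P, mul_comm]
  rw [hrepr, hrepr, hbl]

/-- Classification of order `p` group schemes over an algebraically closed field. -/
theorem prime_order_classification (p : ℕ) [Fact p.Prime] (hA : Module.finrank k A = p) :
    Nonempty (A ≃ₐc[k] ConstGrp.F k (Multiplicative (ZMod p))) ∨
      ∃ _ : CharP k p, Nonempty (A ≃ₐc[k] MonoidAlgebra k (Multiplicative (ZMod p))) ∨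
        Nonempty (A ≃ₐc[k] AlphaP.A p k) := by
  have hp : p.Prime := Fact.out
  rcases prime_order_cases p hp hA with ⟨hc, hev⟩ | ⟨-, hch, hnil, x, ξ, hξ, hx, hξx, htop⟩
  · exact Or.inl (nonempty_equiv_const p hc hev)
  right
  refine ⟨hch, ?_⟩
  haveI := hch
  haveI := (Bialgebra.counitAlgHom k A).toRingHom.domain_nontrivial
  let m := RingHom.ker (Bialgebra.counitAlgHom k A)
  let f : ℕ → (A →ₗ[k] k) := fun i => ((toConv ξ) ^ i).ofConv
  have htri := convPow_deriv_apply ξ hξ x hx hξx
  have hfact : ∀ i : ℕ, i < p → (i.factorial : k) ≠ 0 := fun i hi => by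
    rw [Ne, CharP.cast_eq_zero_iff k p, hp.dvd_factorial]; exact not_le.2 hi
  have hli : LinearIndependent k fun i : Fin p => f i := by
    classical
    rw [Fintype.linearIndependent_iff]
    intro c hc0
    by_contra hne
    push_neg at hne
    obtain ⟨i0, hi0⟩ := hne
    obtain ⟨i, hi, hmax⟩ := (Finset.univ.filter fun i => c i ≠ 0).exists_maximal
      ⟨i0, Finset.mem_filter.2 ⟨Finset.mem_univ _, hi0⟩⟩
    have := LinearMap.congr_fun hc0 (x ^ (i : ℕ))
    rw [LinearMap.sum_apply, LinearMap.zero_apply, Finset.sum_eq_single i] at this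
    · simp only [f, LinearMap.smul_apply, (htri i).2, smul_eq_mul] at this
      exact (Finset.mem_filter.1 hi).2 ((mul_eq_zero.1 this).resolve_right (hfact i i.2))
    · intro j _ hji
      rcases lt_or_gt_of_ne hji with h | h
      · simp only [f, LinearMap.smul_apply]
        rw [(htri j).1, smul_zero]
        exact Ideal.pow_le_pow_right (Fin.lt_def.1 h) (Ideal.pow_mem_pow hx i)
      · by_cases hcj : c j = 0
        · rw [LinearMap.smul_apply, hcj, zero_smul]
        · exact absurd (hmax (Finset.mem_filter.2 ⟨Finset.mem_univ _, hcj⟩) h.le) (not_le.2 h)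
    · simp
  haveI : Nonempty (Fin p) := ⟨⟨0, hp.pos⟩⟩
  let B := basisOfLinearIndependentOfCardEqFinrank hli (by
    rw [Fintype.card_fin, Module.finrank_linearMap, hA, Module.finrank_self, mul_one])
  have hspan : Submodule.span k (Set.range fun i : Fin p => f i) = ⊤ := by
    simpa [B] using B.span_eq
  let D := invDer _ _ (isCounital_bialgebra k A).right ξ hξ
  have hD : ∀ a, Bialgebra.counitAlgHom k A (D a) = ξ a :=
    apply_invDer _ _ (isCounital_bialgebra k A).left (isCounital_bialgebra k A).right ξ hξ
  have hf : ∀ (i : ℕ) (a : A), f (i + 1) a = f i (D a) := by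
    intro i a
    simp only [f]
    rw [pow_succ, LinearMap.convMul_apply]
    change _ = ((toConv ξ) ^ i).ofConv (TensorProduct.rid k A (ξ.lTensor A (Coalgebra.comul (R := k) a)))
    generalize Coalgebra.comul (R := k) a = X
    induction X with
    | zero => simp
    | add u v hu hv => simp only [map_add, hu, hv]
    | tmul p q => simp [mul_comm]
  have hf0 : ∀ a, f 0 a = Bialgebra.counitAlgHom k A a := fun a => by simp [f]
  -- the `p`-th convolution power of a point derivation is a point derivation
  obtain ⟨c, hcp⟩ : ∃ c : k, (toConv ξ) ^ p = c • toConv ξ := by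
    obtain ⟨v, hv⟩ := (Submodule.mem_span_range_iff_exists_fun k).1
      (hspan ▸ (Submodule.mem_top : f p ∈ (⊤ : Submodule k (A →ₗ[k] k))))
    have hfp : f p = v ⟨1, hp.one_lt⟩ • f 1 := by
      rw [← hv]
      refine Finset.sum_eq_single (⟨1, hp.one_lt⟩ : Fin p) (fun j _ hj => ?_) (by simp)
      have hsum : ∀ i : ℕ, i ≠ 1 → i < p → ∑ l : Fin p, v l * f l (x ^ i) = 0 := by
        intro i hi hip
        have := LinearMap.congr_fun hv (x ^ i)
        simp only [LinearMap.sum_apply, LinearMap.smul_apply, smul_eq_mul] at this
        rw [this]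
        rcases i with _ | i
        · obtain ⟨q, hq⟩ := Nat.exists_eq_succ_of_ne_zero hp.ne_zero
          rw [hq, Nat.succ_eq_add_one, hf, pow_zero, D.map_one_eq_zero, map_zero]
        · have hder : ∀ a b : A, (D.toLinearMap ^ p) (a * b) =
              (D.toLinearMap ^ p) a * b + a * (D.toLinearMap ^ p) b := by
            intro a b
            haveI : Nontrivial (Module.End k (A ⊗[k] A)) := inferInstance
            haveI : CharP (Module.End k (A ⊗[k] A)) p :=
              charP_of_injective_algebraMap (algebraMap k (Module.End k (A ⊗[k] A))).injective p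
            let P : Module.End k (A ⊗[k] A) := D.toLinearMap.rTensor A
            let Q : Module.End k (A ⊗[k] A) := D.toLinearMap.lTensor A
            have hPQ : Commute P Q := by
              apply TensorProduct.ext'
              intro u w
              simp [P, Q]
            have hint : ∀ (n : ℕ) (X : A ⊗[k] A), (D.toLinearMap ^ n) (LinearMap.mul' k A X) =
                LinearMap.mul' k A (((P + Q) ^ n) X) := by
              intro n
              induction n with
              | zero => intro X; simp
              | succ n ihn =>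
                intro X
                rw [pow_succ, Module.End.mul_apply, pow_succ, Module.End.mul_apply, ← ihn]
                congr 1
                induction X using TensorProduct.induction_on with
                | zero => simp
                | add u v hu hv => simp only [map_add, hu, hv]
                | tmul u v => simp [P, Q, mul_comm, add_comm]
            have := hint p (a ⊗ₜ[k] b)
            rw [add_pow_char_of_commute (p := p) (h := hPQ), LinearMap.rTensor_pow, LinearMap.lTensor_pow] at this
            simpa using this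
          have hfi : ∀ (n : ℕ) (a : A), f n a = Bialgebra.counitAlgHom k A ((D.toLinearMap ^ n) a) := by
            intro n
            induction n with
            | zero => exact hf0
            | succ n ih => intro a; rw [hf, ih, pow_succ, Module.End.mul_apply]; rfl
          have hxi : Bialgebra.counitAlgHom k A x = 0 := hx
          rw [hfi, pow_succ, hder, map_add, map_mul, map_mul, map_pow (Bialgebra.counitAlgHom k A) x i, hxi,
            zero_pow (show i ≠ 0 by omega), mul_zero, zero_mul, add_zero]
      rw [show v j = 0 from ?_, zero_smul]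
      by_contra hvj
      classical
      obtain ⟨i, hi, hmax⟩ := (Finset.univ.filter fun l : Fin p => (l : ℕ) ≠ 1 ∧ v l ≠ 0).exists_maximal
        ⟨j, Finset.mem_filter.2 ⟨Finset.mem_univ _, fun h => hj (Fin.ext h), hvj⟩⟩
      obtain ⟨hi1, hvi⟩ := (Finset.mem_filter.1 hi).2
      have := hsum i hi1 i.2
      rw [Finset.sum_eq_single i] at this
      · simp only [f, (htri i).2] at this
        exact hvi ((mul_eq_zero.1 this).resolve_right (hfact i i.2))
      · intro l _ hli
        rcases lt_or_gt_of_ne hli with h | h
        · simp only [f]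
          rw [(htri l).1, mul_zero]
          exact Ideal.pow_le_pow_right (Fin.lt_def.1 h) (Ideal.pow_mem_pow hx i)
        · by_cases hl1 : (l : ℕ) = 1
          · have hi0 : (i : ℕ) = 0 := by have := Fin.lt_def.1 h; omega
            rw [hi0, pow_zero, hl1]
            simp only [f, pow_one, show ξ 1 = 0 by simpa using hξ 1 1, mul_zero]
          · by_cases hvl : v l = 0
            · rw [hvl, zero_mul]
            · exact absurd (hmax (Finset.mem_filter.2 ⟨Finset.mem_univ _, hl1, hvl⟩) h.le) (not_le.2 h)
      · simp
    exact ⟨v ⟨1, hp.one_lt⟩, WithConv.ext (by simpa [f] using hfp)⟩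
  -- elements dual to the powers
  have hdual : ∀ y : Fin p → k, ∃ a : A, ∀ i : Fin p, f i a = y i := by
    intro y
    let E : A →ₗ[k] (Fin p → k) := LinearMap.pi fun i => f i
    have hinj : Function.Injective E := by
      rw [← LinearMap.ker_eq_bot, LinearMap.ker_eq_bot']
      intro a ha
      rw [← Module.forall_dual_apply_eq_zero_iff k]
      intro g
      have hg : g ∈ Submodule.span k (Set.range fun i : Fin p => f i) := hspan ▸ Submodule.mem_top
      induction hg using Submodule.span_induction with
      | mem g hg => obtain ⟨i, rfl⟩ := hg; exact congrFun ha i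
      | zero => rfl
      | add g g' _ _ hg hg' => rw [LinearMap.add_apply, hg, hg', add_zero]
      | smul c g _ hg => rw [LinearMap.smul_apply, hg, smul_zero]
    obtain ⟨a, ha⟩ := (LinearMap.injective_iff_surjective_of_finrank_eq_finrank (f := E)
      (by rw [hA, Module.finrank_fin_fun])).1 hinj y
    exact ⟨a, congrFun ha⟩
  have hpair : ∀ (i j : ℕ) (a : A), f (i + j) a =
      LinearMap.mul' k k (TensorProduct.map (f i) (f j) (Coalgebra.comul (R := k) a)) := by
    intro i j a
    simp only [f]
    rw [pow_add, LinearMap.convMul_apply]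
  rcases eq_or_ne c 0 with rfl | hcne
  · right
    obtain ⟨x0, hx0⟩ := hdual fun i => if (i : ℕ) = 1 then 1 else 0
    have hall : ∀ i : ℕ, f i x0 = if i = 1 then 1 else 0 := by
      intro i
      by_cases hi : i < p
      · exact hx0 ⟨i, hi⟩
      · obtain ⟨j, rfl⟩ := Nat.exists_eq_add_of_le (not_lt.1 hi)
        simp only [f]
        rw [pow_add, hcp, zero_smul, zero_mul, if_neg (by have := hp.two_le; omega)]
        rfl
    have hΔ0 : Coalgebra.comul (R := k) x0 = x0 ⊗ₜ[k] 1 + 1 ⊗ₜ[k] x0 := by
      refine eq_of_pairing (fun i : Fin p => f i) hspan _ _ fun i j => ?_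
      rw [← hpair, hall, map_add, map_add, TensorProduct.map_tmul, TensorProduct.map_tmul,
        LinearMap.mul'_apply, LinearMap.mul'_apply, hall, hall]
      have h1 : ∀ l : ℕ, f l 1 = if l = 0 then 1 else 0 := by
        intro l
        rcases l with _ | l
        · simp [hf0]
        · rw [hf, D.map_one_eq_zero, map_zero, if_neg (Nat.succ_ne_zero l)]
      rw [h1, h1]
      split_ifs <;> first | (exfalso; omega) | simp
    have hε0 : Bialgebra.counitAlgHom k A x0 = 0 := by rw [← hf0, hall, if_neg zero_ne_one]
    have hDx : D x0 = 1 := by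
      change TensorProduct.rid k A (ξ.lTensor A (Coalgebra.comul (R := k) x0)) = 1
      have hξ1 : ξ 1 = 0 := by simpa using hξ 1 1
      have hξ0 : ξ x0 = 1 := by simpa [f] using hall 1
      rw [hΔ0]
      simp [hξ1, hξ0]
    have hpow0 : x0 ^ p = 0 := by
      have := Ideal.pow_mem_pow (show x0 ∈ m from hε0) p
      rwa [hnil, Ideal.mem_bot] at this
    let Φ : AlphaP.A p k →ₐ[k] A := AlphaP.lift p k x0 hpow0
    have hinjΦ : Function.Injective Φ := by
      rw [injective_iff_map_eq_zero]
      intro a ha
      have e := (AlphaP.basis p k).sum_repr a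
      rw [← e] at ha ⊢
      simp only [map_sum, map_smul, AlphaP.basis_apply, map_pow, Φ, AlphaP.lift_x] at ha
      have h1 := eq_zero_of_sum_mul_pow_eq_zero D x0 hDx p
        (fun j hj hjp => by rw [Ne, CharP.cast_eq_zero_iff k p]; exact Nat.not_dvd_of_pos_of_lt hj hjp) p le_rfl
        (fun j => if h : j < p then algebraMap k A ((AlphaP.basis p k).repr a ⟨j, h⟩) else 0)
        (fun j => by split_ifs <;> simp) (by
          rw [Finset.sum_range (fun j => (if h : j < p then
            algebraMap k A ((AlphaP.basis p k).repr a ⟨j, h⟩) else 0) * x0 ^ j)]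
          simpa [Algebra.smul_def] using ha)
      refine Finset.sum_eq_zero fun j _ => ?_
      have := h1 j j.2
      rw [dif_pos j.2, map_eq_zero_iff _ (algebraMap k A).injective] at this
      rw [this, zero_smul]
    have hbij : Function.Bijective Φ := ⟨hinjΦ, (LinearMap.injective_iff_surjective_of_finrank_eq_finrank
      (f := Φ.toLinearMap) (by rw [AlphaP.finrank_eq, hA])).1 hinjΦ⟩
    refine ⟨(BialgEquiv.ofAlgEquiv (AlgEquiv.ofBijective Φ hbij) ?_ ?_).symm⟩
    · apply AlphaP.algHom_ext
      change Bialgebra.counitAlgHom k A (Φ (AlphaP.x p k)) = _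
      rw [AlphaP.lift_x, hε0]
      exact (AlphaP.counit_x p k).symm
    · apply AlphaP.algHom_ext
      change Algebra.TensorProduct.map Φ Φ (Coalgebra.comul (R := k) (AlphaP.x p k)) =
        Coalgebra.comul (R := k) (Φ (AlphaP.x p k))
      rw [AlphaP.comul_x, AlphaP.lift_x, hΔ0]
      simp [Φ]
  · left
    obtain ⟨s, hs⟩ := IsAlgClosed.exists_pow_nat_eq c⁻¹ (show 0 < p - 1 by have := hp.two_le; omega)
    have hs0 : s ≠ 0 := by
      rintro rfl
      rw [zero_pow (by have := hp.two_le; omega)] at hs
      exact inv_ne_zero hcne hs.symm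
    have hnorm : ∀ i : ℕ, (toConv (s • ξ)) ^ i = s ^ i • (toConv ξ) ^ i := fun i => by
      rw [WithConv.toConv_smul, smul_pow]
    have hper : (toConv (s • ξ)) ^ p = toConv (s • ξ) := by
      rw [hnorm, hcp, smul_smul, WithConv.toConv_smul]
      congr 1
      rw [show s ^ p = s ^ (p - 1) * s by rw [← pow_succ, Nat.sub_add_cancel hp.one_le], hs]
      field_simp
    obtain ⟨t, ht⟩ := hdual fun i => (s ^ (i : ℕ))⁻¹
    have hlow : ∀ i : ℕ, i < p → ((toConv (s • ξ)) ^ i).ofConv t = 1 := fun i hi => by
      rw [hnorm, WithConv.ofConv_smul, LinearMap.smul_apply,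
        show ((toConv ξ) ^ i).ofConv t = (s ^ i)⁻¹ from ht ⟨i, hi⟩, smul_eq_mul,
        mul_inv_cancel₀ (pow_ne_zero i hs0)]
    have hall : ∀ i : ℕ, ((toConv (s • ξ)) ^ i).ofConv t = 1 := by
      intro i
      induction i using Nat.strong_induction_on with
      | _ i ih =>
        by_cases hi : i < p
        · exact hlow i hi
        · obtain ⟨j, rfl⟩ := Nat.exists_eq_add_of_le (not_lt.1 hi)
          rw [pow_add, hper, ← pow_succ']
          exact ih (j + 1) (by have := hp.two_le; omega)
    have hall' : ∀ i : ℕ, f i t = (s ^ i)⁻¹ := fun i => by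
      have := hall i
      rw [hnorm, WithConv.ofConv_smul, LinearMap.smul_apply, smul_eq_mul] at this
      exact eq_inv_of_mul_eq_one_right this
    have hΔt : Coalgebra.comul (R := k) t = t ⊗ₜ[k] t := by
      refine eq_of_pairing (fun i : Fin p => f i) hspan _ _ fun i j => ?_
      rw [← hpair, hall', TensorProduct.map_tmul, LinearMap.mul'_apply, hall', hall', pow_add, mul_inv]
    have hεt : Bialgebra.counitAlgHom k A t = 1 := by rw [← hf0, hall', pow_zero, inv_one]
    have ht1 : t ^ p = 1 := by
      haveI : CharP A p := charP_of_injective_algebraMap (algebraMap k A).injective p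
      have h := Ideal.pow_mem_pow (sub_algebraMap_mem (Bialgebra.counitAlgHom k A) t) p
      rw [hnil, Ideal.mem_bot, hεt, map_one, sub_pow_char, one_pow, sub_eq_zero] at h
      exact h
    have hgt : IsGroupLikeElem k t := ⟨hεt, hΔt⟩
    let μ : Multiplicative (ZMod p) →* A :=
      { toFun := fun a => t ^ (Multiplicative.toAdd a).val
        map_one' := by simp
        map_mul' := fun a b => by
          rw [← pow_add]
          refine pow_eq_pow_of_modEq ?_ ht1
          change (Multiplicative.toAdd a + Multiplicative.toAdd b).val % p = _ % p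
          rw [ZMod.val_add, Nat.mod_mod] }
    let Φ : MonoidAlgebra k (Multiplicative (ZMod p)) →ₐ[k] A := MonoidAlgebra.lift k A _ μ
    have hgl : ∀ a, IsGroupLikeElem k (μ a) := fun a => hgt.pow
    have hμinj : Function.Injective μ := by
      intro a b hab
      apply Multiplicative.toAdd.injective
      have h1 : ξ (μ a) = ξ (μ b) := by rw [hab]
      have hξpow : ∀ n : ℕ, ξ (t ^ n) = n * ξ t := by
        intro n
        induction n with
        | zero => simpa using hξ 1 1
        | succ n ih =>
          rw [pow_succ, hξ, ih, map_pow, hεt, one_pow, one_mul, one_mul, Nat.cast_succ]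
          ring
      have hξt : ξ t ≠ 0 := by
        have : f 1 t = (s ^ 1)⁻¹ := hall' 1
        simp only [f, pow_one] at this
        rw [this]
        exact inv_ne_zero hs0
      change ξ (t ^ _) = ξ (t ^ _) at h1
      rw [hξpow, hξpow] at h1
      have h2 := (CharP.natCast_eq_natCast k p).1 (mul_right_cancel₀ hξt h1)
      have h3 : (((Multiplicative.toAdd a).val : ℕ) : ZMod p) = ((Multiplicative.toAdd b).val : ℕ) :=
        (ZMod.natCast_eq_natCast_iff _ _ _).2 h2
      simpa using h3
    have hinjΦ : Function.Injective Φ := by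
      have hμli : LinearIndependent k fun a => μ a :=
        (linearIndepOn_isGroupLikeElem (R := k) (A := A)).comp (fun a => (⟨μ a, hgl a⟩ : {z : A // IsGroupLikeElem k z}))
          fun a b h => hμinj (congrArg Subtype.val h)
      rw [injective_iff_map_eq_zero]
      intro z hz
      let Bz := MonoidAlgebra.basis (Multiplicative (ZMod p)) k
      rw [← Bz.sum_repr z] at hz ⊢
      simp only [map_sum, map_smul] at hz
      have h1 := Fintype.linearIndependent_iff.1 hμli (fun g => Bz.repr z g) (by simpa [Bz, Φ] using hz)
      exact Finset.sum_eq_zero fun g _ => by rw [h1 g, zero_smul]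
    have hbij : Function.Bijective Φ := ⟨hinjΦ, (LinearMap.injective_iff_surjective_of_finrank_eq_finrank
      (f := Φ.toLinearMap) (by rw [hA, Module.finrank_eq_card_basis (MonoidAlgebra.basis (Multiplicative (ZMod p)) k)]; simp)).1 hinjΦ⟩
    refine ⟨(BialgEquiv.ofAlgEquiv (AlgEquiv.ofBijective Φ hbij) ?_ ?_).symm⟩
    · refine MonoidAlgebra.algHom_ext (fun a => ?_) (by ext)
      change Bialgebra.counitAlgHom k A (Φ (MonoidAlgebra.single a 1)) = _
      simp [Φ, μ, show Coalgebra.counit (R := k) t = 1 from hεt]
    · refine MonoidAlgebra.algHom_ext (fun a => ?_) (by ext)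
      change Algebra.TensorProduct.map Φ Φ (Coalgebra.comul (R := k) (MonoidAlgebra.single a (1 : k))) =
        Coalgebra.comul (R := k) (Φ (MonoidAlgebra.single a 1))
      simp [Φ, (hgl a).comul_eq_tmul_self]

end Groth.Agent.FinHopf
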