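import Groth.Agent.FinHopf.EigenRank
import Groth.Agent.FinHopf.EigenDual

/-! Oort-Tate: products in the dual pair with products through a universal constant. -/

set_option autoImplicit false
universe u

open TensorProduct WithConv

noncomputable section

namespace Groth.Agent.FinHopf

variable {R : Type u} [CommRing R]

theorem eq_zero_of_locally {M : Type*} [AddCommGroup M] [Module R M] {m : M}
    (h : ∀ q : Ideal R, q.IsPrime → ∃ s ∉ q, s • m = 0) : m = 0 := by
  by_contra hne
  obtain ⟨q, hq, hle⟩ := Ideal.exists_le_maximal (Submodule.span R {m}).annihilator (by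
    intro h'
    rw [Submodule.annihilator_eq_top_iff, Submodule.span_singleton_eq_bot] at h'
    exact hne h')
  obtain ⟨s, hs, hs0⟩ := h q hq.isPrime
  exact hs (hle ((Submodule.mem_annihilator_span_singleton _ _).2 hs0))

section Group

variable (R)
variable {p : ℕ} [Fact p.Prime] {χ : (ZMod p)ˣ →* Rˣ}

theorem powConv_of (n : ℕ) (g : Multiplicative (ZMod p)) :
    SGA3b.powConv R (MonoidAlgebra R (Multiplicative (ZMod p))) n (MonoidAlgebra.of R _ g) =
      MonoidAlgebra.of R _ (g ^ n) := by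
  induction n with
  | zero =>
    rw [powConv_apply, pow_zero, AlgHom.convOne_apply, pow_zero, map_one]
    simp [MonoidAlgebra.of_apply, MonoidAlgebra.one_def]
  | succ n ih =>
    rw [powConv_apply, pow_succ, AlgHom.convMul_apply, pow_succ, map_mul, ← ih, powConv_apply]
    simp [MonoidAlgebra.of_apply]

theorem convPow_group :
    (toConv (AlgHom.id R (MonoidAlgebra R (Multiplicative (ZMod p))))) ^ p = 1 := by
  refine WithConv.ext (MonoidAlgebra.algHom_ext (fun g => ?_) (by ext))
  rw [← MonoidAlgebra.of_apply]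
  rw [← powConv_apply, powConv_of, AlgHom.convOne_apply]
  have : g ^ p = 1 := Multiplicative.ext (by simp)
  rw [this, map_one]
  simp [MonoidAlgebra.of_apply, MonoidAlgebra.one_def]

theorem muT_pow (k : ZMod p) :
    OortTate.muT R p ^ k.val = MonoidAlgebra.of R (Multiplicative (ZMod p)) (Multiplicative.ofAdd k) := by
  rw [← map_pow]
  congr 1
  exact Multiplicative.ext (by simp)

theorem counit_of (g : Multiplicative (ZMod p)) :
    Bialgebra.counitAlgHom R (MonoidAlgebra R (Multiplicative (ZMod p))) (MonoidAlgebra.of R _ g) = 1 := by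
  simp [MonoidAlgebra.of_apply]

theorem counit_muT_sub_one :
    Bialgebra.counitAlgHom R (MonoidAlgebra R (Multiplicative (ZMod p))) (OortTate.muT R p - 1) = 0 := by
  rw [map_sub, counit_of, map_one, sub_self]

theorem ygen_mem (u : R) (i : ℕ) :
    OortTate.ygen R p u χ i ∈ OortTate.eigenAug R (MonoidAlgebra R (Multiplicative (ZMod p))) p χ i :=
  proj_mem (convPow_group R) u i (counit_muT_sub_one R)

/-- In the group algebra the powers of `y₁` are multiples of the `yₜ`. -/
theorem exists_ygen_pow {u : R} (hu : u * ((p - 1 : ℕ) : R) = 1)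
    (hχ : ∀ m : (ZMod p)ˣ, m ≠ 1 → IsUnit ((χ m : R) - 1)) (t : ℕ) (ht : 1 ≤ t) :
    ∃ w : R, OortTate.ygen R p u χ 1 ^ t = w • OortTate.ygen R p u χ t := by
  let M := MonoidAlgebra R (Multiplicative (ZMod p))
  have hf : OortTate.ygen R p u χ 1 ^ t ∈ OortTate.eigenAug R M p χ t :=
    pow_mem_eigenAug (ygen_mem R u 1) t ht
  have h1 := proj_of_mem hχ hu (i := t) hf
  rw [if_pos rfl] at h1
  rw [← h1]
  generalize hx : OortTate.ygen R p u χ 1 ^ t = x at hf
  have key : ∀ y : M, ∃ w : R, OortTate.proj R M p u χ t (y - algebraMap R M (Bialgebra.counitAlgHom R M y)) =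
      w • OortTate.ygen R p u χ t := by
    intro y
    induction y using MonoidAlgebra.induction_on with
    | of g =>
      rw [counit_of, map_one]
      by_cases hg : Multiplicative.toAdd g = 0
      · have : g = 1 := Multiplicative.ext hg
        exact ⟨0, by rw [this, map_one, sub_self, map_zero, zero_smul]⟩
      · obtain ⟨m, hm⟩ := (isUnit_iff_ne_zero.2 hg : IsUnit (Multiplicative.toAdd g))
        refine ⟨((χ m : Rˣ) : R) ^ t, ?_⟩
        have e : MonoidAlgebra.of R _ g - 1 = SGA3b.powConv R M (m : ZMod p).val (OortTate.muT R p - 1) := by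
          rw [map_sub, map_one, powConv_of, ← ofAdd_nsmul]
          congr 2
          exact Multiplicative.ext (by simp [hm])
        rw [e, ← (mem_eigenAug.1 (ygen_mem R u t)).2 m]
        simp only [OortTate.ygen, proj_apply, map_smul, map_sum]
        refine congrArg (u • ·) (Finset.sum_congr rfl fun m' _ => ?_)
        rw [powConv_units_comp (convPow_group R), powConv_units_comp (convPow_group R), mul_comm]
    | add a b ha hb =>
      obtain ⟨w1, h1⟩ := ha
      obtain ⟨w2, h2⟩ := hb
      exact ⟨w1 + w2, by rw [map_add, map_add, add_sub_add_comm, map_add, h1, h2, add_smul]⟩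
    | smul r a ha =>
      obtain ⟨w, h⟩ := ha
      exact ⟨r * w, by rw [map_smul, Algebra.algebraMap_eq_smul_one, smul_assoc, ← smul_sub, map_smul,
        ← Algebra.algebraMap_eq_smul_one, h, mul_smul]⟩
  obtain ⟨w, hw⟩ := key x
  rw [(mem_eigenAug.1 hf).1, map_zero, sub_zero] at hw
  exact ⟨w, hw⟩

end Group

variable {p : ℕ} [Fact p.Prime] {χ : (ZMod p)ˣ →* Rˣ}
  {A : Type u} [CommRing A] [HopfAlgebra R A]

/-- `proj_i` after the projection to the augmentation ideal. -/
def projPi (u : R) (χ : (ZMod p)ˣ →* Rˣ) (A : Type u) [CommRing A] [HopfAlgebra R A] (i : ℕ) :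
    WithConv (A →ₗ[R] A) :=
  toConv ((OortTate.proj R A p u χ i).comp
    (LinearMap.id - (Algebra.linearMap R A).comp (Bialgebra.counitAlgHom R A).toLinearMap))

theorem projPi_apply (u : R) (i : ℕ) (a : A) : (projPi u χ A i).ofConv a =
    OortTate.proj R A p u χ i (a - algebraMap R A (Bialgebra.counitAlgHom R A a)) := rfl

theorem projPi_of_mem {u : R} (hu : u * ((p - 1 : ℕ) : R) = 1)
    (hχ : ∀ m : (ZMod p)ˣ, m ≠ 1 → IsUnit ((χ m : R) - 1)) {i : ℕ} {a : A}
    (ha : a ∈ OortTate.eigenAug R A p χ i) : (projPi u χ A i).ofConv a = a := by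
  rw [projPi_apply, (mem_eigenAug.1 ha).1, map_zero, sub_zero, proj_of_mem hχ hu ha, if_pos rfl]

/-- An algebra map sending `T` to the identity sends `yᵢ` to `projPi`. -/
theorem map_ygen (Φ : MonoidAlgebra R (Multiplicative (ZMod p)) →ₐ[R] WithConv (A →ₗ[R] A))
    (hΦ : Φ (OortTate.muT R p) = toConv LinearMap.id) (u : R) (i : ℕ) :
    Φ (OortTate.ygen R p u χ i) = projPi u χ A i := by
  have hn : ∀ (n : ℕ) (a : A), (Φ (OortTate.muT R p ^ n)).ofConv a = SGA3b.powConv R A n a := by
    intro n a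
    rw [map_pow, hΦ, powConv_apply, show toConv (LinearMap.id : A →ₗ[R] A) = toLin (toConv (AlgHom.id R A)) from rfl,
      ← map_pow]
    rfl
  have hterm : ∀ (n : ℕ) (a : A),
      (Φ (SGA3b.powConv R (MonoidAlgebra R (Multiplicative (ZMod p))) n (OortTate.muT R p - 1))).ofConv a =
        SGA3b.powConv R A n (a - algebraMap R A (Bialgebra.counitAlgHom R A a)) := by
    intro n a
    rw [map_sub (SGA3b.powConv R (MonoidAlgebra R (Multiplicative (ZMod p))) n), powConv_of,
      map_one (SGA3b.powConv R (MonoidAlgebra R (Multiplicative (ZMod p))) n), 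
      map_sub Φ, map_one Φ, WithConv.ofConv_sub, LinearMap.sub_apply,
      show MonoidAlgebra.of R (Multiplicative (ZMod p)) (Multiplicative.ofAdd 1 ^ n) = OortTate.muT R p ^ n from
        map_pow _ _ _, hn, map_sub, AlgHom.commutes,
      LinearMap.convOne_apply]
    rfl
  refine WithConv.ext (LinearMap.ext fun a => ?_)
  rw [projPi_apply, proj_apply, OortTate.ygen, proj_apply]
  simp only [map_smul, map_sum, WithConv.ofConv_smul, WithConv.ofConv_sum, LinearMap.smul_apply,
    LinearMap.sum_apply, hterm]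

/-- The convolution powers of the identity as a representation of `ℤ/p`. -/
def groupToEnd (hp : (toConv (AlgHom.id R A)) ^ p = 1) :
    MonoidAlgebra R (Multiplicative (ZMod p)) →ₐ[R] WithConv (A →ₗ[R] A) :=
  MonoidAlgebra.lift R (WithConv (A →ₗ[R] A)) (Multiplicative (ZMod p))
    { toFun := fun k => toLin ((toConv (AlgHom.id R A)) ^ (Multiplicative.toAdd k).val)
      map_one' := by simp
      map_mul' := fun k l => by
        rw [← map_mul, ← pow_add, toAdd_mul, ZMod.val_add, ← pow_eq_pow_mod _ hp] }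

theorem groupToEnd_muT (hp : (toConv (AlgHom.id R A)) ^ p = 1) :
    groupToEnd hp (OortTate.muT R p) = toConv LinearMap.id := by
  rw [groupToEnd, MonoidAlgebra.lift_of]
  simp only [MonoidHom.coe_mk, OneHom.coe_mk, toAdd_ofAdd]
  rw [ZMod.val_one, pow_one]
  rfl

theorem projPi_pow (hp : (toConv (AlgHom.id R A)) ^ p = 1) {u : R} {t : ℕ} {w : R}
    (hw : OortTate.ygen R p u χ 1 ^ t = w • OortTate.ygen R p u χ t) :
    projPi u χ A 1 ^ t = w • projPi u χ A t := by
  have e := congrArg (groupToEnd hp) hw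
  rwa [map_pow, map_smul, map_ygen _ (groupToEnd_muT hp), map_ygen _ (groupToEnd_muT hp)] at e

section Dual

variable [Coalgebra.IsCocomm R A] [Module.Finite R A] [Module.Projective R A]

variable (R A) in
/-- `a ⊗ f ↦ (x ↦ f x • a)`. -/
def tensHomLin : A ⊗[R] CartDual.D R A →ₗ[R] WithConv (A →ₗ[R] A) :=
  (WithConv.linearEquiv R (A →ₗ[R] A)).symm.toLinearMap ∘ₗ dualTensorHom R A A ∘ₗ
    (LinearMap.rTensor A (CartDual.toDual R A).toLinearMap) ∘ₗ (TensorProduct.comm R A (CartDual.D R A)).toLinearMap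

theorem tensHomLin_tmul (a : A) (f : CartDual.D R A) (x : A) :
    (tensHomLin R A (a ⊗ₜ f)).ofConv x = f.ofConv x • a := by
  simp [tensHomLin]

theorem tensHomLin_bijective : Function.Bijective (tensHomLin R A) := by
  refine (WithConv.linearEquiv R (A →ₗ[R] A)).symm.bijective.comp ((dualTensorHom_bijective (R := R) (M := A) (N := A)).comp ?_)
  exact (LinearEquiv.rTensor A (CartDual.toDual R A)).bijective.comp (TensorProduct.comm R A _).bijective

theorem tensHomLin_mul (a b : A) (f g : CartDual.D R A) :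
    tensHomLin R A ((a * b) ⊗ₜ (f * g)) = tensHomLin R A (a ⊗ₜ f) * tensHomLin R A (b ⊗ₜ g) := by
  refine WithConv.ext (LinearMap.ext fun x => ?_)
  rw [tensHomLin_tmul, LinearMap.convMul_apply, LinearMap.convMul_apply]
  generalize Coalgebra.comul (R := R) x = X
  induction X using TensorProduct.induction_on with
  | zero => simp
  | add X Y hX hY => simp only [map_add, add_smul, hX, hY]
  | tmul x y => simp only [TensorProduct.map_tmul, LinearMap.mul'_apply, tensHomLin_tmul, smul_mul_smul_comm]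

variable (R A) in
/-- `a ⊗ f ↦ (x ↦ f x • a)` as an algebra map to the convolution algebra. -/
def tensHom : A ⊗[R] CartDual.D R A →ₐ[R] WithConv (A →ₗ[R] A) :=
  Algebra.TensorProduct.algHomOfLinearMapTensorProduct (tensHomLin R A) tensHomLin_mul (by
    refine WithConv.ext (LinearMap.ext fun x => ?_)
    rw [tensHomLin_tmul, LinearMap.convOne_apply, LinearMap.convOne_apply,
      Algebra.algebraMap_self_apply, ← Algebra.algebraMap_eq_smul_one])

theorem tensHom_tmul (a : A) (f : CartDual.D R A) (x : A) :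
    (tensHom R A (a ⊗ₜ f)).ofConv x = f.ofConv x • a :=
  tensHomLin_tmul a f x

theorem tensHom_bijective : Function.Bijective (tensHom R A) := tensHomLin_bijective

theorem dual_eval_projPi {u : R} (hu : u * ((p - 1 : ℕ) : R) = 1)
    (hχ : ∀ m : (ZMod p)ˣ, m ≠ 1 → IsUnit ((χ m : R) - 1)) {i : ℕ} {f : CartDual.D R A}
    (hf : f ∈ OortTate.eigenAug R (CartDual.D R A) p χ i) (a : A) :
    f.ofConv a = f.ofConv ((projPi u χ A i).ofConv a) := by
  have h1 := proj_of_mem hχ hu (i := i) hf
  rw [if_pos rfl] at h1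
  have h2 : f.ofConv 1 = 0 := (mem_eigenAug.1 hf).1
  rw [projPi_apply, ← proj_dual, h1, map_sub, Algebra.algebraMap_eq_smul_one, map_smul, h2, smul_zero, sub_zero]

section
variable {u : R} (hu : u * ((p - 1 : ℕ) : R) = 1)
  (hχ : ∀ m : (ZMod p)ˣ, m ≠ 1 → IsUnit ((χ m : R) - 1))
  (hχp : ∀ m : (ZMod p)ˣ, ((χ m : Rˣ) : R) - (((m : ZMod p).val : ℕ) : R) ∈ Ideal.span ({(p : R)} : Set R))
  (hrk : ∀ q : PrimeSpectrum R, Module.rankAtStalk A q = p)
include hu hχ hχp hrk

/-- In a line, `f w • z = f z • w`. -/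
theorem eigen_one_swap (f : A →ₗ[R] R) {w z : A} (hw : w ∈ OortTate.eigenAug R A p χ 1)
    (hz : z ∈ OortTate.eigenAug R A p χ 1) : f w • z = f z • w := by
  rw [← sub_eq_zero]
  refine eq_zero_of_locally (R := R) fun q hq => ?_
  haveI := hq
  have hp1 : 1 ≤ p - 1 := by have := (Fact.out : p.Prime).two_le; omega
  obtain ⟨y, hy⟩ := exists_isLocalGen (A := A) hu hχ hχp hrk q
  obtain ⟨s1, hs1, c, hc⟩ := hy.eigen hu hχ le_rfl hp1 hw
  obtain ⟨s2, hs2, d, hd⟩ := hy.eigen hu hχ le_rfl hp1 hz
  refine ⟨s1 * s2, fun h => (hq.mem_or_mem h).elim hs1 hs2, ?_⟩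
  have e1 : s1 * f w = c * f (y ^ 1) := by rw [← smul_eq_mul, ← map_smul, hc, map_smul, smul_eq_mul]
  have e2 : s2 * f z = d * f (y ^ 1) := by rw [← smul_eq_mul, ← map_smul, hd, map_smul, smul_eq_mul]
  rw [smul_sub, smul_smul, smul_smul, show s1 * s2 * f w = (s1 * f w) * s2 by ring,
    show s1 * s2 * f z = (s2 * f z) * s1 by ring, mul_smul (s1 * f w), mul_smul (s2 * f z), hd, hc, e1, e2,
    smul_smul, smul_smul, sub_eq_zero]
  congr 1
  ring

theorem tensHom_eigen {z : A} (hz : z ∈ OortTate.eigenAug R A p χ 1) {f : CartDual.D R A}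
    (hf : f ∈ OortTate.eigenAug R (CartDual.D R A) p χ 1) :
    tensHom R A (z ⊗ₜ f) = f.ofConv z • projPi u χ A 1 := by
  refine WithConv.ext (LinearMap.ext fun a => ?_)
  rw [tensHom_tmul, dual_eval_projPi hu hχ hf a, WithConv.ofConv_smul, LinearMap.smul_apply]
  exact eigen_one_swap hu hχ hχp hrk _ (proj_mem (convPow_eq_one_of_prime hrk) u 1
    (by rw [← RingHom.mem_ker]; exact sub_algebraMap_mem' a)) hz

theorem projPi_mem_range : projPi u χ A 1 ∈ (LinearMap.range (TensorProduct.map
    (OortTate.eigenAug R A p χ 1).subtype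
    (OortTate.eigenAug R (CartDual.D R A) p χ 1).subtype)).map (tensHom R A).toLinearMap := by
  haveI := eigenAug_projective (χ := χ) (A := A) hu hχ hrk 1
  haveI := eigenAug_finite (χ := χ) (A := A) hu hχ hrk 1
  obtain ⟨n, π, hπ⟩ := Module.Finite.exists_fin' R (OortTate.eigenAug R A p χ 1)
  obtain ⟨σ, hσ⟩ := Module.projective_lifting_property π LinearMap.id hπ
  have hp := convPow_eq_one_of_prime (A := A) hrk
  choose f hf using fun j : Fin n =>
    (dual_eigen_bijective (A := A) hu hχ hp 1).2 ((LinearMap.proj j).comp σ)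
  refine ⟨∑ j, ((π (Pi.single j 1) : OortTate.eigenAug R A p χ 1) : A) ⊗ₜ (f j : CartDual.D R A),
    Submodule.sum_mem _ fun j _ => ⟨π (Pi.single j 1) ⊗ₜ f j, rfl⟩,
    WithConv.ext (LinearMap.ext fun a => ?_)⟩
  change (tensHom R A _).ofConv a = _
  rw [map_sum, WithConv.ofConv_sum, LinearMap.sum_apply]
  let v : OortTate.eigenAug R A p χ 1 := ⟨(projPi u χ A 1).ofConv a,
    proj_mem hp u 1 (by rw [← RingHom.mem_ker]; exact sub_algebraMap_mem' a)⟩
  have hj : ∀ j, (f j : CartDual.D R A).ofConv a = σ v j := by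
    intro j
    rw [dual_eval_projPi hu hχ (f j).2]
    exact LinearMap.congr_fun (hf j) v
  have hv : ∑ j, σ v j • π (Pi.single j 1) = v := by
    conv_rhs => rw [← LinearMap.id_apply (R := R) v, ← hσ, LinearMap.comp_apply, pi_eq_sum_univ' (σ v)]
    simp only [map_sum, map_smul]
  have hv' := congrArg (fun z : OortTate.eigenAug R A p χ 1 => (z : A)) hv
  simp only [Submodule.coe_sum, SetLike.val_smul] at hv'
  simp only [tensHom_tmul, hj]
  exact hv'

/-- Products of `t` first eigenvectors pair with products of their duals by a universal constant. -/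
theorem pairing {t : ℕ} (ht1 : 1 ≤ t) (ht : t ≤ p - 1) {w : R}
    (hw : OortTate.ygen R p u χ 1 ^ t = w • OortTate.ygen R p u χ t)
    (f : Fin t → CartDual.D R A) (hf : ∀ i, f i ∈ OortTate.eigenAug R (CartDual.D R A) p χ 1)
    (z : Fin t → A) (hz : ∀ i, z i ∈ OortTate.eigenAug R A p χ 1) :
    (∏ i, f i).ofConv (∏ i, z i) = w * ∏ i, (f i).ofConv (z i) := by
  rw [← sub_eq_zero]
  refine eq_zero_of_locally (R := R) fun q hq => ?_
  haveI := hq
  have hp := (Fact.out : p.Prime).two_le
  have hp1 : 1 ≤ p - 1 := by omega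
  obtain ⟨y, hy⟩ := exists_isLocalGen (A := A) hu hχ hχp hrk q
  -- the case of a generator
  have hgen : tensHom R A ((∏ _i : Fin t, y) ⊗ₜ ∏ i, f i) =
      (∏ i, (f i).ofConv y) • w • projPi u χ A t := by
    rw [← projPi_pow (convPow_eq_one_of_prime hrk) hw]
    clear hz hw ht1 ht z
    induction t with
    | zero =>
      refine WithConv.ext (LinearMap.ext fun x => ?_)
      rw [tensHom_tmul, Finset.univ_eq_empty, Finset.prod_empty, Finset.prod_empty, Finset.prod_empty, one_smul,
        pow_zero, LinearMap.convOne_apply, LinearMap.convOne_apply, Algebra.algebraMap_self_apply,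
        ← Algebra.algebraMap_eq_smul_one]
    | succ t ih =>
      rw [Fin.prod_univ_succ, Fin.prod_univ_succ, Fin.prod_univ_succ (fun i => (f i).ofConv y), pow_succ']
      change tensHomLin R A _ = _
      rw [tensHomLin_mul]
      change tensHom R A _ * tensHom R A _ = _
      rw [tensHom_eigen hu hχ hχp hrk hy.mem (hf 0), ih (fun i => f i.succ) (fun i => hf i.succ),
        smul_mul_smul_comm]
  have e := congrArg (fun g : WithConv (A →ₗ[R] A) => g.ofConv (y ^ t)) hgen
  simp only [tensHom_tmul, Finset.prod_const, Finset.card_univ, Fintype.card_fin, WithConv.ofConv_smul,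
    LinearMap.smul_apply, projPi_of_mem hu hχ (pow_mem_eigenAug hy.mem t ht1), smul_smul] at e
  rw [← sub_eq_zero, ← sub_smul] at e
  obtain ⟨s0, hs0, h0⟩ := hy.indep_pow (by omega) e
  -- reduce to the generator
  choose s hs c hc using fun i => hy.eigen hu hχ le_rfl hp1 (hz i)
  have hS : ∏ i, s i ∉ q := fun h => by
    obtain ⟨i, _, hi⟩ := hq.prod_mem_iff.1 h
    exact hs i hi
  refine ⟨s0 * ∏ i, s i, fun h => (hq.mem_or_mem h).elim hs0 hS, ?_⟩
  have e1 : (∏ i, s i) * (∏ i, f i).ofConv (∏ i, z i) = (∏ i, c i) * (∏ i, f i).ofConv (y ^ t) := by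
    rw [← smul_eq_mul, ← map_smul, ← Finset.prod_smul]
    simp only [hc, pow_one, Finset.prod_smul, Finset.prod_const, Finset.card_univ, Fintype.card_fin, map_smul,
      smul_eq_mul]
  have e2 : (∏ i, s i) * ∏ i, (f i).ofConv (z i) = (∏ i, c i) * ∏ i, (f i).ofConv y := by
    rw [← Finset.prod_mul_distrib, ← Finset.prod_mul_distrib]
    refine Finset.prod_congr rfl fun i _ => ?_
    rw [← smul_eq_mul, ← map_smul, hc, map_smul, smul_eq_mul, pow_one]
  rw [smul_eq_mul]
  linear_combination s0 * e1 - s0 * w * e2 + (∏ i, c i) * h0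

end

end Dual

end Groth.Agent.FinHopf
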