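import Groth.Agent.FinHopf.EigenRank

/-! Oort-Tate: the algebra is presented by the first eigenspace. -/

set_option autoImplicit false
universe u

open TensorProduct WithConv

noncomputable section

namespace Groth.Agent.FinHopf

variable {p : ℕ} [Fact p.Prime] {R : Type u} [CommRing R] {χ : (ZMod p)ˣ →* Rˣ}
  {A : Type u} [CommRing A] [HopfAlgebra R A]

/-- The multiplication map from the tensor algebra of the first eigenspace. -/
abbrev multMap (χ : (ZMod p)ˣ →* Rˣ) (A : Type u) [CommRing A] [HopfAlgebra R A] :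
    TensorAlgebra R (OortTate.eigenAug R A p χ 1) →ₐ[R] A :=
  TensorAlgebra.lift R (OortTate.eigenAug R A p χ 1).subtype

/-- The relations: products of `p` eigenvectors. -/
def relSet (χ : (ZMod p)ˣ →* Rˣ) (A : Type u) [CommRing A] [HopfAlgebra R A] :
    Set (TensorAlgebra R (OortTate.eigenAug R A p χ 1)) :=
  {x | ∃ (f : Fin p → OortTate.eigenAug R A p χ 1) (g : OortTate.eigenAug R A p χ 1),
    (g : A) = ∏ i, (f i : A) ∧
      x = (List.ofFn fun i => TensorAlgebra.ι R (f i)).prod - TensorAlgebra.ι R g}

theorem multMap_list {n : ℕ} (f : Fin n → OortTate.eigenAug R A p χ 1) :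
    multMap χ A (List.ofFn fun i => TensorAlgebra.ι R (f i)).prod = ∏ i, (f i : A) := by
  rw [map_list_prod, List.map_ofFn, List.prod_ofFn]
  simp

theorem span_relSet_le_ker : Ideal.span (relSet χ A) ≤ RingHom.ker (multMap χ A) := by
  refine Ideal.span_le.2 ?_
  rintro _ ⟨f, g, hg, rfl⟩
  change multMap χ A (_ - _) = 0
  rw [map_sub, multMap_list, TensorAlgebra.lift_ι_apply, Submodule.subtype_apply, hg, sub_self]

theorem prod_fin_mem (f : Fin p → OortTate.eigenAug R A p χ 1) :
    ∏ i, (f i : A) ∈ OortTate.eigenAug R A p χ 1 := by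
  have hp2 := (Fact.out : p.Prime).two_le
  have h : ∀ (n : ℕ), 1 ≤ n → ∀ f : Fin n → OortTate.eigenAug R A p χ 1,
      ∏ i, (f i : A) ∈ OortTate.eigenAug R A p χ n := by
    intro n hn
    induction n, hn using Nat.le_induction with
    | base => intro f; rw [Fin.prod_univ_one]; exact (f 0).2
    | succ n _ ih =>
      intro f
      rw [Fin.prod_univ_castSucc]
      exact mul_mem_eigenAug (ih _) (f _).2
  have e : OortTate.eigenAug R A p χ p = OortTate.eigenAug R A p χ 1 := by
    obtain ⟨m, hm⟩ : ∃ m, p = m + 1 := ⟨p - 1, by omega⟩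
    refine (eigenAug_mod p).trans (Eq.trans ?_ (eigenAug_mod 1).symm)
    congr 1
    subst hm
    simp
  exact (SetLike.ext_iff.1 e _).1 (h p (by omega) f)

/-- Modulo the relations everything has length less than `p`. -/
theorem mem_sup_relations (x : TensorAlgebra R (OortTate.eigenAug R A p χ 1)) :
    x ∈ (⨆ i : Fin p, (LinearMap.range (TensorAlgebra.ι R (M := OortTate.eigenAug R A p χ 1))) ^ (i : ℕ)) ⊔
      (Ideal.span (relSet χ A)).restrictScalars R := by
  let N := LinearMap.range (TensorAlgebra.ι R (M := OortTate.eigenAug R A p χ 1))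
  let S := (⨆ i : Fin p, N ^ (i : ℕ)) ⊔ (Ideal.span (relSet χ A)).restrictScalars R
  have hp2 := (Fact.out : p.Prime).two_le
  have hpow : ∀ n, N ^ n ≤ S := by
    intro n
    induction n using Nat.strong_induction_on with
    | _ n ih =>
      by_cases hn : n < p
      · exact le_sup_of_le_left (le_iSup (fun i : Fin p => N ^ (i : ℕ)) ⟨n, hn⟩)
      · obtain ⟨m, rfl⟩ := Nat.exists_eq_add_of_le' (not_lt.1 hn)
        rw [pow_add]
        refine Submodule.mul_le.2 fun a ha b hb => ?_
        rw [Submodule.pow_eq_span_pow_set] at hb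
        induction hb using Submodule.span_induction with
        | mem b hb =>
          obtain ⟨f, rfl⟩ := Set.mem_pow.1 hb
          have hf : ∀ i, ∃ z, TensorAlgebra.ι R z = (f i : TensorAlgebra R (OortTate.eigenAug R A p χ 1)) :=
            fun i => (f i).2
          choose z hz using hf
          let g : OortTate.eigenAug R A p χ 1 := ⟨∏ i, (z i : A), prod_fin_mem z⟩
          have e : (List.ofFn fun i => (f i : TensorAlgebra R (OortTate.eigenAug R A p χ 1))) =
              List.ofFn fun i => TensorAlgebra.ι R (z i) := by simp only [hz]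
          rw [e]
          have h1 : a * TensorAlgebra.ι R g ∈ S := by
            refine ih (m + 1) (by omega) ?_
            rw [pow_succ]
            exact Submodule.mul_mem_mul ha ⟨g, rfl⟩
          have h2 : a * ((List.ofFn fun i => TensorAlgebra.ι R (z i)).prod - TensorAlgebra.ι R g) ∈ S :=
            Submodule.mem_sup_right (Ideal.mul_mem_left _ a (Ideal.subset_span ⟨z, g, rfl, rfl⟩))
          have := S.add_mem h2 h1
          rwa [mul_sub, sub_add_cancel] at this
        | zero => rw [mul_zero]; exact S.zero_mem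
        | add b c _ _ hb hc => rw [mul_add]; exact S.add_mem hb hc
        | smul r b _ hb => rw [mul_smul_comm]; exact S.smul_mem r hb
  have hall : ∀ x : TensorAlgebra R (OortTate.eigenAug R A p χ 1), x ∈ ⨆ n : ℕ, N ^ n := by
    intro x
    induction x using TensorAlgebra.induction with
    | algebraMap r => exact Submodule.mem_iSup_of_mem 0 (by rw [pow_zero]; exact Submodule.algebraMap_mem r)
    | ι z => exact Submodule.mem_iSup_of_mem 1 (by rw [pow_one]; exact ⟨z, rfl⟩)
    | add a b ha hb => exact Submodule.add_mem _ ha hb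
    | mul a b ha hb =>
      have := Submodule.mul_mem_mul ha hb
      rw [Submodule.iSup_mul] at this
      simp only [Submodule.mul_iSup, ← pow_add] at this
      exact (iSup_le fun i => iSup_le fun j => le_iSup (fun n => N ^ n) (i + j) : _ ≤ ⨆ n : ℕ, N ^ n) this
  exact iSup_le hpow (hall x)

section
variable [Module.Finite R A] [Module.Projective R A]
  {u : R} (hu : u * ((p - 1 : ℕ) : R) = 1)
  (hχ : ∀ m : (ZMod p)ˣ, m ≠ 1 → IsUnit ((χ m : R) - 1))
  (hχp : ∀ m : (ZMod p)ˣ, ((χ m : Rˣ) : R) - (((m : ZMod p).val : ℕ) : R) ∈ Ideal.span ({(p : R)} : Set R))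
  (hrk : ∀ q : PrimeSpectrum R, Module.rankAtStalk A q = p)
include hu hχ hχp hrk

theorem multMap_surjective : Function.Surjective (multMap χ A) := by
  have hkill := convPow_eq_one_of_prime (A := A) hrk
  have h : ∀ i : ℕ, OortTate.eigenAug R A p χ i ≤ Subalgebra.toSubmodule (multMap χ A).range := by
    intro i
    obtain ⟨t, ht1, ht, he⟩ := exists_eigen_rep (χ := χ) (A := A) i
    rw [he, ← eigenAug_one_pow hu hχ hχp hrk t ht1 ht]
    clear he ht
    have hbase : OortTate.eigenAug R A p χ 1 ≤ Subalgebra.toSubmodule (multMap χ A).range := fun z hz =>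
      ⟨TensorAlgebra.ι R ⟨z, hz⟩, by simp⟩
    induction t, ht1 using Nat.le_induction with
    | base => rwa [pow_one]
    | succ n _ ih =>
      rw [pow_succ]
      exact Submodule.mul_le.2 fun a ha b hb => Subalgebra.mul_mem _ (ih ha) (hbase hb)
  intro a
  have h1 : a - algebraMap R A (Bialgebra.counitAlgHom R A a) ∈
      ⨆ i : Fin (p - 1), OortTate.eigenAug R A p χ (i : ℕ) := by
    rw [iSup_eigenAug hχ hkill hu]
    exact sub_algebraMap_mem' a
  have h2 : a ∈ (multMap χ A).range := by
    have := (iSup_le fun i : Fin (p - 1) => h i) h1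
    simpa using Subalgebra.add_mem _ (this : _ ∈ (multMap χ A).range)
      (Subalgebra.algebraMap_mem _ (Bialgebra.counitAlgHom R A a))
  exact h2

theorem ker_multMap_eq : RingHom.ker (multMap χ A) = Ideal.span (relSet χ A) := by
  classical
  refine le_antisymm (fun x hx => ?_) span_relSet_le_ker
  let T := TensorAlgebra R (OortTate.eigenAug R A p χ 1)
  let N := LinearMap.range (TensorAlgebra.ι R (M := OortTate.eigenAug R A p χ 1))
  obtain ⟨s, hs, j, hj, rfl⟩ := Submodule.mem_sup.1 (mem_sup_relations (A := A) x)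
  have hπs : multMap χ A s = 0 := by
    have h1 : multMap χ A j = 0 := span_relSet_le_ker hj
    have h2 : multMap χ A (s + j) = 0 := hx
    rwa [map_add, h1, add_zero] at h2
  suffices s = 0 by
    rw [this, zero_add]
    exact hj
  obtain ⟨μ, hμ⟩ := (Submodule.mem_iSup_iff_exists_dfinsupp _ _).1 hs
  have hp := (Fact.out : p.Prime)
  have hsum : s = ∑ i : Fin p, (μ i : T) := by
    rw [← hμ, DFinsupp.lsum_apply_apply, DFinsupp.sumAddHom_apply]
    refine (Finset.sum_subset (Finset.subset_univ _) fun i _ hi => ?_).trans (Finset.sum_congr rfl fun i _ => rfl)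
    simp [DFinsupp.notMem_support_iff.1 hi]
  have hNmem : ∀ (n : ℕ), 1 ≤ n → ∀ z ∈ N ^ n, multMap χ A z ∈ OortTate.eigenAug R A p χ n := by
    intro n hn
    induction n, hn using Nat.le_induction with
    | base => rintro z hz; rw [pow_one] at hz; obtain ⟨w, rfl⟩ := hz; simp
    | succ n _ ih =>
      intro z hz
      rw [pow_succ] at hz
      induction hz using Submodule.mul_induction_on' with
      | mem_mul_mem a ha b hb =>
        obtain ⟨w, rfl⟩ := hb
        rw [map_mul]
        exact mul_mem_eigenAug (ih a ha) (by simp)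
      | add a _ b _ ha hb => rw [map_add]; exact Submodule.add_mem _ ha hb
  have hpos : ∀ i : Fin p, (i : ℕ) ≠ 0 → multMap χ A (μ i : T) = 0 := by
    intro i hi
    have e := congrArg (fun z => OortTate.proj R A p u χ (i : ℕ)
      (z - algebraMap R A (Bialgebra.counitAlgHom R A z))) hπs
    simp only [map_zero, sub_zero] at e
    rw [hsum, map_sum, map_sum, map_sum, ← Finset.sum_sub_distrib, map_sum, Finset.sum_eq_single i] at e
    · have hm := hNmem _ (Nat.pos_of_ne_zero hi) _ (μ i).2
      rwa [(mem_eigenAug.1 hm).1, map_zero, sub_zero, proj_of_mem hχ hu hm, if_pos rfl] at e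
    · intro j _ hji
      by_cases hj0 : (j : ℕ) = 0
      · have hm : (μ j : T) ∈ N ^ (j : ℕ) := (μ j).2
        replace hm : (μ j : T) ∈ N ^ 0 := hj0 ▸ hm
        rw [pow_zero] at hm
        obtain ⟨r, hr⟩ := Submodule.mem_one.1 hm
        rw [← hr, AlgHom.commutes, AlgHom.commutes, Algebra.algebraMap_self_apply, sub_self, map_zero]
      · have hm := hNmem _ (Nat.pos_of_ne_zero hj0) _ (μ j).2
        rw [(mem_eigenAug.1 hm).1, map_zero, sub_zero, proj_of_mem hχ hu hm, if_neg]
        intro hmod
        apply hji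
        refine Fin.ext ?_
        have hi' := i.2
        have hj' := j.2
        rcases eq_or_lt_of_le (show (i : ℕ) ≤ p - 1 by omega) with h' | h' <;>
          rcases eq_or_lt_of_le (show (j : ℕ) ≤ p - 1 by omega) with h'' | h''
        · omega
        · rw [h', Nat.mod_self, Nat.mod_eq_of_lt h''] at hmod; omega
        · rw [h'', Nat.mod_self, Nat.mod_eq_of_lt h'] at hmod; omega
        · rw [Nat.mod_eq_of_lt h', Nat.mod_eq_of_lt h''] at hmod; omega
    · simp
  have hall : ∀ i : Fin p, multMap χ A (μ i : T) = 0 := by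
    intro i
    by_cases hi : (i : ℕ) = 0
    · have e := hπs
      rw [hsum, map_sum, Finset.sum_eq_single i] at e
      · exact e
      · intro j _ hji
        exact hpos j fun h => hji (Fin.ext (h.trans hi.symm))
      · simp
    · exact hpos i hi
  rw [hsum]
  refine Finset.sum_eq_zero fun i _ => ?_
  by_contra hne
  obtain ⟨q, hq, hle⟩ := Ideal.exists_le_maximal (Submodule.span R {(μ i : T)}).annihilator (by
    intro h
    rw [Submodule.annihilator_eq_top_iff, Submodule.span_singleton_eq_bot] at h
    exact hne h)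
  haveI := hq.isPrime
  obtain ⟨y, hy⟩ := exists_isLocalGen (A := A) hu hχ hχp hrk q
  let ιy : T := TensorAlgebra.ι R ⟨y, hy.mem⟩
  have hloc : ∀ n, ∀ z ∈ N ^ n, ∃ s ∉ q, ∃ c : R, s • z = c • ιy ^ n := by
    intro n
    induction n with
    | zero =>
      intro z hz
      rw [pow_zero] at hz
      obtain ⟨r, hr⟩ := Submodule.mem_one.1 hz
      exact ⟨1, fun h => hq.ne_top ((Ideal.eq_top_iff_one _).2 h), r, by
        rw [one_smul, pow_zero, ← hr, Algebra.algebraMap_eq_smul_one]⟩
    | succ n ih =>
      intro z hz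
      rw [pow_succ] at hz
      induction hz using Submodule.mul_induction_on' with
      | mem_mul_mem a ha b hb =>
        obtain ⟨w, rfl⟩ := hb
        obtain ⟨s1, hs1, c1, hc1⟩ := ih a ha
        obtain ⟨s2, hs2, c2, hc2⟩ := hy.eigen hu hχ le_rfl (by have := hp.two_le; omega) w.2
        have hc2' : s2 • w = c2 • (⟨y, hy.mem⟩ : OortTate.eigenAug R A p χ 1) := Subtype.ext (by simpa using hc2)
        refine ⟨s1 * s2, fun h => (Ideal.IsPrime.mem_or_mem inferInstance h).elim hs1 hs2, c1 * c2, ?_⟩
        rw [← smul_mul_smul_comm, hc1, ← map_smul, hc2', map_smul, smul_mul_smul_comm, pow_succ]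
      | add a _ b _ ha hb =>
        obtain ⟨s1, hs1, c1, hc1⟩ := ha
        obtain ⟨s2, hs2, c2, hc2⟩ := hb
        refine ⟨s1 * s2, fun h => (Ideal.IsPrime.mem_or_mem inferInstance h).elim hs1 hs2, s2 * c1 + s1 * c2, ?_⟩
        rw [smul_add, add_smul, mul_comm s1 s2, mul_smul, hc1, mul_comm s2 s1, mul_smul, hc2, mul_smul, mul_smul]
  obtain ⟨s1, hs1, c, hc⟩ := hloc _ _ (μ i).2
  have e := congrArg (multMap χ A) hc
  rw [map_smul, hall i, smul_zero, map_smul, map_pow] at e
  simp only [ιy, TensorAlgebra.lift_ι_apply, Submodule.subtype_apply] at e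
  obtain ⟨s2, hs2, h2⟩ := hy.indep_pow i.2 e.symm
  refine (fun h => (Ideal.IsPrime.mem_or_mem inferInstance h).elim hs2 hs1) (hle ?_ : s2 * s1 ∈ q)
  rw [Submodule.mem_annihilator_span_singleton, mul_smul, hc, smul_smul, h2, zero_smul]

end

end Groth.Agent.FinHopf
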