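import Groth.Agent.FinHopf.Presentation
import Groth.Agent.FinHopf.Pairing
import Groth.Agent.FinHopf.DualRank

/-! Oort-Tate: a group scheme of order `p` is determined by the first eigenspace and the two product maps. -/

set_option autoImplicit false
universe u

open TensorProduct WithConv

noncomputable section

namespace Groth.Agent.FinHopf

variable {p : ℕ} [Fact p.Prime] {R : Type u} [CommRing R] {χ : (ZMod p)ˣ →* Rˣ}

section Single

variable {A : Type u} [CommRing A] [HopfAlgebra R A]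

theorem prod_mem_eigen {n : ℕ} (hn : 1 ≤ n) : ∀ (f : Fin n → A),
    (∀ i, f i ∈ OortTate.eigenAug R A p χ 1) → ∏ i, f i ∈ OortTate.eigenAug R A p χ n := by
  induction n, hn using Nat.le_induction with
  | base => intro f hf; rw [Fin.prod_univ_one]; exact hf 0
  | succ n _ ih =>
    intro f hf
    rw [Fin.prod_univ_castSucc]
    exact mul_mem_eigenAug (ih _ fun i => hf _) (hf _)

variable [Module.Finite R A] [Module.Projective R A]
  {u : R} (hu : u * ((p - 1 : ℕ) : R) = 1)
  (hχ : ∀ m : (ZMod p)ˣ, m ≠ 1 → IsUnit ((χ m : R) - 1))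
  (hχp : ∀ m : (ZMod p)ˣ, ((χ m : Rˣ) : R) - (((m : ZMod p).val : ℕ) : R) ∈ Ideal.span ({(p : R)} : Set R))
  (hrk : ∀ q : PrimeSpectrum R, Module.rankAtStalk A q = p)
include hu hχ hχp hrk

/-- `A` is spanned by `1` and products of at most `p - 1` first eigenvectors. -/
theorem eigen_induction {P : A → Prop} (h0 : P 0) (hadd : ∀ a b, P a → P b → P (a + b))
    (hsmul : ∀ (r : R) a, P a → P (r • a)) (h1 : P 1)
    (hprod : ∀ (t : ℕ), 1 ≤ t → t ≤ p - 1 → ∀ z : Fin t → A,
      (∀ i, z i ∈ OortTate.eigenAug R A p χ 1) → P (∏ i, z i)) (a : A) : P a := by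
  have hkill := convPow_eq_one_of_prime (A := A) hrk
  let S : Submodule R A :=
    { carrier := {x | P x}, add_mem' := fun {x y} => hadd x y, zero_mem' := h0, smul_mem' := hsmul }
  have hS : ∀ x, x ∈ S ↔ P x := fun _ => Iff.rfl
  have h : ∀ i : ℕ, OortTate.eigenAug R A p χ i ≤ S := by
    intro i
    obtain ⟨t, ht1, ht, he⟩ := exists_eigen_rep (χ := χ) (A := A) i
    rw [he, ← eigenAug_one_pow hu hχ hχp hrk t ht1 ht, Submodule.pow_eq_span_pow_set, Submodule.span_le]
    intro x hx
    obtain ⟨f, rfl⟩ := Set.mem_pow.1 hx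
    rw [List.prod_ofFn]
    exact hprod t ht1 ht (fun i => (f i : A)) fun i => (f i).2
  have h2 : a - algebraMap R A (Bialgebra.counitAlgHom R A a) ∈
      ⨆ i : Fin (p - 1), OortTate.eigenAug R A p χ (i : ℕ) := by
    rw [iSup_eigenAug hχ hkill hu]
    exact sub_algebraMap_mem' a
  have h3 := hadd _ _ ((hS _).1 (iSup_le (fun i : Fin (p - 1) => h i) h2))
    (hsmul (Bialgebra.counitAlgHom R A a) 1 h1)
  rwa [← Algebra.algebraMap_eq_smul_one, sub_add_cancel] at h3

theorem algHom_ext_eigen {B : Type u} [CommRing B] [Algebra R B] {Φ Ψ : A →ₐ[R] B}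
    (h : ∀ z ∈ OortTate.eigenAug R A p χ 1, Φ z = Ψ z) : Φ = Ψ := by
  refine AlgHom.ext fun a => ?_
  induction a using eigen_induction hu hχ hχp hrk with
  | h0 => simp
  | hadd a b ha hb => rw [map_add, map_add, ha, hb]
  | hsmul r a ha => rw [map_smul, map_smul, ha]
  | h1 => simp
  | hprod t _ _ z hz => rw [map_prod, map_prod]; exact Finset.prod_congr rfl fun i _ => h _ (hz i)

/-- Linear maps on the first eigenspace compatible with `p`-fold products extend to algebra maps. -/
theorem exists_algHom_of_eigen {B : Type u} [CommRing B] [Algebra R B]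
    (θ : OortTate.eigenAug R A p χ 1 →ₗ[R] B)
    (hθ : ∀ (f : Fin p → OortTate.eigenAug R A p χ 1) (g : OortTate.eigenAug R A p χ 1),
      (g : A) = ∏ i, (f i : A) → θ g = ∏ i, θ (f i)) :
    ∃ Φ : A →ₐ[R] B, ∀ z : OortTate.eigenAug R A p χ 1, Φ (z : A) = θ z := by
  let L := TensorAlgebra.lift R θ
  have hπ := multMap_surjective (A := A) hu hχ hχp hrk
  have hker : RingHom.ker (multMap χ A) ≤ RingHom.ker L := by
    rw [ker_multMap_eq (A := A) hu hχ hχp hrk, Ideal.span_le]
    rintro _ ⟨f, g, hg, rfl⟩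
    change L (_ - _) = 0
    rw [map_sub, map_list_prod, List.map_ofFn, List.prod_ofFn]
    simp only [L, Function.comp_apply, TensorAlgebra.lift_ι_apply, hθ f g hg, sub_self]
  have hwd : ∀ x y, multMap χ A x = multMap χ A y → L x = L y := fun x y h => by
    rw [← sub_eq_zero, ← map_sub]
    exact hker (show multMap χ A (x - y) = 0 by rw [map_sub, h, sub_self])
  let s := Function.surjInv hπ
  have hs : ∀ a, multMap χ A (s a) = a := Function.surjInv_eq hπ
  refine ⟨
    { toFun := fun a => L (s a)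
      map_one' := (hwd _ 1 (by rw [hs, map_one])).trans (map_one L)
      map_mul' := fun a b => (hwd _ (s a * s b) (by rw [hs, map_mul, hs, hs])).trans (map_mul L _ _)
      map_zero' := (hwd _ 0 (by rw [hs, map_zero])).trans (map_zero L)
      map_add' := fun a b => (hwd _ (s a + s b) (by rw [hs, map_add, hs, hs])).trans (map_add L _ _)
      commutes' := fun r => (hwd _ (algebraMap R _ r) (by rw [hs, AlgHom.commutes])).trans (L.commutes r) },
    fun z => ?_⟩
  change L (s _) = θ z
  rw [hwd _ (TensorAlgebra.ι R z) (by rw [hs]; simp)]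
  simp [L]

end Single

section Dual

variable {A : Type u} [CommRing A] [HopfAlgebra R A] [Coalgebra.IsCocomm R A] [Module.Finite R A]
  [Module.Projective R A] {u : R} (hu : u * ((p - 1 : ℕ) : R) = 1)
  (hχ : ∀ m : (ZMod p)ˣ, m ≠ 1 → IsUnit ((χ m : R) - 1))
include hu hχ

theorem dual_eval_eq_zero {t s : ℕ} (ht1 : 1 ≤ t) (ht : t ≤ p - 1) (hs1 : 1 ≤ s) (hs : s ≤ p - 1) (hne : s ≠ t)
    {f : CartDual.D R A} (hf : f ∈ OortTate.eigenAug R (CartDual.D R A) p χ t)
    {a : A} (ha : a ∈ OortTate.eigenAug R A p χ s) : f.ofConv a = 0 := by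
  rw [dual_eval_projPi hu hχ hf a, projPi_apply, (mem_eigenAug.1 ha).1, map_zero, sub_zero,
    proj_of_mem hχ hu ha, if_neg, map_zero]
  intro h
  rcases eq_or_lt_of_le ht with ht' | ht' <;> rcases eq_or_lt_of_le hs with hs' | hs'
  · omega
  · rw [ht', Nat.mod_self, Nat.mod_eq_of_lt hs'] at h; omega
  · rw [hs', Nat.mod_self, Nat.mod_eq_of_lt ht'] at h; omega
  · rw [Nat.mod_eq_of_lt ht', Nat.mod_eq_of_lt hs'] at h; omega

end Dual

section Pair

variable {A : Type u} [CommRing A] [HopfAlgebra R A] [Coalgebra.IsCocomm R A] [Module.Finite R A]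
  [Module.Projective R A]
  {A' : Type u} [CommRing A'] [HopfAlgebra R A'] [Coalgebra.IsCocomm R A'] [Module.Finite R A']
  [Module.Projective R A'] {u : R} (hu : u * ((p - 1 : ℕ) : R) = 1)
  (hχ : ∀ m : (ZMod p)ˣ, m ≠ 1 → IsUnit ((χ m : R) - 1))
  (hχp : ∀ m : (ZMod p)ˣ, ((χ m : Rˣ) : R) - (((m : ZMod p).val : ℕ) : R) ∈ Ideal.span ({(p : R)} : Set R))
  (hrk : ∀ q : PrimeSpectrum R, Module.rankAtStalk A q = p)
  (hrk' : ∀ q : PrimeSpectrum R, Module.rankAtStalk A' q = p)
include hu hχ hχp hrk hrk'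

theorem nonempty_bialgEquiv (θ : OortTate.eigenAug R A p χ 1 ≃ₗ[R] OortTate.eigenAug R A' p χ 1)
    (hθ : ∀ (f : Fin p → OortTate.eigenAug R A p χ 1) (g : OortTate.eigenAug R A p χ 1),
      (g : A) = ∏ i, (f i : A) → ((θ g : OortTate.eigenAug R A' p χ 1) : A') = ∏ i, ((θ (f i)) : A'))
    (hθD : ∀ (φ : Fin p → OortTate.eigenAug R (CartDual.D R A) p χ 1)
      (φ' : Fin p → OortTate.eigenAug R (CartDual.D R A') p χ 1)
      (ψ : OortTate.eigenAug R (CartDual.D R A) p χ 1) (ψ' : OortTate.eigenAug R (CartDual.D R A') p χ 1),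
      (∀ i, ∀ x : OortTate.eigenAug R A p χ 1,
        CartDual.toDual R A (φ i : CartDual.D R A) (x : A) =
          CartDual.toDual R A' (φ' i : CartDual.D R A') ((θ x : OortTate.eigenAug R A' p χ 1) : A')) →
      (ψ : CartDual.D R A) = ∏ i, (φ i : CartDual.D R A) →
      (ψ' : CartDual.D R A') = ∏ i, (φ' i : CartDual.D R A') →
      ∀ x : OortTate.eigenAug R A p χ 1,
        CartDual.toDual R A (ψ : CartDual.D R A) (x : A) =
          CartDual.toDual R A' (ψ' : CartDual.D R A') ((θ x : OortTate.eigenAug R A' p χ 1) : A')) :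
    Nonempty (A ≃ₐc[R] A') := by
  have hkill := convPow_eq_one_of_prime (A := A) hrk
  have hrkD' : ∀ q : PrimeSpectrum R, Module.rankAtStalk (CartDual.D R A') q = p := fun q => by
    rw [rankAtStalk_cartDual, hrk']
  -- the algebra isomorphism
  obtain ⟨Θ, hΘ⟩ := exists_algHom_of_eigen hu hχ hχp hrk
    ((OortTate.eigenAug R A' p χ 1).subtype ∘ₗ θ.toLinearMap) hθ
  obtain ⟨Θ', hΘ'⟩ := exists_algHom_of_eigen hu hχ hχp hrk'
    ((OortTate.eigenAug R A p χ 1).subtype ∘ₗ θ.symm.toLinearMap) (fun f g hg => by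
      have e := hθ (fun i => θ.symm (f i)) ⟨_, prod_fin_mem fun i => θ.symm (f i)⟩ rfl
      simp only [LinearEquiv.apply_symm_apply, ← hg] at e
      simp only [LinearMap.comp_apply, LinearEquiv.coe_coe, Submodule.subtype_apply]
      rw [← Subtype.ext e, LinearEquiv.symm_apply_apply])
  simp only [LinearMap.comp_apply, LinearEquiv.coe_coe, Submodule.subtype_apply] at hΘ hΘ'
  have h12 : Θ.comp Θ' = AlgHom.id R A' := algHom_ext_eigen hu hχ hχp hrk' fun z hz => by
    rw [AlgHom.comp_apply, hΘ' ⟨z, hz⟩, hΘ, LinearEquiv.apply_symm_apply, AlgHom.id_apply]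
  have h21 : Θ'.comp Θ = AlgHom.id R A := algHom_ext_eigen hu hχ hχp hrk fun z hz => by
    rw [AlgHom.comp_apply, hΘ ⟨z, hz⟩, hΘ', LinearEquiv.symm_apply_apply, AlgHom.id_apply]
  have hcounit : (Bialgebra.counitAlgHom R A').comp Θ = Bialgebra.counitAlgHom R A :=
    algHom_ext_eigen hu hχ hχp hrk fun z hz => by
      rw [AlgHom.comp_apply, hΘ ⟨z, hz⟩, (mem_eigenAug.1 (θ ⟨z, hz⟩).2).1, (mem_eigenAug.1 hz).1]
  -- the transpose of the first eigenspaces
  choose τ hτ using fun f' : OortTate.eigenAug R (CartDual.D R A') p χ 1 =>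
    (dual_eigen_bijective (A := A) hu hχ hkill 1).2
      (((CartDual.toDual R A') (f' : CartDual.D R A')).comp
        ((OortTate.eigenAug R A' p χ 1).subtype ∘ₗ θ.toLinearMap))
  have hτ' : ∀ f' (x : OortTate.eigenAug R A p χ 1),
      (τ f' : CartDual.D R A).ofConv (x : A) = (f' : CartDual.D R A').ofConv (θ x : A') := fun f' x =>
    LinearMap.congr_fun (hτ f') x
  have hinj : ∀ {f g : OortTate.eigenAug R (CartDual.D R A) p χ 1},
      (∀ x : OortTate.eigenAug R A p χ 1, (f : CartDual.D R A).ofConv (x : A) = (g : CartDual.D R A).ofConv (x : A)) →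
        f = g := fun h => (dual_eigen_bijective (A := A) hu hχ hkill 1).1 (LinearMap.ext h)
  let τl : OortTate.eigenAug R (CartDual.D R A') p χ 1 →ₗ[R] CartDual.D R A :=
    { toFun := fun f' => (τ f' : CartDual.D R A)
      map_add' := fun f g => by
        rw [← Submodule.coe_add]
        exact congrArg Subtype.val (hinj fun x => by simp [hτ'])
      map_smul' := fun r f => by
        rw [RingHom.id_apply, ← Submodule.coe_smul]
        exact congrArg Subtype.val (hinj fun x => by simp [hτ']) }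
  obtain ⟨Ψ, hΨ⟩ := exists_algHom_of_eigen hu hχ hχp hrkD' τl (fun f g hg => by
    have e : τ g = ⟨_, prod_fin_mem fun i => τ (f i)⟩ := hinj fun x => by
      rw [hτ']
      exact (hθD (fun i => τ (f i)) f ⟨_, prod_fin_mem fun i => τ (f i)⟩ g (fun i x => hτ' _ x) rfl hg x).symm
    exact congrArg Subtype.val e)
  let T : CartDual.D R A' →ₗ[R] CartDual.D R A :=
    (CartDual.toDual R A).symm.toLinearMap ∘ₗ Θ.toLinearMap.dualMap ∘ₗ (CartDual.toDual R A').toLinearMap
  have hT : ∀ f a, (T f).ofConv a = f.ofConv (Θ a) := fun _ _ => rfl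
  -- the transpose is the algebra map
  have hΨT : ∀ f, Ψ f = T f := by
    intro f
    induction f using eigen_induction (A := CartDual.D R A') hu hχ hχp hrkD' with
    | h0 => simp
    | hadd a b ha hb => rw [map_add, map_add, ha, hb]
    | hsmul r a ha => rw [map_smul, map_smul, ha]
    | h1 =>
      refine WithConv.ext (LinearMap.ext fun a => ?_)
      rw [map_one, hT, LinearMap.convOne_apply, LinearMap.convOne_apply]
      exact congrArg (algebraMap R R) (AlgHom.congr_fun hcounit a).symm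
    | hprod t ht1 ht f hf =>
      have e : Ψ (∏ i, f i) = ∏ i, (τ ⟨f i, hf i⟩ : CartDual.D R A) := by
        rw [map_prod]
        exact Finset.prod_congr rfl fun i _ => hΨ ⟨f i, hf i⟩
      rw [e]
      refine WithConv.ext (LinearMap.ext fun a => ?_)
      rw [hT]
      have hm : ∏ i, (τ ⟨f i, hf i⟩ : CartDual.D R A) ∈ OortTate.eigenAug R (CartDual.D R A) p χ t :=
        prod_mem_eigen ht1 _ fun i => (τ _).2
      have hm' : ∏ i, f i ∈ OortTate.eigenAug R (CartDual.D R A') p χ t := prod_mem_eigen ht1 _ hf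
      induction a using eigen_induction hu hχ hχp hrk with
      | h0 => simp
      | hadd a b ha hb => rw [map_add, map_add, map_add, ha, hb]
      | hsmul r a ha => rw [map_smul, map_smul, map_smul, ha]
      | h1 => rw [map_one Θ, ← counit_dual, ← counit_dual, (mem_eigenAug.1 hm).1, (mem_eigenAug.1 hm').1]
      | hprod s hs1 hs z hz =>
        have hΘz : Θ (∏ i, z i) = ∏ i, ((θ ⟨z i, hz i⟩ : OortTate.eigenAug R A' p χ 1) : A') := by
          rw [map_prod]
          exact Finset.prod_congr rfl fun i _ => hΘ ⟨z i, hz i⟩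
        rw [hΘz]
        rcases eq_or_ne s t with rfl | hne
        · obtain ⟨w, hw⟩ := exists_ygen_pow R hu hχ s hs1
          rw [pairing hu hχ hχp hrk hs1 hs hw _ (fun i => (τ _).2) z hz,
            pairing hu hχ hχp hrk' hs1 hs hw _ hf _ fun i => (θ _).2]
          exact congrArg (w * ·) (Finset.prod_congr rfl fun i _ => hτ' ⟨f i, hf i⟩ ⟨z i, hz i⟩)
        · rw [dual_eval_eq_zero hu hχ ht1 ht hs1 hs hne hm (prod_mem_eigen hs1 z hz),
            dual_eval_eq_zero hu hχ ht1 ht hs1 hs hne hm' (prod_mem_eigen hs1 _ fun i => (θ _).2)]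
  have hmul : ∀ f g, T (f * g) = T f * T g := fun f g => by rw [← hΨT, ← hΨT, ← hΨT, map_mul]
  -- compatibility with the comultiplication
  have hcomul : (Algebra.TensorProduct.map Θ Θ).comp (Bialgebra.comulAlgHom R A) =
      (Bialgebra.comulAlgHom R A').comp Θ := by
    refine AlgHom.ext fun a => ?_
    rw [← sub_eq_zero]
    refine (Module.forall_dual_apply_eq_zero_iff R _).1 fun φ => ?_
    obtain ⟨y, rfl⟩ := (CartDual.ev₂ R A').surjective φ
    rw [map_sub, sub_eq_zero]
    induction y using TensorProduct.induction_on with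
    | zero => simp
    | add y y' hy hy' => simp only [map_add, LinearMap.add_apply, hy, hy']
    | tmul f g =>
      simp only [AlgHom.comp_apply, Bialgebra.comulAlgHom_apply]
      have e1 : ∀ X : A ⊗[R] A, CartDual.ev₂ R A' (f ⊗ₜ g) (Algebra.TensorProduct.map Θ Θ X) =
          CartDual.ev₂ R A (T f ⊗ₜ T g) X := by
        intro X
        induction X using TensorProduct.induction_on with
        | zero => simp
        | add X Y hX hY => simp only [map_add, hX, hY]
        | tmul b c => simp [CartDual.coe_apply, hT]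
      have e2 : ∀ {B : Type u} [CommRing B] [HopfAlgebra R B] [Module.Finite R B] [Module.Projective R B]
          (f g : CartDual.D R B) (b : B),
          CartDual.ev₂ R B (f ⊗ₜ g) (Coalgebra.comul (R := R) b) = (f * g).ofConv b := by
        intro B _ _ _ _ f g b
        rw [CartDual.ev₂_tmul_eq', LinearMap.convMul_apply]
        rfl
      rw [e1, e2, e2, ← hT, hmul]
  exact ⟨BialgEquiv.ofAlgEquiv (AlgEquiv.ofAlgHom Θ Θ' h12 h21) hcounit hcomul⟩

end Pair

end Groth.Agent.FinHopf
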